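import Cfsg.Agent.Lib.H21.Subsec3

/-!
# Kernels of blocks
-/

set_option autoImplicit false
set_option linter.unusedSectionVars false
set_option linter.style.haveILetI false
set_option linter.unusedSimpArgs false

namespace Cfsg.Agent.H21

open scoped ComplexConjugate
open Cfsg Module Cfsg.Agent.H22

universe u

variable {G : Type u} [Group G] [Finite G]
variable {p : ℕ} [hp : Fact p.Prime] {M : Ideal AlgInt} [hMp : M.IsPrime]

/-- A subgroup in the kernel of every character of a block has order prime to `p`. -/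
theorem card_blockKer_coprime (hM : IsPModular p M) {B : Set (IrrCharacter G)} (hB : IsPBlock M B)
    (K : Subgroup G) (hK : ∀ χ ∈ B, ∀ x ∈ K, χ.1 x = χ.1 1) : ¬ p ∣ Nat.card K := by
  classical
  intro hd
  obtain ⟨y, hy⟩ := exists_prime_orderOf_dvd_card' p hd
  have h1 : blockCoeff B (y : G) = 0 := by
    apply blockCoeff_eq_zero_of_singular hM hB
    rw [Subgroup.orderOf_coe, hy]
  have h2 : blockCoeff B (y : G) = blockCoeff B (1 : G) := by
    unfold blockCoeff
    congr 1
    apply finsum_mem_congr rfl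
    intro χ hχ
    rw [hK χ hχ y y.2]
  rw [h2] at h1
  exact blockCoeff_one_ne_zero (block_nonempty hB) h1

/-- Characters in one block have the same normal `p'`-subgroups in their kernels. -/
theorem block_trivial_on_normal (hM : IsPModular p M)
    (N : Subgroup G) [hN : N.Normal] (hcop : ¬ p ∣ Nat.card N) {χ ψ : IrrCharacter G}
    (hχψ : SameBlock M χ.1 ψ.1) (hχ : ∀ n ∈ N, χ.1 n = χ.1 1) (n : G) (hn : n ∈ N) :
    ψ.1 n = ψ.1 1 := by
  classical
  by_contra hne
  let a : G → ℂ := fun x => if x ∈ N then 1 else 0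
  have hcl : IsClassFunction G a := by
    intro x k
    simp only [a]
    have : k * x * k⁻¹ ∈ N ↔ x ∈ N := by
      constructor
      · intro h
        have := hN.conj_mem _ h k⁻¹
        simpa [mul_assoc] using this
      · intro h
        exact hN.conj_mem _ h k
    simp only [this]
  have hcardne : ((Nat.card N : ℕ) : AlgInt) ∉ M := by
    rw [natCast_mem_iff hM]
    exact hcop
  let u : ℂ := (Nat.card N : ℂ)⁻¹
  have hu : MemLocalRing M u := by
    refine ⟨1, ((Nat.card N : ℕ) : AlgInt), hcardne, ?_⟩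
    have : (((Nat.card N : ℕ) : AlgInt) : ℂ) = (Nat.card N : ℂ) :=
      map_natCast (algebraMap AlgInt ℂ) _
    rw [this]
    simp [u]
  have hcl' : IsClassFunction G (fun x => u * a x) := fun x k => by
    simp only [hcl x k]
  have hR : ∀ g, MemLocalRing M (u * a g) := by
    intro g
    refine mlr_mul hu ?_
    simp only [a]
    split_ifs
    · exact mlr_one
    · exact mlr_zero
  have hZ := om_mem_ZR hcl' hR
  have hcong := ZR_congr (M := M) hZ hχψ
  have hsum : ∀ θ : IrrCharacter G, ∑ g, u * a g * θ.1 g = u * ∑ n : G, if n ∈ N then θ.1 n else 0 := by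
    intro θ
    rw [Finset.mul_sum]
    refine Finset.sum_congr rfl fun g _ => ?_
    simp only [a]
    split_ifs <;> simp
  have h0 : om ψ (fun x => u * a x) = 0 := by
    unfold om
    rw [hsum ψ]
    have := sum_normal_mul_eq_zero N ψ ⟨n, hn, hne⟩ 1
    simp only [mul_one] at this
    rw [this]
    simp
  have hne0 : (Nat.card N : ℂ) ≠ 0 := by simp [Nat.card_pos.ne']
  have h1 : om χ (fun x => u * a x) = 1 := by
    unfold om
    rw [hsum]
    have h2 : ∑ n : G, (if n ∈ N then χ.1 n else 0) = (Nat.card N : ℂ) * χ.1 1 := by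
      have h3 : ∀ n : G, (if n ∈ N then χ.1 n else 0) = if n ∈ N then χ.1 1 else 0 := by
        intro n
        split_ifs with hn'
        · exact hχ n hn'
        · rfl
      simp only [h3]
      rw [Finset.sum_ite, Finset.sum_const_zero, add_zero, Finset.sum_const, nsmul_eq_mul]
      congr 1
      rw [Nat.card_eq_fintype_card, Fintype.card_subtype]
    rw [h2]
    have hχ1 : χ.1 1 ≠ 0 := by
      rw [one_eq_charDegree (isCharacter_of_irr χ.2)]
      exact_mod_cast (irr_charDegree_pos χ.2).ne'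
    simp only [u]
    field_simp
  simp only [h0, h1, sub_zero] at hcong
  exact not_mli_one hcong

/-- Block orthogonality on regular elements. -/
theorem sum_regular_eq_zero (hM : IsPModular p M) {χ ψ : IrrCharacter G}
    (h : ¬ SameBlock M χ.1 ψ.1) :
    ∑ᶠ x ∈ {x : G | ¬ p ∣ orderOf x}, χ.1 x * conj (ψ.1 x) = 0 := by
  classical
  have h1 : crt p χ ψ = 0 := crt_eq_zero hM (fun hc => h (sameBlock_symm hc))
  rw [crt_eq_sum] at h1
  have hne : ((Nat.card G : ℂ))⁻¹ ≠ 0 := inv_ne_zero (by exact_mod_cast Nat.card_pos.ne')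
  have h2 := (mul_eq_zero.mp h1).resolve_left hne
  rw [finsum_mem_eq_finite_toFinset_sum _ (Set.toFinite _), ← h2]
  rw [← Finset.sum_filter_add_sum_filter_not Finset.univ (fun g : G => ¬ p ∣ orderOf g)]
  have h3 : ∑ g ∈ Finset.univ.filter (fun g : G => ¬ ¬ p ∣ orderOf g), rp p χ.1 g * conj (ψ.1 g) = 0 := by
    refine Finset.sum_eq_zero fun g hg => ?_
    rw [rp_of_sing _ (not_not.mp (Finset.mem_filter.mp hg).2), zero_mul]
  rw [h3, add_zero]
  refine Finset.sum_congr ?_ fun g hg => ?_
  · ext g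
    simp
  · rw [rp_of_reg _ (Finset.mem_filter.mp hg).2]

/-- The kernel of a block. -/
theorem blockKer_main (hM : IsPModular p M) (B : Set (IrrCharacter G)) (hB : IsPBlock M B)
    (χ : IrrCharacter G) (hχ : χ ∈ B) :
    ∃ K : Subgroup G, K.Normal ∧ (K : Set G) = blockKer B ∧ ¬ p ∣ Nat.card K ∧
      (∀ g ∈ K, χ.1 g = χ.1 1) ∧
      ∀ N : Subgroup G, N.Normal → ¬ p ∣ Nat.card N → (∀ g ∈ N, χ.1 g = χ.1 1) → N ≤ K := by
  classical
  let K : Subgroup G := ⨅ ψ : B, charKer ψ.1.1 (isCharacter_of_irr ψ.1.2)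
  have hmem : ∀ g, g ∈ K ↔ ∀ ψ ∈ B, ψ.1 g = ψ.1 1 := by
    intro g
    simp only [K, Subgroup.mem_iInf, mem_charKer, Subtype.forall]
  have hn : K.Normal := by
    haveI : ∀ ψ : B, (charKer ψ.1.1 (isCharacter_of_irr ψ.1.2)).Normal := fun ψ => charKer_normal _ _
    exact Subgroup.normal_iInf_normal (fun ψ => inferInstance)
  refine ⟨K, hn, ?_, card_blockKer_coprime hM hB K (fun ψ hψ x hx => (hmem x).mp hx ψ hψ),
    fun g hg => (hmem g).mp hg χ hχ, fun N hN hcop htriv g hg => ?_⟩
  · ext g
    exact hmem g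
  · rw [hmem]
    intro ψ hψ
    haveI := hN
    exact block_trivial_on_normal hM N hcop (block_sameBlock hB hχ hψ) htriv g hg

end Cfsg.Agent.H21
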