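import Cfsg.Agent.Lib.H21.NormalBlocks
import Cfsg.Agent.Lib.H21.InducedBlock
import Cfsg.Agent.Lib.H01.Fitting

/-!
# Small statements on defect groups and induced blocks
-/

set_option autoImplicit false
set_option linter.unusedSectionVars false
set_option linter.style.haveILetI false
set_option linter.unusedSimpArgs false

namespace Cfsg.Agent.H21

open scoped ComplexConjugate
open Cfsg Module Cfsg.Agent.H22

universe u

variable {G : Type u} [Group G] [Finite G]
variable {p : ℕ} [hp : Fact p.Prime] {M : Ideal AlgInt} [hMp : M.IsPrime]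

/-- A Sylow subgroup of a subgroup is a maximal `p`-subgroup among subgroups of it. -/
theorem map_sylow_maximal (C : Subgroup G) (T : Sylow p C) (U : Subgroup G) (hU : IsPGroup p U)
    (hle : (T : Subgroup C).map C.subtype ≤ U) (hUC : U ≤ C) :
    U = (T : Subgroup C).map C.subtype := by
  have hU' : IsPGroup p (U.subgroupOf C) :=
    hU.comap_of_injective C.subtype (Subgroup.subtype_injective C)
  have hT : (T : Subgroup C) ≤ U.subgroupOf C := by
    intro t ht
    exact hle ⟨t, ht, rfl⟩
  have h := T.is_maximal' hU' hT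
  conv_lhs => rw [← Subgroup.map_subgroupOf_eq_of_le hUC]
  rw [← h]

/-- The defect group contains the largest normal `p`-subgroup. -/
theorem pCore_le_defect (hM : IsPModular p M) {B : Set (IrrCharacter G)} (hB : IsPBlock M B)
    {D : Subgroup G} (hD : IsDefectGroup p M B D) : pCore p G ≤ D := by
  classical
  obtain ⟨g, hg, T, rfl⟩ := hD
  obtain ⟨χ, hχ⟩ := block_nonempty hB
  haveI hn : (pCore p G).Normal := Cfsg.Agent.H01.pCore_normal p
  have hgc : g ∈ Subgroup.centralizer (pCore p G : Set G) := by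
    by_contra hc
    exact hg.2.2 χ hχ (cc_mli_of_not_centralizer hM (pCore p G) (Cfsg.Agent.H01.pCore_isPGroup p) hc χ)
  have hle : pCore p G ≤ Subgroup.centralizer ({g} : Set G) := by
    intro x hx
    rw [Subgroup.mem_centralizer_singleton_iff]
    exact Subgroup.mem_centralizer_iff.mp hgc x hx
  have hn' : ((pCore p G).subgroupOf (Subgroup.centralizer ({g} : Set G))).Normal := inferInstance
  have hp' : IsPGroup p ((pCore p G).subgroupOf (Subgroup.centralizer ({g} : Set G))) :=
    (Cfsg.Agent.H01.pCore_isPGroup p).comap_of_injective _ (Subgroup.subtype_injective _)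
  have h1 : (pCore p G).subgroupOf (Subgroup.centralizer ({g} : Set G)) ≤ T :=
    (Cfsg.Agent.H01.le_pCore hn' hp').trans (Cfsg.Agent.H01.pCore_le_sylow p T)
  intro x hx
  refine ⟨⟨x, hle hx⟩, h1 ?_, rfl⟩
  rw [Subgroup.mem_subgroupOf]
  exact hx

/-- The central character of an irreducible induced character. -/
theorem cc_induced_irr (H : Subgroup G) (ξ : IrrCharacter H)
    (hind : IsIrrCharacter G (indFun H ξ.1)) (g : G) :
    cc g ⟨indFun H ξ.1, hind⟩ = inducedCentralChar H ξ.1 g := by
  classical
  have hne : (H.index : ℂ) ≠ 0 := by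
    exact_mod_cast Subgroup.index_ne_zero_of_finite
  have hξ := irr_one_ne_zero' ξ
  rw [← om_classIndicator, ← om_indicator_eq]
  unfold om
  have h1 := sum_mul_indFun H ξ.1 (classIndicator_isClass g)
  have h2 : ((⟨indFun H ξ.1, hind⟩ : IrrCharacter G).1 1) = (H.index : ℂ) * ξ.1 1 := indFun_one H ξ.1
  rw [h2]
  have h3 : ∑ x, classIndicator g x * (⟨indFun H ξ.1, hind⟩ : IrrCharacter G).1 x =
      (H.index : ℂ) * ∑ h : H, classIndicator g h * ξ.1 h := h1
  rw [h3, mul_inv_rev, mul_assoc, inv_mul_cancel_left₀ hne]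

/-- The block of an irreducible character induced irreducibly. -/
theorem induced_block_of_irr [inst : Fintype G] (H : Subgroup G) (ξ : IrrCharacter H)
    (hind : IsIrrCharacter G (@indFun G _ inst H ξ.1)) :
    IsInducedBlock M H (blockOf M ξ.1) (blockOf M (@indFun G _ inst H ξ.1)) := by
  classical
  obtain rfl : inst = fintypeOfFiniteH22 := Subsingleton.elim _ _
  set χ₀ : IrrCharacter G := ⟨indFun H ξ.1, hind⟩ with hχ₀
  have hb : IsPBlock M (blockOf M ξ.1) := isBlock_blockOf ξ
  have hB : IsPBlock M (blockOf M χ₀.1) := isBlock_blockOf χ₀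
  refine ⟨hb, hB, fun ξ' hξ' χ hχ g => ?_⟩
  have h1 := indCC_congr (M := M) (block_sameBlock hb hξ' (self_mem_blockOf ξ)) g
  have h2 : MemLocalIdeal M (cc g χ₀ - cc g χ) :=
    block_sameBlock hB (self_mem_blockOf χ₀) hχ g
  rw [cc_induced_irr H ξ hind g] at h2
  have := mli_add h1 h2
  rw [sub_add_sub_cancel] at this
  exact this

/-- Every character of an inducing block lies under a character of the induced block. -/
theorem exists_above_induced (hM : IsPModular p M) {H : Subgroup G}
    {b : Set (IrrCharacter H)} {B : Set (IrrCharacter G)} (hind : IsInducedBlock M H b B)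
    {ξ : IrrCharacter H} (hξ : ξ ∈ b) :
    ∃ χ ∈ B, (@Finset.sum H ℂ _ (@Finset.univ H fintypeOfFiniteH22)
      fun n => conj (ξ.1 n) * χ.1 n) ≠ 0 := by
  classical
  obtain ⟨n, h1, -, h3, -⟩ := induced_blockPart hM hind hξ hind.2.1
  have h4 := h3 rfl
  have hn0 : (n : ℂ) ≠ 0 := by
    intro h
    have : n = 0 := by exact_mod_cast h
    subst this
    exact h4 (by simp)
  rw [← h1, blockPart_eq] at hn0
  obtain ⟨χ, -, hχ⟩ := Finset.exists_ne_zero_of_sum_ne_zero hn0
  have hχB : χ ∈ B := by
    by_contra hc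
    apply hχ
    rw [eB_apply_not_mem hc, zero_mul]
  refine ⟨χ, hχB, ?_⟩
  rw [eB_apply_mem hχB, one_mul] at hχ
  have h5 : classInner (indFun H ξ.1) χ.1 ≠ 0 := left_ne_zero_of_mul hχ
  rw [frobenius_reciprocity H ξ.1 χ.1 (isClassFunction_of_isCharacter (isCharacter_of_irr χ.2))] at h5
  have h6 := (inner_ne_iff _ _).mp h5
  intro h7
  apply h6
  have h8 := congrArg conj h7
  simpa [map_sum, mul_comm] using h8

end Cfsg.Agent.H21
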