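import Cfsg.Agent.Lib.H21.BlockMisc
import Cfsg.Agent.Lib.H21.Second5
import Cfsg.Agent.Lib.H21.RegProj
import Cfsg.Agent.Lib.H22.Degree
import Cfsg.Agent.Lib.H22.CharCore

/-!
# Central defect groups
-/

set_option autoImplicit false
set_option linter.unusedSectionVars false
set_option linter.style.haveILetI false
set_option linter.unusedSimpArgs false

namespace Cfsg.Agent.H21

open scoped ComplexConjugate
open Cfsg Module Cfsg.Agent.H22

universe u

variable {G : Type u} [Group G] [Finite G]
variable {p : ℕ} [hp : Fact p.Prime] {M : Ideal AlgInt} [hMp : M.IsPrime]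

/-- The order of a defect group. -/
theorem card_defect (hM : IsPModular p M) {B : Set (IrrCharacter G)} (hB : IsPBlock M B)
    {D : Subgroup G} (hD : IsDefectGroup p M B D) : Nat.card D = p ^ blockDefect p B := by
  classical
  obtain ⟨y, hy, T, rfl⟩ := hD
  have h1 := index_factorization_of_defect hM hB hy
  have h2 := factorization_index_add (p := p) y
  have h3 : Nat.card ((T : Subgroup (Subgroup.centralizer ({y} : Set G))).map (Subgroup.centralizer ({y} : Set G)).subtype) = Nat.card T := by
    exact Nat.card_congr (Subgroup.equivMapOfInjective _ _ (Subgroup.subtype_injective _)).symm.toEquiv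
  rw [h3, Sylow.card_eq_multiplicity, blockDefect_eq]
  congr 1
  omega

theorem orderOf_of_pGroup {D : Subgroup G} (hD : IsPGroup p D) {c : G} (hc : c ∈ D) :
    ∃ k, orderOf c = p ^ k := by
  obtain ⟨k, hk⟩ := hD ⟨c, hc⟩
  have h1 : c ^ (p ^ k) = 1 := by
    have := congrArg (Subtype.val) hk
    simpa using this
  obtain ⟨j, -, hj⟩ := (Nat.dvd_prime_pow hp.out).mp (orderOf_dvd_of_pow_eq_one h1)
  exact ⟨j, hj⟩

/-- A central `p`-subgroup and characters of minimal defect. -/
theorem defect_of_central (hM : IsPModular p M) {D : Subgroup G} (hD : IsPGroup p D)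
    (hDZ : D ≤ Subgroup.center G) (χ : IrrCharacter G)
    (hdeg : (charDegree χ.1).factorization p = D.index.factorization p) :
    IsDefectGroup p M (blockOf M χ.1) D ∧ ∀ g x : G, IsPPart p g x → x ∉ D → χ.1 g = 0 := by
  classical
  have hpp := hp.out
  obtain ⟨d, hd⟩ : ∃ d, Nat.card D = p ^ d := IsPGroup.iff_card.mp hD
  have hcard : Nat.card D * D.index = Nat.card G := D.card_mul_index
  have hν : (Nat.card G).factorization p = d + (charDegree χ.1).factorization p := by
    rw [hdeg, ← hcard, Nat.factorization_mul (Nat.card_pos.ne') Subgroup.index_ne_zero_of_finite, hd,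
      Finsupp.add_apply, Nat.Prime.factorization_pow hpp, Finsupp.single_eq_same]
  set a := (charDegree χ.1).factorization p with ha
  obtain ⟨y, hy1, -⟩ := row_int hM χ
  let Reg : Finset G := Finset.univ.filter fun g => ¬ p ∣ orderOf g
  let N : G → ℝ := fun g => ‖χ.1 g‖ ^ 2
  let S : ℝ := ∑ g ∈ Reg, N g
  have hN : ∀ g, (χ.1 g * conj (χ.1 g)) = ((N g : ℝ) : ℂ) := fun g => by
    simp only [N]
    rw [Complex.mul_conj, Complex.normSq_eq_norm_sq]
  have hcrt : crt p χ χ = (Nat.card G : ℂ)⁻¹ * ((S : ℝ) : ℂ) := by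
    rw [crt_eq_sum]
    congr 1
    simp only [S, Reg]
    rw [Complex.ofReal_sum, Finset.sum_filter]
    refine Finset.sum_congr rfl fun g _ => ?_
    by_cases hg : p ∣ orderOf g
    · rw [rp_of_sing _ hg, if_neg (not_not.mpr hg), zero_mul]
    · rw [rp_of_reg _ hg, if_pos hg]
      exact hN g
  have hsum : ∑ g, N g = (Nat.card G : ℝ) := by
    have h := sum_char_mul_conj χ
    have h2 : ((∑ g, N g : ℝ) : ℂ) = (Nat.card G : ℂ) := by
      rw [← h, Complex.ofReal_sum]
      exact Finset.sum_congr rfl fun g _ => (hN g).symm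
    exact_mod_cast h2
  have hN0 : ∀ g, 0 ≤ N g := fun g => by positivity
  -- the image
  have hpart : ∀ u ∈ D, ∀ z : G, ¬ p ∣ orderOf z → IsPPart p (u * z) u := by
    intro u hu z hz
    exact ⟨z, rfl, (Subgroup.mem_center_iff.mp (hDZ hu) z).symm, orderOf_of_pGroup hD hu, hz⟩
  let W : Finset G := (Finset.univ ×ˢ Reg).image fun q : D × G => (q.1 : G) * q.2
  have hinj : Set.InjOn (fun q : D × G => (q.1 : G) * q.2) (Finset.univ ×ˢ Reg : Finset (D × G)) := by
    rintro ⟨u, z⟩ h1 ⟨u', z'⟩ h2 h3
    simp only [Finset.coe_product, Set.mem_prod, Finset.mem_coe, Finset.mem_univ, true_and, Reg,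
      Finset.mem_filter] at h1 h2
    have h4 := hpart u u.2 z h1
    have h5 := hpart u' u'.2 z' h2
    simp only at h3
    rw [h3] at h4
    have h6 : (u : G) = u' := pPart_unique h4 h5
    have h7 : u = u' := Subtype.ext h6
    subst h7
    rw [mul_right_inj] at h3
    rw [h3]
  have hnorm : ∀ u ∈ D, ∀ z : G, N (u * z) = N z := by
    intro u hu z
    have h1 := irr_central_mul χ.2 (hDZ hu) z
    have h2 := irr_norm_central χ.2 (hDZ hu)
    have h3 : (charDegree χ.1 : ℝ) ≠ 0 := by
      have : ((charDegree χ.1 : ℕ) : ℂ) = χ.1 1 := (irr_one_eq χ).symm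
      intro h0
      apply irr_one_ne_zero' χ
      rw [← this]
      exact_mod_cast h0
    have h4 := congrArg norm h1
    rw [norm_mul, norm_mul, h2, Complex.norm_natCast, mul_comm] at h4
    have h5 := mul_left_cancel₀ h3 h4
    simp only [N]
    rw [h5]
  have hW : ∑ g ∈ W, N g = (Nat.card D : ℝ) * S := by
    simp only [W]
    rw [Finset.sum_image hinj, Finset.sum_product]
    simp only [Finset.sum_const, Finset.card_univ, nsmul_eq_mul, Finset.sum_congr rfl
      (fun (u : D) _ => Finset.sum_congr rfl (fun z _ => hnorm u u.2 z))]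
    congr 1
    rw [Nat.card_eq_fintype_card]
  have hle : (Nat.card D : ℝ) * S ≤ Nat.card G := by
    rw [← hW, ← hsum]
    exact Finset.sum_le_sum_of_subset_of_nonneg (Finset.subset_univ _) fun g _ _ => hN0 g
  have hSpos : 0 < S := by
    have h1 : (1 : G) ∈ Reg := by
      simp only [Reg, Finset.mem_filter, Finset.mem_univ, true_and, orderOf_one]
      exact fun h => hpp.one_lt.ne' (Nat.dvd_one.mp h)
    have h2 : 0 < N 1 := by
      have := irr_one_ne_zero' χ
      simp only [N]
      positivity
    exact lt_of_lt_of_le h2 (Finset.single_le_sum (fun g _ => hN0 g) h1)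
  have hGpos : (0 : ℝ) < Nat.card G := by exact_mod_cast Nat.card_pos
  have hDpos : (0 : ℝ) < Nat.card D := by exact_mod_cast Nat.card_pos
  have hyval : ((y χ : ℝ)) * Nat.card G = Nat.card D * S := by
    have h1 := hy1 χ
    rw [hcrt, hν, pow_add, ← ha] at h1
    have h2 : ((p ^ a : ℕ) : ℂ) ≠ 0 := by
      exact_mod_cast (pow_pos hpp.pos a).ne'
    have h3 : ((y χ : ℝ) : ℂ) * (Nat.card G : ℂ) = (Nat.card D : ℂ) * ((S : ℝ) : ℂ) := by
      have hG0 : (Nat.card G : ℂ) ≠ 0 := by exact_mod_cast Nat.card_pos.ne'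
      push_cast at h1 h2 ⊢
      rw [hd]
      push_cast
      field_simp at h1
      linear_combination (-1 : ℂ) * h1
    exact_mod_cast h3
  have hy1' : y χ = 1 := by
    have hpos : (0 : ℝ) < y χ := by
      have : 0 < (y χ : ℝ) * Nat.card G := by rw [hyval]; positivity
      exact (mul_pos_iff_of_pos_right hGpos).mp this
    have hle1 : (y χ : ℝ) ≤ 1 := by
      have : (y χ : ℝ) * Nat.card G ≤ 1 * Nat.card G := by rw [hyval, one_mul]; exact hle
      exact le_of_mul_le_mul_right this hGpos
    have h1 : 0 < y χ := by exact_mod_cast hpos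
    have h2 : y χ ≤ 1 := by exact_mod_cast hle1
    omega
  have heq : ∑ g ∈ W, N g = ∑ g, N g := by
    rw [hW, hsum, ← hyval, hy1']
    simp
  have hvan : ∀ g, g ∉ W → χ.1 g = 0 := by
    intro g hg
    have h1 := Finset.sum_sdiff (Finset.subset_univ W) (f := N)
    rw [heq] at h1
    have h2 : ∑ g ∈ Finset.univ \ W, N g = 0 := by linarith
    have h3 := (Finset.sum_eq_zero_iff_of_nonneg (fun g _ => hN0 g)).mp h2 g
      (Finset.mem_sdiff.mpr ⟨Finset.mem_univ _, hg⟩)
    simp only [N] at h3
    simpa using h3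
  have hB : IsPBlock M (blockOf M χ.1) := isBlock_blockOf χ
  have hχ : χ ∈ blockOf M χ.1 := self_mem_blockOf χ
  constructor
  · obtain ⟨D', hD'⟩ := isDefectGroup_exists (p := p) hB
    have hle' : D ≤ D' := by
      intro c hc
      obtain ⟨j, hj⟩ := orderOf_of_pGroup hD hc
      exact central_mem_defect (fun k => (Subgroup.mem_center_iff.mp (hDZ hc) k)) hj hD'
    have hmin : a = minExp p (blockOf M χ.1) := by
      have hn : ((p ^ (Nat.card G).factorization p : ℕ) : ℂ) * crt p χ χ = (((p : ℤ) ^ a : ℤ) : ℂ) := by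
        rw [hy1 χ, hy1', ← ha]
        push_cast
        ring
      refine (tilde_exact hM hB hχ hχ hn).mpr ?_
      intro hdvd
      have h1 : (p : ℤ) ^ (a + 1) ∣ (p : ℤ) ^ a := hdvd
      have h2 := (Nat.pow_dvd_pow_iff_le_right hpp.one_lt).mp (by exact_mod_cast h1 : p ^ (a + 1) ∣ p ^ a)
      omega
    have hc := card_defect hM hB hD'
    rw [blockDefect_eq, ← hmin, hν] at hc
    have : D = D' := by
      apply Subgroup.eq_of_le_of_card_ge hle'
      rw [hc, hd]
      simp
    rw [this]
    exact hD'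
  · intro g x hx hxD
    apply hvan
    intro hg
    obtain ⟨⟨u, z⟩, hq, rfl⟩ := Finset.mem_image.mp hg
    simp only [Finset.mem_product, Finset.mem_univ, true_and, Reg, Finset.mem_filter] at hq
    have := pPart_unique hx (hpart u u.2 z hq)
    exact hxD (this ▸ u.2)

end Cfsg.Agent.H21
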