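import Cfsg.Agent.Lib.H21.InflateBlocks

/-!
# Blocks of central products `G = P C_G(P)`
-/

set_option autoImplicit false
set_option linter.unusedSectionVars false
set_option linter.style.haveILetI false
set_option linter.unusedSimpArgs false

namespace Cfsg.Agent.H21

open scoped ComplexConjugate
open Cfsg Module Cfsg.Agent.H22

universe u

variable {G : Type u} [Group G] [Finite G]
variable {p : ℕ} [hp : Fact p.Prime] {M : Ideal AlgInt} [hMp : M.IsPrime]

section Cov

variable {N : Subgroup G} [hN : N.Normal]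

/-- If `G = N C_G(N)`, conjugation acts trivially on the irreducible characters of `N`. -/
theorem conjIrr_eq_of_cov (hcov : ∀ g : G, ∃ n ∈ N, ∃ c ∈ Subgroup.centralizer (N : Set G), g = n * c)
    (t : G) (θ : IrrCharacter N) : conjIrr N t θ = θ := by
  apply Subtype.ext
  funext m
  rw [conjIrr_apply]
  obtain ⟨n, hn, c, hc, rfl⟩ := hcov t
  have h1 : (⟨(n * c) * (m : G) * (n * c)⁻¹, hN.conj_mem _ m.2 _⟩ : N) =
      (⟨n, hn⟩ : N) * m * (⟨n, hn⟩ : N)⁻¹ := by
    apply Subtype.ext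
    have h2 := Subgroup.mem_centralizer_iff.mp hc m m.2
    show (n * c) * (m : G) * (n * c)⁻¹ = n * (m : G) * n⁻¹
    calc (n * c) * (m : G) * (n * c)⁻¹ = n * (c * (m : G)) * c⁻¹ * n⁻¹ := by group
      _ = n * ((m : G) * c) * c⁻¹ * n⁻¹ := by rw [h2]
      _ = n * (m : G) * n⁻¹ := by group
  rw [h1]
  exact irr_conj' θ m _

/-- If `G = N C_G(N)`, a character of `G` has a unique constituent on `N`. -/
theorem const_unique (hcov : ∀ g : G, ∃ n ∈ N, ∃ c ∈ Subgroup.centralizer (N : Set G), g = n * c)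
    (χ : IrrCharacter G) {θ θ' : IrrCharacter N} (h : ∑ n : N, conj (θ.1 n) * χ.1 n ≠ 0)
    (h' : ∑ n : N, conj (θ'.1 n) * χ.1 n ≠ 0) : θ = θ' := by
  obtain ⟨t, ht⟩ := exists_conj_of_eq (θ₀ := θ') (θ₂ := θ)
    (fun n => by rw [← cc_eq_indCC χ θ h n, ← cc_eq_indCC χ θ' h' n])
  rwa [conjIrr_eq_of_cov hcov] at ht

/-- If `G = N C_G(N)`, the restriction of a character is a multiple of an irreducible one. -/
theorem restrict_eq (hcov : ∀ g : G, ∃ n ∈ N, ∃ c ∈ Subgroup.centralizer (N : Set G), g = n * c)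
    (χ : IrrCharacter G) {θ : IrrCharacter N} (h : ∑ n : N, conj (θ.1 n) * χ.1 n ≠ 0) :
    ∃ m : ℕ, m ≠ 0 ∧ ∀ n : N, χ.1 n = (m : ℂ) * θ.1 n := by
  classical
  have hch : IsCharacter N (fun x : N => χ.1 x) := isCharacter_restrict N (isCharacter_of_irr χ.2)
  obtain ⟨m, hm⟩ := classInner_isNat hch θ
  have hexp := classFunction_expansion (fun x : N => χ.1 x) (isClassFunction_of_isCharacter hch)
  refine ⟨m, ?_, fun n => ?_⟩
  · rintro rfl
    apply h
    have := (inner_ne_iff (K := N) (fun x : N => χ.1 x) θ.1).not_left.mp (by simpa using hm)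
    exact this
  · have h1 := congrFun hexp n
    simp only [Finset.sum_apply, Pi.smul_apply, smul_eq_mul] at h1
    rw [h1, Finset.sum_eq_single θ]
    · rw [hm]
    · intro θ' _ hne
      have : classInner (fun x : N => χ.1 x) θ'.1 = 0 := by
        by_contra hc
        exact hne (const_unique hcov χ ((inner_ne_iff _ _).mp hc) h)
      rw [this, zero_mul]
    · intro hc
      exact absurd (Finset.mem_univ _) hc

end Cov

/-- Sums along a surjective homomorphism. -/
theorem sum_surj_hom {A : Type*} [Group A] [Finite A] (f : A →* G) (hf : Function.Surjective f) :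
    ∃ κ : ℕ, ∀ h : G → ℝ, ∑ a : A, h (f a) = (κ : ℝ) * ∑ g : G, h g := by
  classical
  refine ⟨(Finset.univ.filter fun a : A => f a = 1).card, fun h => ?_⟩
  rw [← Finset.sum_fiberwise (s := Finset.univ) (g := f), Finset.mul_sum]
  refine Finset.sum_congr rfl fun g _ => ?_
  have h1 : ∀ a ∈ Finset.univ.filter fun a : A => f a = g, h (f a) = h g := by
    intro a ha
    rw [(Finset.mem_filter.mp ha).2]
  rw [Finset.sum_congr rfl h1, Finset.sum_const, nsmul_eq_mul]
  congr 2
  exact MonoidHom.card_fiber_eq_of_mem_range f (hf g) (hf 1)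

section Prod

variable {P : Subgroup G}

theorem normal_of_sup (hG : P ⊔ Subgroup.centralizer (P : Set G) = ⊤) : P.Normal := by
  have h1 : Subgroup.normalizer (P : Set G) = ⊤ := by
    rw [eq_top_iff, ← hG]
    exact sup_le Subgroup.le_normalizer (Subgroup.centralizer_le_normalizer _)
  exact Subgroup.normalizer_eq_top_iff.mp h1

theorem centralizer_normal_of_sup (hG : P ⊔ Subgroup.centralizer (P : Set G) = ⊤) :
    (Subgroup.centralizer (P : Set G)).Normal := by
  haveI := normal_of_sup hG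
  exact Cfsg.Agent.H01.centralizer_normal inferInstance

theorem exists_decomp (hG : P ⊔ Subgroup.centralizer (P : Set G) = ⊤) (g : G) :
    ∃ u ∈ P, ∃ c ∈ Subgroup.centralizer (P : Set G), g = u * c := by
  haveI := centralizer_normal_of_sup hG
  have h1 : g ∈ ((P ⊔ Subgroup.centralizer (P : Set G) : Subgroup G) : Set G) := by
    rw [hG]
    exact Set.mem_univ g
  rw [Subgroup.mul_normal] at h1
  obtain ⟨u, hu, c, hc, rfl⟩ := Set.mem_mul.mp h1
  exact ⟨u, hu, c, hc, rfl⟩

theorem mul_char (hG : P ⊔ Subgroup.centralizer (P : Set G) = ⊤) (χ : IrrCharacter G) {u c : G}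
    (hu : u ∈ P) (hc : c ∈ Subgroup.centralizer (P : Set G)) :
    χ.1 (u * c) * χ.1 1 = χ.1 u * χ.1 c := by
  classical
  have h1 := sum_conj_mul_char χ u c
  have h2 : ∀ b : G, χ.1 (b * u * b⁻¹ * c) = χ.1 (u * c) := by
    intro b
    obtain ⟨v, hv, w, hw, rfl⟩ := exists_decomp hG b
    have h3 := Subgroup.mem_centralizer_iff.mp hw u hu
    have h4 := Subgroup.mem_centralizer_iff.mp hc v hv
    have h5 : v * w * u * (v * w)⁻¹ * c = v * (u * c) * v⁻¹ := by
      calc v * w * u * (v * w)⁻¹ * c = v * (w * u) * w⁻¹ * v⁻¹ * c := by group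
        _ = v * (u * w) * w⁻¹ * v⁻¹ * c := by rw [← h3]
        _ = v * u * v⁻¹ * c := by group
        _ = v * u * v⁻¹ * c * v * v⁻¹ := by group
        _ = v * u * (v⁻¹ * (c * v)) * v⁻¹ := by group
        _ = v * u * (v⁻¹ * (v * c)) * v⁻¹ := by rw [h4]
        _ = v * (u * c) * v⁻¹ := by group
    rw [h5]
    exact irr_conj' χ _ _
  simp only [h2, Finset.sum_const, Finset.card_univ, nsmul_eq_mul] at h1
  have hG0 : (Nat.card G : ℂ) ≠ 0 := card_ne_zero_C
  have h0 := irr_one_ne_zero' χ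
  rw [← Nat.card_eq_fintype_card] at h1
  field_simp at h1
  linear_combination h1

theorem sum_norm_sq {K : Type*} [Group K] [Finite K] (χ : IrrCharacter K) :
    ∑ g : K, ‖χ.1 g‖ ^ 2 = (Nat.card K : ℝ) := by
  classical
  have h := sum_char_mul_conj χ
  have h2 : ((∑ g, ‖χ.1 g‖ ^ 2 : ℝ) : ℂ) = (Nat.card K : ℂ) := by
    rw [← h, Complex.ofReal_sum]
    refine Finset.sum_congr rfl fun g _ => ?_
    rw [Complex.mul_conj, Complex.normSq_eq_norm_sq]
  exact_mod_cast h2

/-- Degrees in a central product. -/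
theorem degree_product (hG : P ⊔ Subgroup.centralizer (P : Set G) = ⊤) (χ : IrrCharacter G)
    {m₁ m₂ : ℕ} {lam : IrrCharacter P} {μ : IrrCharacter (Subgroup.centralizer (P : Set G))}
    (h1 : ∀ u : P, χ.1 u = (m₁ : ℂ) * lam.1 u)
    (h2 : ∀ c : Subgroup.centralizer (P : Set G), χ.1 c = (m₂ : ℂ) * μ.1 c) :
    m₁ * m₂ = charDegree χ.1 := by
  classical
  let f : P × Subgroup.centralizer (P : Set G) →* G :=
    MonoidHom.noncommCoprod P.subtype (Subgroup.centralizer (P : Set G)).subtype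
      (fun u c => Subgroup.mem_centralizer_iff.mp c.2 u u.2)
  have hfv : ∀ q, f q = (q.1 : G) * (q.2 : G) := fun q => rfl
  have hf : Function.Surjective f := by
    intro g
    obtain ⟨u, hu, c, hc, rfl⟩ := exists_decomp hG g
    exact ⟨(⟨u, hu⟩, ⟨c, hc⟩), rfl⟩
  obtain ⟨κ, hκ⟩ := sum_surj_hom f hf
  have h3 := hκ fun _ => 1
  simp only [Finset.sum_const, Finset.card_univ, nsmul_eq_mul, mul_one] at h3
  rw [← Nat.card_eq_fintype_card, ← Nat.card_eq_fintype_card, Nat.card_prod] at h3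
  push_cast at h3
  have h4 := hκ fun g => ‖χ.1 g‖ ^ 2
  rw [sum_norm_sq χ] at h4
  have hd : ‖χ.1 1‖ = (charDegree χ.1 : ℝ) := by
    rw [irr_one_eq χ, Complex.norm_natCast]
  have hd0 : (charDegree χ.1 : ℝ) ≠ 0 := by
    exact_mod_cast (irr_degree_pos χ).ne'
  have h5 : ∀ q, ‖χ.1 (f q)‖ ^ 2 =
      (‖χ.1 q.1‖ ^ 2 * ‖χ.1 q.2‖ ^ 2) / (charDegree χ.1 : ℝ) ^ 2 := by
    intro q
    have h6 := mul_char hG χ q.1.2 q.2.2
    have h7 := congrArg norm h6
    rw [norm_mul, norm_mul, hd] at h7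
    rw [hfv]
    field_simp
    rw [← mul_pow, h7, mul_pow]
  simp only [h5] at h4
  have he : (Finset.univ : Finset (P × Subgroup.centralizer (P : Set G))) =
      (Finset.univ : Finset P) ×ˢ (Finset.univ : Finset (Subgroup.centralizer (P : Set G))) := by
    ext q
    simp
  rw [he, Finset.sum_product] at h4
  have h8 : ∑ x : P, ∑ y : Subgroup.centralizer (P : Set G),
      ‖χ.1 x‖ ^ 2 * ‖χ.1 y‖ ^ 2 / (charDegree χ.1 : ℝ) ^ 2 =
      (∑ x : P, ‖χ.1 x‖ ^ 2) * (∑ y : Subgroup.centralizer (P : Set G), ‖χ.1 y‖ ^ 2) /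
        (charDegree χ.1 : ℝ) ^ 2 := by
    rw [Finset.sum_mul, Finset.sum_div]
    refine Finset.sum_congr rfl fun x _ => ?_
    rw [Finset.mul_sum, Finset.sum_div]
  rw [h8] at h4
  have h9 : ∑ x : P, ‖χ.1 x‖ ^ 2 = (m₁ : ℝ) ^ 2 * (Nat.card P : ℝ) := by
    rw [← sum_norm_sq lam, Finset.mul_sum]
    refine Finset.sum_congr rfl fun x _ => ?_
    rw [h1, norm_mul, Complex.norm_natCast, mul_pow]
  have h10 : ∑ y : Subgroup.centralizer (P : Set G), ‖χ.1 y‖ ^ 2 =
      (m₂ : ℝ) ^ 2 * (Nat.card (Subgroup.centralizer (P : Set G)) : ℝ) := by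
    rw [← sum_norm_sq μ, Finset.mul_sum]
    refine Finset.sum_congr rfl fun x _ => ?_
    rw [h2, norm_mul, Complex.norm_natCast, mul_pow]
  rw [h9, h10] at h4
  have hP0 : (Nat.card P : ℝ) ≠ 0 := by exact_mod_cast Nat.card_pos.ne'
  have hC0 : (Nat.card (Subgroup.centralizer (P : Set G)) : ℝ) ≠ 0 := by exact_mod_cast Nat.card_pos.ne'
  have h11 : ((m₁ : ℝ) * m₂) ^ 2 = (charDegree χ.1 : ℝ) ^ 2 := by
    have h12 : (m₁ : ℝ) ^ 2 * (Nat.card P : ℝ) * ((m₂ : ℝ) ^ 2 * (Nat.card (Subgroup.centralizer (P : Set G)) : ℝ)) =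
        (Nat.card P : ℝ) * (Nat.card (Subgroup.centralizer (P : Set G)) : ℝ) * (charDegree χ.1 : ℝ) ^ 2 := by
      rw [h3]
      field_simp at h4
      linear_combination h4
    have h13 : (Nat.card P : ℝ) * (Nat.card (Subgroup.centralizer (P : Set G)) : ℝ) ≠ 0 := mul_ne_zero hP0 hC0
    apply mul_left_cancel₀ h13
    linear_combination h12
  have h14 : ((m₁ * m₂ : ℕ) : ℝ) ^ 2 = (charDegree χ.1 : ℝ) ^ 2 := by
    push_cast
    exact h11
  have h15 : (m₁ * m₂) ^ 2 = (charDegree χ.1) ^ 2 := by exact_mod_cast h14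
  exact Nat.pow_left_injective (n := 2) (by norm_num) h15

/-- The diagonal value of the row of a character with a `p`-subgroup acting with constant norm. -/
theorem y_eq_one_core (hM : IsPModular p M) {D : Subgroup G} (χ : IrrCharacter G)
    (hpart : ∀ u ∈ D, ∀ z : G, ¬ p ∣ orderOf z → IsPPart p (u * z) u)
    (hnorm : ∀ u ∈ D, ∀ z : G, ¬ p ∣ orderOf z → ‖χ.1 (u * z)‖ = ‖χ.1 z‖)
    {d : ℕ} (hd : Nat.card D = p ^ d)
    (hν : (Nat.card G).factorization p = d + (charDegree χ.1).factorization p)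
    {y : IrrCharacter G → ℤ}
    (hy1 : ∀ ξ, ((p ^ (Nat.card G).factorization p : ℕ) : ℂ) * crt p χ ξ =
      ((p ^ (charDegree χ.1).factorization p : ℕ) : ℂ) * (y ξ : ℂ)) : y χ = 1 := by
  classical
  have hpp := hp.out
  let Reg : Finset G := Finset.univ.filter fun g => ¬ p ∣ orderOf g
  let N : G → ℝ := fun g => ‖χ.1 g‖ ^ 2
  let S : ℝ := ∑ g ∈ Reg, N g
  have hN : ∀ g, (χ.1 g * conj (χ.1 g)) = ((N g : ℝ) : ℂ) := fun g => by
    simp only [N]
    rw [Complex.mul_conj, Complex.normSq_eq_norm_sq]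
  have hcrt : crt p χ χ = (Nat.card G : ℂ)⁻¹ * ((S : ℝ) : ℂ) := by
    rw [crt_eq_sum]
    congr 1
    simp only [S, Reg]
    rw [Complex.ofReal_sum, Finset.sum_filter]
    refine Finset.sum_congr rfl fun g _ => ?_
    by_cases hg : p ∣ orderOf g
    · rw [rp_of_sing _ hg, if_neg (not_not.mpr hg), zero_mul]
    · rw [rp_of_reg _ hg, if_pos hg]
      exact hN g
  have hsum : ∑ g, N g = (Nat.card G : ℝ) := sum_norm_sq χ
  have hN0 : ∀ g, 0 ≤ N g := fun g => by positivity
  let W : Finset G := (Finset.univ ×ˢ Reg).image fun q : D × G => (q.1 : G) * q.2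
  have hinj : Set.InjOn (fun q : D × G => (q.1 : G) * q.2) (Finset.univ ×ˢ Reg : Finset (D × G)) := by
    rintro ⟨u, z⟩ h1 ⟨u', z'⟩ h2 h3
    simp only [Finset.coe_product, Set.mem_prod, Finset.mem_coe, Finset.mem_univ, true_and, Reg,
      Finset.mem_filter] at h1 h2
    have h4 := hpart u u.2 z h1
    have h5 := hpart u' u'.2 z' h2
    simp only at h3
    rw [h3] at h4
    have h6 : (u : G) = u' := pPart_unique h4 h5
    have h7 : u = u' := Subtype.ext h6
    subst h7
    rw [mul_right_inj] at h3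
    rw [h3]
  have hW : ∑ g ∈ W, N g = (Nat.card D : ℝ) * S := by
    simp only [W]
    rw [Finset.sum_image hinj, Finset.sum_product]
    have h1 : ∀ u : D, ∑ z ∈ Reg, N ((u : G) * z) = S := by
      intro u
      refine Finset.sum_congr rfl fun z hz => ?_
      simp only [N]
      rw [hnorm u u.2 z (Finset.mem_filter.mp hz).2]
    simp only [h1, Finset.sum_const, Finset.card_univ, nsmul_eq_mul]
    rw [Nat.card_eq_fintype_card]
  have hle : (Nat.card D : ℝ) * S ≤ Nat.card G := by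
    rw [← hW, ← hsum]
    exact Finset.sum_le_sum_of_subset_of_nonneg (Finset.subset_univ _) fun g _ _ => hN0 g
  have hSpos : 0 < S := by
    have h1 : (1 : G) ∈ Reg := by
      simp only [Reg, Finset.mem_filter, Finset.mem_univ, true_and, orderOf_one]
      exact fun h => hpp.one_lt.ne' (Nat.dvd_one.mp h)
    have h2 : 0 < N 1 := by
      have := irr_one_ne_zero' χ
      simp only [N]
      positivity
    exact lt_of_lt_of_le h2 (Finset.single_le_sum (fun g _ => hN0 g) h1)
  have hGpos : (0 : ℝ) < Nat.card G := by exact_mod_cast Nat.card_pos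
  have hDpos : (0 : ℝ) < Nat.card D := by exact_mod_cast Nat.card_pos
  have hyval : ((y χ : ℝ)) * Nat.card G = Nat.card D * S := by
    have h1 := hy1 χ
    rw [hcrt, hν, pow_add] at h1
    have h2 : ((p ^ (charDegree χ.1).factorization p : ℕ) : ℂ) ≠ 0 := by
      exact_mod_cast (pow_pos hpp.pos _).ne'
    have h3 : ((y χ : ℝ) : ℂ) * (Nat.card G : ℂ) = (Nat.card D : ℂ) * ((S : ℝ) : ℂ) := by
      have hG0 : (Nat.card G : ℂ) ≠ 0 := by exact_mod_cast Nat.card_pos.ne'
      push_cast at h1 h2 ⊢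
      rw [hd]
      push_cast
      field_simp at h1
      linear_combination (-1 : ℂ) * h1
    exact_mod_cast h3
  have hpos : (0 : ℝ) < y χ := by
    have : 0 < (y χ : ℝ) * Nat.card G := by rw [hyval]; positivity
    exact (mul_pos_iff_of_pos_right hGpos).mp this
  have hle1 : (y χ : ℝ) ≤ 1 := by
    have : (y χ : ℝ) * Nat.card G ≤ 1 * Nat.card G := by rw [hyval, one_mul]; exact hle
    exact le_of_mul_le_mul_right this hGpos
  have h1 : 0 < y χ := by exact_mod_cast hpos
  have h2 : y χ ≤ 1 := by exact_mod_cast hle1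
  omega

/-- A block meets the characters above any character of a normal `p`-subgroup. -/
theorem exists_const_in_block (hM : IsPModular p M) [hPn : P.Normal] (hP : IsPGroup p P)
    {B : Set (IrrCharacter G)} (hB : IsPBlock M B) (lam : IrrCharacter P) :
    ∃ χ ∈ B, ∑ n : P, conj (lam.1 n) * χ.1 n ≠ 0 := by
  classical
  set φ : G → ℂ := indFun P lam.1 with hφ
  have hφc : IsClassFunction G φ :=
    isClassFunction_of_isCharacter (isCharacter_indFun P (isCharacter_of_irr lam.2))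
  have h1 := blockPart_eq_sum B hφc 1
  have hoff : ∀ k : G, k ∉ P → φ k = 0 := by
    intro k hk
    simp only [hφ, indFun]
    rw [Finset.sum_eq_zero, mul_zero]
    intro x _
    apply extendByZero_of_not_mem
    intro hx
    apply hk
    have := hPn.conj_mem _ hx x
    simpa [mul_assoc] using this
  have h3 : ∑ k, blockCoeff B k * φ (k * 1) = blockCoeff B 1 * φ 1 := by
    rw [Finset.sum_eq_single (1 : G)]
    · simp
    · intro k _ hk
      rw [mul_one]
      by_cases hkP : k ∈ P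
      · have : p ∣ orderOf k := by
          obtain ⟨j, hj⟩ := orderOf_of_pGroup hP hkP
          rw [hj]
          refine dvd_pow_self p ?_
          rintro rfl
          rw [pow_zero, orderOf_eq_one_iff] at hj
          exact hk hj
        rw [blockCoeff_eq_zero_of_singular hM hB this, zero_mul]
      · rw [hoff k hkP, mul_zero]
    · intro hc
      exact absurd (Finset.mem_univ _) hc
  have h4 : blockCoeff B 1 * φ 1 ≠ 0 := by
    refine mul_ne_zero (blockCoeff_one_ne_zero (block_nonempty hB)) ?_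
    rw [hφ, indFun_one]
    refine mul_ne_zero ?_ (irr_one_ne_zero' lam)
    exact_mod_cast Subgroup.index_ne_zero_of_finite
  rw [← h3, ← h1, blockPart_eq] at h4
  obtain ⟨χ, -, hχ⟩ := Finset.exists_ne_zero_of_sum_ne_zero h4
  have hχB : χ ∈ B := by
    by_contra hc
    apply hχ
    rw [eB_apply_not_mem hc, zero_mul]
  refine ⟨χ, hχB, ?_⟩
  rw [eB_apply_mem hχB, one_mul] at hχ
  have h5 : classInner φ χ.1 ≠ 0 := left_ne_zero_of_mul hχ
  rw [hφ, frobenius_reciprocity P lam.1 χ.1 (isClassFunction_of_isCharacter (isCharacter_of_irr χ.2))] at h5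
  have h6 := (inner_ne_iff _ _).mp h5
  intro h7
  apply h6
  have h8 := congrArg conj h7
  simpa [map_sum, mul_comm] using h8

/-- Divisibility of degrees in a block of a central product. -/
theorem pow_mul_degree_dvd (hM : IsPModular p M) (hG : P ⊔ Subgroup.centralizer (P : Set G) = ⊤)
    {k : ℕ} (hidx : (Subgroup.centralizer (P : Set G)).index = p ^ k)
    {B : Set (IrrCharacter G)} (hB : IsPBlock M B) {y₀ : G} (hy₀ : IsDefectClass M B y₀)
    {ξ : IrrCharacter G} (hξ : ξ ∈ B) {lam : IrrCharacter P}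
    (hlam : ∑ n : P, conj (lam.1 n) * ξ.1 n ≠ 0) :
    p ^ minExp p B * charDegree lam.1 ∣ charDegree ξ.1 := by
  classical
  have hpp := hp.out
  haveI hPn := normal_of_sup hG
  haveI hCn := centralizer_normal_of_sup hG
  have hcovP : ∀ g : G, ∃ n ∈ P, ∃ c ∈ Subgroup.centralizer (P : Set G), g = n * c := exists_decomp hG
  have hcovC : ∀ g : G, ∃ n ∈ Subgroup.centralizer (P : Set G),
      ∃ c ∈ Subgroup.centralizer ((Subgroup.centralizer (P : Set G) : Subgroup G) : Set G), g = n * c := by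
    intro g
    obtain ⟨u, hu, c, hc, rfl⟩ := exists_decomp hG g
    refine ⟨c, hc, u, ?_, (Subgroup.mem_centralizer_iff.mp hc u hu)⟩
    rw [Subgroup.mem_centralizer_iff]
    intro c' hc'
    exact (Subgroup.mem_centralizer_iff.mp hc' u hu).symm
  obtain ⟨m₁, hm₁, h1⟩ := restrict_eq hcovP ξ hlam
  obtain ⟨μ, hμ⟩ := exists_constituent (Subgroup.centralizer (P : Set G)) ξ
  obtain ⟨m₂, hm₂, h2⟩ := restrict_eq hcovC ξ hμ
  have hprod := degree_product hG ξ h1 h2
  have hdeg1 : charDegree ξ.1 = m₁ * charDegree lam.1 := by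
    have h3 := h1 1
    rw [OneMemClass.coe_one, irr_one_eq ξ, irr_one_eq lam] at h3
    exact_mod_cast h3
  have hm₂' : m₂ = charDegree lam.1 := by
    rw [← hprod] at hdeg1
    exact Nat.eq_of_mul_eq_mul_left (Nat.pos_of_ne_zero hm₁) hdeg1
  rw [hdeg1]
  apply Nat.mul_dvd_mul_right
  -- `p ^ a ∣ m₁`
  have hreg := defect_class_regular hM hB hy₀
  have hyC : y₀ ∈ Subgroup.centralizer (P : Set G) := regular_mem_of_index hidx hreg
  have hyind := index_factorization_of_defect hM hB hy₀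
  set a := minExp p B with ha
  by_contra hnd
  set b := m₁.factorization p with hb
  have hba : b < a := by
    by_contra hle
    apply hnd
    exact (pow_dvd_pow p (not_lt.mp hle)).trans (Nat.ordProj_dvd m₁ p)
  set t := m₁ / p ^ b with ht
  have hmt : p ^ b * t = m₁ := Nat.ordProj_mul_ordCompl_eq_self m₁ p
  have htp : ¬ p ∣ t := Nat.not_dvd_ordCompl hpp hm₁
  set I := (Subgroup.centralizer ({y₀} : Set G)).index with hI
  have hI0 : I ≠ 0 := Subgroup.index_ne_zero_of_finite
  set s := I / p ^ a with hs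
  have hIs : p ^ a * s = I := by
    rw [hs, ← hyind]
    exact Nat.ordProj_mul_ordCompl_eq_self I p
  have hcc : (m₁ : ℂ) * cc y₀ ξ = (I : ℂ) * μ.1 ⟨y₀, hyC⟩ := by
    have h3 : ξ.1 y₀ = (m₂ : ℂ) * μ.1 ⟨y₀, hyC⟩ := h2 ⟨y₀, hyC⟩
    have h4 : ξ.1 1 = (m₁ : ℂ) * (m₂ : ℂ) := by
      rw [irr_one_eq ξ, ← hprod]
      push_cast
      ring
    have hm10 : (m₁ : ℂ) ≠ 0 := by exact_mod_cast hm₁
    have hm20 : (m₂ : ℂ) ≠ 0 := by exact_mod_cast hm₂
    unfold cc centralChar
    rw [h3, h4]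
    field_simp
    simp only [hI]
    ring
  have hcc2 : (t : ℂ) * cc y₀ ξ = ((p ^ (a - b) * s : ℕ) : ℂ) * μ.1 ⟨y₀, hyC⟩ := by
    have hpb : ((p ^ b : ℕ) : ℂ) ≠ 0 := by exact_mod_cast (pow_pos hpp.pos b).ne'
    apply mul_left_cancel₀ hpb
    have h5 : p ^ b * (p ^ (a - b) * s) = I := by
      rw [← mul_assoc, ← pow_add, Nat.add_sub_cancel' hba.le, hIs]
    calc ((p ^ b : ℕ) : ℂ) * ((t : ℂ) * cc y₀ ξ) = ((p ^ b * t : ℕ) : ℂ) * cc y₀ ξ := by
          push_cast
          ring
      _ = (I : ℂ) * μ.1 ⟨y₀, hyC⟩ := by rw [hmt, hcc]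
      _ = ((p ^ b * (p ^ (a - b) * s) : ℕ) : ℂ) * μ.1 ⟨y₀, hyC⟩ := by rw [h5]
      _ = _ := by
          push_cast
          ring
  have hmli : MemLocalIdeal M ((t : ℂ) * cc y₀ ξ) := by
    rw [hcc2]
    refine mli_mul_right ?_ (mlr_of_isIntegral (irr_isIntegral' μ _))
    rw [mli_natCast_iff hM]
    exact Dvd.dvd.mul_right (dvd_pow_self p (by omega)) s
  rcases (mli_mul_iff (mlr_natCast t) (cc_mlr y₀ ξ)).mp hmli with h6 | h6
  · exact not_mli_natCast_of_odd hM htp h6
  · exact hy₀.2.2 ξ hξ h6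

end Prod

section Main

variable {P : Subgroup G}

theorem index_centralizer_pow (hP : IsPGroup p P)
    (hG : P ⊔ Subgroup.centralizer (P : Set G) = ⊤) :
    ∃ k, (Subgroup.centralizer (P : Set G)).index = p ^ k := by
  haveI := centralizer_normal_of_sup hG
  have h1 := Subgroup.relIndex_sup_right P (Subgroup.centralizer (P : Set G))
  rw [hG, Subgroup.relIndex_top_right] at h1
  obtain ⟨d, hd⟩ := IsPGroup.iff_card.mp hP
  have h2 : (Subgroup.centralizer (P : Set G)).relIndex P ∣ Nat.card P :=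
    Subgroup.relIndex_dvd_card _ _
  rw [hd] at h2
  obtain ⟨k, -, hk⟩ := (Nat.dvd_prime_pow hp.out).mp h2
  exact ⟨k, h1.trans hk⟩

theorem minExp_eq_index (hM : IsPModular p M) {B : Set (IrrCharacter G)} (hB : IsPBlock M B)
    (hD : IsDefectGroup p M B P) : minExp p B = P.index.factorization p := by
  have h1 := card_defect hM hB hD
  have h2 := Subgroup.card_mul_index P
  have hp0 : p ^ blockDefect p B ≠ 0 := (pow_pos hp.out.pos _).ne'
  have h3 : (Nat.card G).factorization p = blockDefect p B + P.index.factorization p := by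
    rw [← h2, h1, Nat.factorization_mul hp0 Subgroup.index_ne_zero_of_finite]
    simp [Nat.Prime.factorization_pow hp.out]
  rw [blockDefect_eq] at h3
  have := minExp_le_card (p := p) hB
  omega

theorem degree_inflate [hPn : P.Normal] {χ : G ⧸ P → ℂ} (hχ : IsIrrCharacter (G ⧸ P) χ)
    {θ : IrrCharacter G} (h : χ ∘ QuotientGroup.mk' P = θ.1) :
    charDegree θ.1 = charDegree χ := by
  have h1 : (charDegree θ.1 : ℂ) = charDegree χ := by
    rw [← one_eq_charDegree (isCharacter_of_irr θ.2), ← one_eq_charDegree (isCharacter_of_irr hχ), ← h]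
    simp
  exact_mod_cast h1

theorem degree_of_trivial (hM : IsPModular p M) (hG : P ⊔ Subgroup.centralizer (P : Set G) = ⊤)
    {B : Set (IrrCharacter G)} (hB : IsPBlock M B)
    (hD : IsDefectGroup p M B P) {θ : IrrCharacter G} (hθ : θ ∈ B)
    (htriv : ∀ x ∈ P, θ.1 x = θ.1 1) :
    (charDegree θ.1).factorization p = P.index.factorization p := by
  haveI hPn := normal_of_sup hG
  apply le_antisymm
  · obtain ⟨χ, hχ, hχθ⟩ := exists_descend P θ.2 htriv
    rw [degree_inflate hχ hχθ]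
    have h1 := H22.charDegree_dvd_card (⟨χ, hχ⟩ : IrrCharacter (G ⧸ P))
    have h2 : Nat.card (G ⧸ P) = P.index := rfl
    rw [h2] at h1
    exact (Nat.factorization_le_iff_dvd (irr_charDegree_pos hχ).ne'
      Subgroup.index_ne_zero_of_finite).2 h1 p
  · rw [← minExp_eq_index hM hB hD]
    exact minExp_le hθ

theorem exists_unique_trivial (hM : IsPModular p M) (hP : IsPGroup p P)
    (hG : P ⊔ Subgroup.centralizer (P : Set G) = ⊤)
    {B : Set (IrrCharacter G)} (hB : IsPBlock M B) (hD : IsDefectGroup p M B P) :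
    ∃! θ : IrrCharacter G, θ ∈ B ∧ ∀ x ∈ P, θ.1 x = θ.1 1 := by
  haveI hPn := normal_of_sup hG
  obtain ⟨k, hidx⟩ := index_centralizer_pow hP hG
  obtain ⟨χ, θ, hθ, hχθ⟩ := exists_inflation_in_block hM hP hidx hB
  have htriv : ∀ x ∈ P, θ.1 x = θ.1 1 := by
    intro x hx
    rw [hχθ]
    simp only [Function.comp, QuotientGroup.mk'_apply]
    have : ((x : G) : G ⧸ P) = ((1 : G) : G ⧸ P) := by
      rw [QuotientGroup.eq]
      simpa using P.inv_mem hx
    rw [this]
  refine ⟨θ, ⟨hθ, htriv⟩, ?_⟩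
  rintro θ' ⟨hθ', htriv'⟩
  obtain ⟨χ', hχ', hχθ'⟩ := exists_descend P θ'.2 htriv'
  have hs : SameBlock M θ.1 θ'.1 := H22.block_sameBlock hB hθ hθ'
  have hs2 : SameBlock M χ.1 χ' := by
    refine (sameBlock_quot_iff hM hP hidx χ ⟨χ', hχ'⟩).mpr ?_
    rw [← hχθ]
    show SameBlock M θ.1 (χ' ∘ QuotientGroup.mk' P)
    rw [hχθ']
    exact hs
  have hdeg := degree_of_trivial hM hG hB hD hθ htriv
  have hdeg2 : charDegree θ.1 = charDegree χ.1 := degree_inflate χ.2 hχθ.symm
  have hnd : ¬ p ∣ Nat.card (G ⧸ P) / charDegree χ.1 := by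
    have h1 := H22.charDegree_dvd_card χ
    have h2 : Nat.card (G ⧸ P) = P.index := rfl
    rw [h2] at h1 ⊢
    rw [← hdeg2] at h1 ⊢
    intro hdvd
    have h3 : p * charDegree θ.1 ∣ P.index := by
      have h4 : P.index = charDegree θ.1 * (P.index / charDegree θ.1) :=
        (Nat.mul_div_cancel' h1).symm
      rw [h4, mul_comm p]
      simpa using Nat.mul_dvd_mul_left _ hdvd
    have h5 := (Nat.factorization_le_iff_dvd (Nat.mul_ne_zero hp.out.ne_zero
      (irr_charDegree_pos θ.2).ne') Subgroup.index_ne_zero_of_finite).2 h3 p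
    rw [Nat.factorization_mul hp.out.ne_zero (irr_charDegree_pos θ.2).ne'] at h5
    simp only [Finsupp.coe_add, Pi.add_apply, hdeg, Nat.Prime.factorization_self hp.out] at h5
    omega
  have heq := eq_of_mem_block_of_defect_zero hM χ hnd (ψ := ⟨χ', hχ'⟩) hs2
  apply Subtype.ext
  rw [← hχθ', hχθ]
  rw [← heq]

/-- Counting argument at the end: a map to `Irr P` surjective on `B`, integers squares dominating
the squared degrees and summing to `|P|`. -/
theorem card_block_of_row {B : Set (IrrCharacter G)} (y : IrrCharacter G → ℤ)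
    (hsum : ∑ ξ, y ξ ^ 2 = (Nat.card P : ℤ))
    (hdom : ∀ ξ ∈ B, ∀ lam : IrrCharacter P, ∑ n : P, conj (lam.1 n) * ξ.1 n ≠ 0 →
      ((charDegree lam.1 : ℤ)) ^ 2 ≤ y ξ ^ 2)
    (hsurj : ∀ lam : IrrCharacter P, ∃ χ ∈ B, ∑ n : P, conj (lam.1 n) * χ.1 n ≠ 0)
    (huniq : ∀ χ : IrrCharacter G, ∀ {θ θ' : IrrCharacter P},
      ∑ n : P, conj (θ.1 n) * χ.1 n ≠ 0 → ∑ n : P, conj (θ'.1 n) * χ.1 n ≠ 0 → θ = θ') :
    Nat.card B = Nat.card (IrrCharacter P) := by
  classical
  choose f hf using fun ξ : IrrCharacter G => exists_constituent P ξ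
  choose s hsB hs using hsurj
  have hfs : ∀ lam, f (s lam) = lam := fun lam => huniq _ (hf _) (hs lam)
  let T : Finset (IrrCharacter G) := Finset.univ.filter fun ξ => ξ ∈ B
  let S : Finset (IrrCharacter G) := Finset.univ.image s
  have hST : S ⊆ T := by
    intro ξ hξ
    obtain ⟨lam, -, rfl⟩ := Finset.mem_image.mp hξ
    simpa [T] using hsB lam
  have hinj : Function.Injective s := fun a b h => by rw [← hfs a, ← hfs b, h]
  let g : IrrCharacter G → ℤ := fun ξ => (charDegree (f ξ).1 : ℤ) ^ 2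
  have hg : ∑ ξ ∈ S, g ξ = (Nat.card P : ℤ) := by
    simp only [S]
    rw [Finset.sum_image (fun a _ b _ h => hinj h)]
    have h1 := sum_degree_sq (G := P)
    have h2 : ∑ lam : IrrCharacter P, g (s lam) = ∑ lam : IrrCharacter P, (charDegree lam.1 : ℤ) ^ 2 := by
      refine Finset.sum_congr rfl fun lam _ => ?_
      simp only [g]
      rw [hfs]
    rw [h2]
    have h3 := sum_degree_sq (G := P)
    have h4 : ∑ lam : IrrCharacter P, charDegree lam.1 ^ 2 = Nat.card P := by
      convert h3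
    exact_mod_cast h4
  have hT : ∑ ξ ∈ T, g ξ ≤ (Nat.card P : ℤ) := by
    calc ∑ ξ ∈ T, g ξ ≤ ∑ ξ ∈ T, y ξ ^ 2 := by
          refine Finset.sum_le_sum fun ξ hξ => ?_
          have hξ' : ξ ∈ B := by simpa [T] using hξ
          exact hdom ξ hξ' _ (hf ξ)
      _ ≤ ∑ ξ, y ξ ^ 2 := Finset.sum_le_sum_of_subset_of_nonneg (Finset.subset_univ _)
          fun ξ _ _ => sq_nonneg _
      _ = _ := hsum
  have hTS : T = S := by
    by_contra hne
    have hss : S ⊂ T := Finset.ssubset_iff_subset_ne.mpr ⟨hST, fun h => hne h.symm⟩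
    have hpos : ∀ ξ, 0 < g ξ := fun ξ => by
      have := irr_charDegree_pos (f ξ).2
      simp only [g]
      positivity
    obtain ⟨ξ₀, h1, h2⟩ := Finset.exists_of_ssubset hss
    have := Finset.sum_lt_sum_of_subset hss.1 h1 h2 (hpos _) (fun j _ _ => (hpos j).le)
    omega
  have hbij : Function.Bijective (fun lam : IrrCharacter P => (⟨s lam, hsB lam⟩ : B)) := by
    constructor
    · intro a b h
      exact hinj (congrArg Subtype.val h)
    · rintro ⟨ξ, hξ⟩
      have h1 : ξ ∈ T := by simpa [T] using hξ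
      rw [hTS] at h1
      obtain ⟨lam, -, rfl⟩ := Finset.mem_image.mp h1
      exact ⟨lam, rfl⟩
  exact (Nat.card_congr (Equiv.ofBijective _ hbij)).symm

/-- Brauer--Nesbitt style structure: blocks with defect group `P` when `G = P C_G(P)`. -/
theorem central_prod_main (hM : IsPModular p M) (hP : IsPGroup p P)
    (hG : P ⊔ Subgroup.centralizer (P : Set G) = ⊤) {B : Set (IrrCharacter G)} (hB : IsPBlock M B)
    (hD : IsDefectGroup p M B P) :
    (∃! θ : IrrCharacter G, θ ∈ B ∧ ∀ x ∈ P, θ.1 x = θ.1 1) ∧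
    (∀ θ ∈ B, (∀ x ∈ P, θ.1 x = θ.1 1) →
      (charDegree θ.1).factorization p = P.index.factorization p) ∧
    Nat.card B = Nat.card (ConjClasses P) := by
  classical
  have hpp := hp.out
  haveI hPn := normal_of_sup hG
  haveI hCn := centralizer_normal_of_sup hG
  obtain ⟨k, hidx⟩ := index_centralizer_pow hP hG
  have h1 := exists_unique_trivial hM hP hG hB hD
  have h2 : ∀ θ ∈ B, (∀ x ∈ P, θ.1 x = θ.1 1) →
      (charDegree θ.1).factorization p = P.index.factorization p :=
    fun θ hθ ht => degree_of_trivial hM hG hB hD hθ ht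
  refine ⟨h1, h2, ?_⟩
  rw [← card_irr_eq_card_conjClasses]
  obtain ⟨θ, ⟨hθ, htriv⟩, -⟩ := h1
  obtain ⟨y, hy1, hy2⟩ := row_int (p := p) hM θ
  obtain ⟨d, hd⟩ := IsPGroup.iff_card.mp hP
  have hdeg := h2 θ hθ htriv
  have hme := minExp_eq_index hM hB hD
  have hν : (Nat.card G).factorization p = d + (charDegree θ.1).factorization p := by
    rw [hdeg, ← Subgroup.card_mul_index P, hd,
      Nat.factorization_mul (pow_pos hpp.pos d).ne' Subgroup.index_ne_zero_of_finite]
    simp [Nat.Prime.factorization_pow hpp]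
  have hθ1 : θ.1 1 ≠ 0 := irr_one_ne_zero' θ
  have hpart : ∀ u ∈ P, ∀ z : G, ¬ p ∣ orderOf z → IsPPart p (u * z) u := by
    intro u hu z hz
    have hzC : z ∈ Subgroup.centralizer (P : Set G) := regular_mem_of_index hidx hz
    refine ⟨z, rfl, (Subgroup.mem_centralizer_iff.mp hzC u hu), ?_, hz⟩
    exact orderOf_of_pGroup hP hu
  have hnorm : ∀ u ∈ P, ∀ z : G, ¬ p ∣ orderOf z → ‖θ.1 (u * z)‖ = ‖θ.1 z‖ := by
    intro u hu z hz
    have hzC : z ∈ Subgroup.centralizer (P : Set G) := regular_mem_of_index hidx hz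
    have h3 := mul_char hG θ hu hzC
    rw [htriv u hu] at h3
    have h4 : θ.1 (u * z) = θ.1 z := by
      rw [mul_comm] at h3
      exact mul_left_cancel₀ hθ1 h3
    rw [h4]
  have hy : y θ = 1 := y_eq_one_core hM θ hpart hnorm hd hν hy1
  have hsum : ∑ ξ, y ξ ^ 2 = (Nat.card P : ℤ) := by
    rw [hy2, hy, mul_one, hd, hν]
    simp
  have hcovP : ∀ g : G, ∃ n ∈ P, ∃ c ∈ Subgroup.centralizer (P : Set G), g = n * c :=
    exists_decomp hG
  obtain ⟨y₀, hy₀⟩ := exists_defectClass hB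
  refine card_block_of_row y hsum ?_ (fun lam => exists_const_in_block hM hP hB lam)
    (fun χ _ _ h h' => const_unique hcovP χ h h')
  intro ξ hξ lam hlam
  have hdv := pow_mul_degree_dvd hM hG hidx hB hy₀ hξ hlam
  set a := (charDegree θ.1).factorization p with ha
  have hn : ((p ^ (Nat.card G).factorization p : ℕ) : ℂ) * crt p θ ξ = ((p : ℤ) ^ a * y ξ : ℤ) := by
    rw [hy1 ξ]
    push_cast
    ring
  have hd1 := tilde_dvd hM θ ξ hn
  have hex := (tilde_exact hM hB hθ hξ hn).mp (by rw [hme]; exact hdeg)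
  have hyξ : y ξ ≠ 0 := by
    intro h0
    apply hex
    rw [h0, mul_zero]
    exact dvd_zero _
  -- `deg lam` is a power of `p`
  have hlamdvd : charDegree lam.1 ∣ p ^ d := by
    rw [← hd]
    exact H22.charDegree_dvd_card lam
  obtain ⟨e, -, he⟩ := (Nat.dvd_prime_pow hpp).mp hlamdvd
  rw [he] at hdv ⊢
  have hae : a + e ≤ (charDegree ξ.1).factorization p := by
    have h5 : p ^ (a + e) ∣ charDegree ξ.1 := by
      rw [pow_add, hdeg, ← hme]
      exact hdv
    exact (Nat.Prime.pow_dvd_iff_le_factorization hpp (irr_charDegree_pos ξ.2).ne').1 h5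
  have h6 : (p : ℤ) ^ (a + e) ∣ (p : ℤ) ^ a * y ξ :=
    (pow_dvd_pow _ hae).trans hd1
  have h7 : (p : ℤ) ^ e ∣ y ξ := by
    rw [pow_add] at h6
    exact (mul_dvd_mul_iff_left (pow_ne_zero _ (by exact_mod_cast hpp.ne_zero))).1 h6
  have h8 : |(p : ℤ) ^ e| ≤ |y ξ| := by
    have := Int.le_of_dvd (abs_pos.mpr hyξ) ((abs_dvd_abs _ _).mpr h7)
    exact this
  push_cast
  exact sq_le_sq.mpr h8

end Main

end Cfsg.Agent.H21
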