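import Mathlib
import Cfsg.Agent.Lib.H17.PrimeGraph

/-!
# Embedding solvable groups in groups with a regular affine action

A group `T` acting regularly by affine maps on an abelian group `Y`; the class is closed under
regular wreath products with a group of prime order, and every solvable group embeds in a member.
-/

set_option autoImplicit false
set_option linter.unusedSectionVars false
set_option linter.style.haveILetI false
set_option linter.unusedSimpArgs false

namespace Cfsg.Agent.H21.CT

open scoped RegularWreathProduct

universe u v w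

/-- The regular affine action of `T` on the abelian group `Y` of exponent dividing `m`. -/
structure AffReg (T : Type u) [Group T] (Y : Type u) [AddCommGroup Y] (m : ℕ) where
  /-- the action -/
  act : T → Y → Y
  act_one : ∀ y, act 1 y = y
  act_mul : ∀ a b y, act (a * b) y = act a (act b y)
  aff : ∀ t, ∃ (A : Y →+ Y) (c : Y), ∀ y, act t y = A y + c
  bij : Function.Bijective (fun t => act t 0)
  exp : ∀ y : Y, m • y = 0

/-- The embedding in a regular wreath product. -/
theorem exists_embed {G : Type u} [Group G] {N : Subgroup G} {Q : Type v} [Group Q]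
    (π : G →* Q) (hπ : Function.Surjective π) (hker : π.ker = N) {T₀ : Type w} [Group T₀]
    (ι : N →* T₀) (hι : Function.Injective ι) :
    ∃ f : G →* T₀ ≀ᵣ Q, Function.Injective f := by
  classical
  choose s hs using hπ
  have hmem : ∀ (g : G) (x : Q), (s x)⁻¹ * g * s ((π g)⁻¹ * x) ∈ N := by
    intro g x
    rw [← hker, MonoidHom.mem_ker]
    simp [hs]
  let n : G → Q → N := fun g x => ⟨(s x)⁻¹ * g * s ((π g)⁻¹ * x), hmem g x⟩
  have hn1 : ∀ x, n 1 x = 1 := by
    intro x
    apply Subtype.ext
    simp [n]
  have hnm : ∀ g h x, n (g * h) x = n g x * n h ((π g)⁻¹ * x) := by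
    intro g h x
    apply Subtype.ext
    simp only [n, Subgroup.coe_mul, map_mul, mul_inv_rev, mul_assoc, mul_inv_cancel_left]
  let f : G →* T₀ ≀ᵣ Q :=
    { toFun := fun g => ⟨fun x => ι (n g x), π g⟩
      map_one' := by
        apply RegularWreathProduct.ext
        · funext x
          simp [hn1]
        · simp
      map_mul' := by
        intro g h
        apply RegularWreathProduct.ext
        · funext x
          simp [RegularWreathProduct.mul_left, hnm]
        · simp }
  refine ⟨f, ?_⟩
  rw [injective_iff_map_eq_one]
  intro g hg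
  have h1 : π g = 1 := congrArg RegularWreathProduct.right hg
  have h2 : ι (n g 1) = 1 := congrFun (congrArg RegularWreathProduct.left hg) 1
  have h3 : n g 1 = 1 := hι (by rw [h2, map_one])
  have h4 := congrArg Subtype.val h3
  simp only [n, h1, inv_one, one_mul, Subgroup.coe_one] at h4
  have h5 : (s 1)⁻¹ * g * s 1 = 1 := h4
  have h6 : g = s 1 * ((s 1)⁻¹ * g * s 1) * (s 1)⁻¹ := by group
  rw [h6, h5]
  simp

section Wreath

variable {T₀ : Type u} [Group T₀] {Y₀ : Type u} [AddCommGroup Y₀] {m : ℕ}

/-- The wreath product step. -/
def AffReg.wr (R : AffReg T₀ Y₀ m) (q : ℕ) (hq : q ∣ m) :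
    AffReg (T₀ ≀ᵣ Multiplicative (ZMod q)) ((Multiplicative (ZMod q) → Y₀) × ZMod q) m where
  act w x := (fun i => R.act (w.left i) (x.1 (w.right⁻¹ * i)), x.2 + Multiplicative.toAdd w.right)
  act_one := by
    rintro ⟨x, c⟩
    apply Prod.ext
    · funext i
      simp [R.act_one]
    · simp
  act_mul := by
    rintro a b ⟨x, c⟩
    apply Prod.ext
    · funext i
      simp [R.act_mul, mul_assoc]
    · simp [add_assoc, add_comm, add_left_comm]
  aff := by
    intro w
    choose A c hA using R.aff
    refine ⟨AddMonoidHom.prodMap
      { toFun := fun x i => A (w.left i) (x (w.right⁻¹ * i))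
        map_zero' := by
          funext i
          simp
        map_add' := by
          intro x y
          funext i
          simp } (AddMonoidHom.id _), (fun i => c (w.left i), Multiplicative.toAdd w.right), ?_⟩
    rintro ⟨x, d⟩
    apply Prod.ext
    · funext i
      simp [hA]
    · simp
  bij := by
    constructor
    · intro a b h
      have h1 : Multiplicative.toAdd a.right = Multiplicative.toAdd b.right := by
        simpa using congrArg Prod.snd h
      apply RegularWreathProduct.ext
      · funext i
        have h2 := congrFun (congrArg Prod.fst h) i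
        exact R.bij.1 (by simpa using h2)
      · exact h1
    · rintro ⟨x, c⟩
      choose d hd using R.bij.2
      refine ⟨⟨fun i => d (x i), Multiplicative.ofAdd c⟩, ?_⟩
      apply Prod.ext
      · funext i
        simpa using hd (x i)
      · simp
  exp := by
    rintro ⟨x, c⟩
    apply Prod.ext
    · funext i
      simpa using R.exp (x i)
    · obtain ⟨k, rfl⟩ := hq
      simp [mul_nsmul', ZMod.natCast_self]

end Wreath

/-- The trivial case. -/
def affTriv (m : ℕ) : AffReg PUnit.{u+1} PUnit.{u+1} m where
  act _ y := y
  act_one _ := rfl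
  act_mul _ _ _ := rfl
  aff _ := ⟨0, 0, fun _ => rfl⟩
  bij := ⟨fun _ _ _ => rfl, fun _ => ⟨PUnit.unit, rfl⟩⟩
  exp _ := rfl

/-- Every finite solvable group embeds in a group with a regular affine action. -/
theorem exists_affReg : ∀ (n : ℕ) (G : Type u) [Group G] [Finite G], Nat.card G = n →
    Group.IsSolvable G → ∀ m : ℕ, (∀ p : ℕ, p.Prime → p ∣ Nat.card G → p ∣ m) →
    ∃ (T : Type u) (_ : Group T) (_ : Finite T) (Y : Type u) (_ : AddCommGroup Y) (_ : Finite Y)
      (_ : AffReg T Y m), (∀ p : ℕ, p.Prime → p ∣ Nat.card T → p ∣ Nat.card G) ∧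
      ∃ f : G →* T, Function.Injective f := by
  intro n
  induction n using Nat.strong_induction_on with
  | _ n ih =>
  intro G _ _ hn hsolv m hm
  by_cases hG : Nontrivial G
  · -- a normal subgroup of prime index
    haveI : Group.IsSolvable G := hsolv
    obtain ⟨N, hNn, hNp⟩ := Cfsg.Agent.H17.exists_normal_prime_index G
    set q := Nat.card (G ⧸ N) with hq
    have hqp : q.Prime := hNp
    haveI : Fact q.Prime := ⟨hqp⟩
    haveI hcyc : IsCyclic (G ⧸ N) := isCyclic_of_prime_card (p := q) rfl
    let e : Multiplicative (ZMod q) ≃* G ⧸ N := zmodCyclicMulEquiv hcyc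
    let π : G →* Multiplicative (ZMod q) := e.symm.toMonoidHom.comp (QuotientGroup.mk' N)
    have hπ : Function.Surjective π :=
      e.symm.surjective.comp (QuotientGroup.mk'_surjective N)
    have hker : π.ker = N := by
      ext g
      simp only [π, MonoidHom.mem_ker, MonoidHom.comp_apply]
      rw [show e.symm.toMonoidHom (QuotientGroup.mk' N g) = e.symm (QuotientGroup.mk' N g) from rfl,
        map_eq_one_iff e.symm e.symm.injective]
      simp
    have hcard : Nat.card G = Nat.card N * q := by
      rw [hq, mul_comm]
      exact (Subgroup.card_mul_index N ▸ (by rw [mul_comm]; rfl))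
    have hNlt : Nat.card N < n := by
      rw [← hn, hcard]
      have h0 : 0 < Nat.card N := Nat.card_pos
      have h1 := hqp.two_le
      nlinarith
    have hqG : q ∣ Nat.card G := ⟨Nat.card N, by rw [hcard, mul_comm]⟩
    have hNG : Nat.card N ∣ Nat.card G := ⟨q, hcard⟩
    obtain ⟨T₀, _, _, Y₀, _, _, R, hR, ι, hι⟩ := ih _ hNlt N rfl inferInstance m
      (fun p hp hd => hm p hp (hd.trans hNG))
    obtain ⟨f, hf⟩ := exists_embed π hπ hker ι hι
    haveI : NeZero q := ⟨hqp.ne_zero⟩
    refine ⟨T₀ ≀ᵣ Multiplicative (ZMod q), inferInstance, inferInstance,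
      (Multiplicative (ZMod q) → Y₀) × ZMod q, inferInstance, inferInstance,
      R.wr q (hm q hqp hqG), ?_, f, hf⟩
    intro p hp hd
    rw [RegularWreathProduct.card, hp.dvd_mul] at hd
    rcases hd with hd | hd
    · exact (hR p hp (hp.dvd_of_dvd_pow hd)).trans hNG
    · have h1 : Nat.card (Multiplicative (ZMod q)) = q := by
        rw [Nat.card_congr Multiplicative.toAdd, Nat.card_zmod]
      rw [h1] at hd
      exact hd.trans hqG
  · rw [not_nontrivial_iff_subsingleton] at hG
    refine ⟨PUnit, inferInstance, inferInstance, PUnit, inferInstance, inferInstance, affTriv m,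
      ?_, 1, ?_⟩
    · intro p hp h
      simp at h
      exact absurd h hp.ne_one
    · intro a b _
      exact Subsingleton.elim a b

end Cfsg.Agent.H21.CT
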