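import Cfsg.Agent.Lib.H21.Subsec3
import Cfsg.Agent.Lib.H23.Ito
import Cfsg.Agent.Lib.H22.DefectZero

/-!
# Principal 2-blocks when the Sylow 2-subgroup is a four-group and involutions are conjugate
-/

set_option autoImplicit false
set_option linter.unusedSectionVars false
set_option linter.style.haveILetI false
set_option linter.unusedSimpArgs false

namespace Cfsg.Agent.H21

open scoped ComplexConjugate Pointwise
open Cfsg Module Cfsg.Agent.H22

universe u

section RankIso

theorem blockRank_image {K L : Type*} [Group K] [Group L] (φ : K ≃* L) (p : ℕ)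
    (S : Set (IrrCharacter K)) : blockRank p (irrMap φ '' S) = blockRank p S := by
  classical
  unfold blockRank
  let E : (K → ℂ) ≃ₗ[ℂ] (L → ℂ) := LinearEquiv.funCongrLeft ℂ ℂ φ.symm.toEquiv
  have h1 : (fun χ : IrrCharacter L => pRegularPart p (χ : L → ℂ)) '' (irrMap φ '' S) =
      E '' ((fun χ : IrrCharacter K => pRegularPart p (χ : K → ℂ)) '' S) := by
    rw [Set.image_image, Set.image_image]
    refine Set.image_congr fun χ _ => ?_
    funext l
    show pRegularPart p (irrMap φ χ).1 l = pRegularPart p χ.1 (φ.symm l)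
    unfold pRegularPart IsPRegular
    simp only [MulEquiv.orderOf_eq]
    split_ifs <;> rfl
  rw [h1]
  have h2 : Submodule.span ℂ (E '' ((fun χ : IrrCharacter K => pRegularPart p (χ : K → ℂ)) '' S)) =
      (Submodule.span ℂ ((fun χ : IrrCharacter K => pRegularPart p (χ : K → ℂ)) '' S)).map
        (E : (K → ℂ) →ₗ[ℂ] (L → ℂ)) := by
    rw [Submodule.map_span]
    rfl
  rw [h2]
  exact LinearEquiv.finrank_map_eq E _

end RankIso

section Klein

variable {G : Type u} [Group G] [Finite G] {M : Ideal AlgInt} [hMp : M.IsPrime]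

theorem exists_sylow_of_two_element {g : G} {k : ℕ} (hg : orderOf g = 2 ^ k) :
    ∃ Q : Sylow 2 G, g ∈ (Q : Subgroup G) := by
  have h1 : IsPGroup 2 (Subgroup.zpowers g) := by
    apply IsPGroup.of_card (n := k)
    rw [Nat.card_zpowers, hg]
  obtain ⟨Q, hQ⟩ := h1.exists_le_sylow
  exact ⟨Q, hQ (Subgroup.mem_zpowers g)⟩

/-- Exponent two transfers to all Sylow subgroups. -/
theorem sylow_exp_of_exp (P Q : Sylow 2 G) (hexp : ∀ x : P, x * x = 1) (x : G) (hx : x ∈ (Q : Subgroup G)) :
    x * x = 1 := by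
  obtain ⟨c, hc⟩ := MulAction.exists_smul_eq G P Q
  have h2 : x ∈ MulAut.conj c • (P : Subgroup G) := by
    rw [← Sylow.pointwise_smul_def, ← Sylow.smul_def, hc]
    exact hx
  obtain ⟨y, hy, rfl⟩ := (Subgroup.mem_smul_pointwise_iff_exists _ _ _).mp h2
  have h3 : y * y = 1 := congrArg Subtype.val (hexp ⟨y, hy⟩)
  show (MulAut.conj c y) * (MulAut.conj c y) = 1
  rw [← map_mul, h3, map_one]

theorem mul_self_of_two_element (P : Sylow 2 G) (hexp : ∀ x : P, x * x = 1) {g : G} {k : ℕ}
    (hg : orderOf g = 2 ^ k) : g * g = 1 := by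
  obtain ⟨Q, hQ⟩ := exists_sylow_of_two_element hg
  exact sylow_exp_of_exp P Q hexp g hQ

theorem sylow_card_of_card (P Q : Sylow 2 G) (h : Nat.card P = 4) : Nat.card Q = 4 := by
  rw [Sylow.card_eq_multiplicity] at h ⊢
  exact h

theorem factorization_of_card (P : Sylow 2 G) (h : Nat.card P = 4) :
    (Nat.card G).factorization 2 = 2 := by
  rw [Sylow.card_eq_multiplicity] at h
  have h2 : 2 ^ (Nat.card G).factorization 2 = 2 ^ 2 := by rw [h]; norm_num
  exact Nat.pow_right_injective (le_refl 2) h2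

theorem sylow_comm {Q : Subgroup G} (hexp : ∀ x ∈ Q, x * x = 1) {x y : G} (hx : x ∈ Q)
    (hy : y ∈ Q) : x * y = y * x := by
  have h1 := hexp (x * y) (Q.mul_mem hx hy)
  have h2 := hexp x hx
  have h3 := hexp y hy
  have hxi : x⁻¹ = x := inv_eq_of_mul_eq_one_left h2
  have hyi : y⁻¹ = y := inv_eq_of_mul_eq_one_left h3
  have h4 : x * y = (x * y)⁻¹ := (inv_eq_of_mul_eq_one_left h1).symm
  rw [h4, mul_inv_rev, hxi, hyi]

/-- Key: an element of the normalizer fixing `z` centralizes the four-group. -/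
theorem klein_norm_comm {Q : Subgroup G} (hQ4 : Nat.card Q = 4)
    (hmax : ∀ w : G, (∃ k : ℕ, orderOf w = 2 ^ k) → (∀ h, h ∈ Q ↔ w * h * w⁻¹ ∈ Q) → w ∈ Q)
    (hexp : ∀ x ∈ Q, x * x = 1) {z : G} (hzQ : z ∈ Q) (hz1 : z ≠ 1) {g a : G}
    (hgz : g * z = z * g) (hgN : ∀ h, h ∈ Q ↔ g * h * g⁻¹ ∈ Q) (ha : a ∈ Q) : a * g = g * a := by
  classical
  by_contra hne
  have ha1 : a ≠ 1 := by
    rintro rfl
    simp at hne
  have haz : a ≠ z := by
    rintro rfl
    exact hne hgz.symm
  haveI : Fintype Q := Fintype.ofFinite _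
  have hcard : Fintype.card Q = 4 := by rw [← Nat.card_eq_fintype_card]; exact hQ4
  have hzz : z * z = 1 := hexp z hzQ
  have hazQ : a * z ∈ Q := Q.mul_mem ha hzQ
  set F : Finset Q := {1, ⟨z, hzQ⟩, ⟨a, ha⟩, ⟨a * z, hazQ⟩} with hF
  have hFcard : F.card = 4 := by
    rw [hF, Finset.card_insert_of_notMem, Finset.card_insert_of_notMem,
      Finset.card_insert_of_notMem, Finset.card_singleton]
    · simp only [Finset.mem_singleton, Subtype.mk.injEq]
      intro h
      have : z = 1 := by
        have h' : a * 1 = a * z := by rw [mul_one]; exact h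
        exact (mul_left_cancel h').symm
      exact hz1 this
    · simp only [Finset.mem_insert, Finset.mem_singleton, Subtype.mk.injEq]
      rintro (h | h)
      · exact haz h.symm
      · have : a = 1 := by
          have h' : 1 * z = a * z := by rw [one_mul]; exact h
          exact (mul_right_cancel h').symm
        exact ha1 this
    · simp only [Finset.mem_insert, Finset.mem_singleton, Subtype.mk.injEq, Subtype.ext_iff,
        OneMemClass.coe_one]
      rintro (h | h | h)
      · exact hz1 h.symm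
      · exact ha1 h.symm
      · have : a = z := by
          have h2 : a * z = z * z := by rw [hzz]; exact h.symm
          exact mul_right_cancel h2
        exact haz this
  have hFu : F = Finset.univ := Finset.eq_univ_of_card _ (by rw [hFcard, hcard])
  set b := g * a * g⁻¹ with hb
  have hbQ : b ∈ Q := (hgN a).mp ha
  have hbF : (⟨b, hbQ⟩ : Q) ∈ F := by rw [hFu]; exact Finset.mem_univ _
  have hgzi : g * z * g⁻¹ = z := by rw [hgz, mul_inv_cancel_right]
  have hb1 : b ≠ 1 := by
    intro h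
    apply ha1
    have : g * a * g⁻¹ = 1 := h
    have h2 : g * a = g := by
      rw [mul_inv_eq_one] at this
      exact this
    exact mul_eq_left.mp h2
  have hbz : b ≠ z := by
    intro h
    apply haz
    have h1 : g * a * g⁻¹ = g * z * g⁻¹ := by rw [hgzi]; exact h
    exact mul_left_cancel (mul_right_cancel h1)
  have hba : b ≠ a := by
    intro h
    apply hne
    have h1 : g * a * g⁻¹ = a := h
    rw [mul_inv_eq_iff_eq_mul] at h1
    exact h1.symm
  have hbaz : b = a * z := by
    simp only [hF, Finset.mem_insert, Finset.mem_singleton, Subtype.mk.injEq, Subtype.ext_iff,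
      OneMemClass.coe_one] at hbF
    rcases hbF with h | h | h | h
    · exact absurd h hb1
    · exact absurd h hbz
    · exact absurd h hba
    · exact h
  -- the action of `g`
  have hs1 : SemiconjBy g a (a * z) := by
    show g * a = a * z * g
    rw [← hbaz, hb, inv_mul_cancel_right]
  have hs2 : SemiconjBy g (a * z) a := by
    show g * (a * z) = a * g
    have h1 : g * (a * z) = (g * a) * z := by group
    have h2 : a * z * g * z = a * (z * g * z) := by group
    rw [h1, hs1.eq, h2, ← hgz, mul_assoc g z z, hzz, mul_one]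
  have hs3 : Commute (g * g) a := by
    have := hs2.mul_left hs1
    exact this
  have hs4 : Commute (g * g) z := by
    show g * g * z = z * (g * g)
    rw [mul_assoc, hgz, ← mul_assoc, hgz, mul_assoc]
  obtain ⟨i, m, hm, hord⟩ := Nat.exists_eq_two_pow_mul_odd (orderOf_pos g).ne'
  obtain ⟨t, rfl⟩ := hm
  set w := g ^ (2 * t + 1) with hw
  have hw1 : SemiconjBy w a (a * z) := by
    have h1 : w = (g * g) ^ t * g := by
      rw [hw, pow_succ, pow_mul, sq]
    rw [h1]
    have h2 : Commute ((g * g) ^ t) (a * z) := ((hs3.mul_right hs4)).pow_left t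
    exact SemiconjBy.mul_left h2 hs1
  have hw2 : ∃ k : ℕ, orderOf w = 2 ^ k := by
    have h1 : w ^ 2 ^ i = 1 := by
      rw [hw, ← pow_mul, mul_comm, ← hord, pow_orderOf_eq_one]
    have h2 := orderOf_dvd_of_pow_eq_one h1
    obtain ⟨k, -, hk⟩ := (Nat.dvd_prime_pow Nat.prime_two).mp h2
    exact ⟨k, hk⟩
  have hw3 : ∀ h, h ∈ Q ↔ w * h * w⁻¹ ∈ Q := by
    have h1 : g ∈ Subgroup.normalizer (Q : Set G) := by
      rw [Subgroup.mem_normalizer_iff]
      exact hgN
    have h2 : w ∈ Subgroup.normalizer (Q : Set G) := Subgroup.pow_mem _ h1 _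
    rw [Subgroup.mem_normalizer_iff] at h2
    exact h2
  have hwQ : w ∈ Q := hmax w hw2 hw3
  have h5 : a * w = w * a := sylow_comm hexp ha hwQ
  have h6 : w * a = a * z * w := hw1.eq
  have h7 : a * w = a * z * w := h5.trans h6
  have h8 : a = a * z := mul_right_cancel h7
  exact hz1 (by simpa using h8.symm)

/-- Burnside: the centralizer of an involution has a normal 2-complement. -/
theorem npc_centralizer (P : Sylow 2 G) (hP4 : Nat.card P = 4) (hexp : ∀ x : P, x * x = 1) {z : G}
    (hz : orderOf z = 2) : HasNormalPComplement 2 (Subgroup.centralizer ({z} : Set G)) := by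
  classical
  obtain ⟨Q, hzQ⟩ := exists_sylow_of_two_element (g := z) (k := 1) (by rw [hz, pow_one])
  have hQexp : ∀ x ∈ (Q : Subgroup G), x * x = 1 := fun x hx => sylow_exp_of_exp P Q hexp x hx
  have hQ4 := sylow_card_of_card P Q hP4
  have hle : (Q : Subgroup G) ≤ Subgroup.centralizer ({z} : Set G) := by
    intro x hx
    rw [Subgroup.mem_centralizer_singleton_iff]
    exact sylow_comm hQexp hx hzQ
  have hz1 : z ≠ 1 := by
    rintro rfl
    simp at hz
  set C := Subgroup.centralizer ({z} : Set G) with hC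
  let Q' : Sylow 2 C := Q.subtype hle
  have hQ'c : (Q' : Subgroup C) = (Q : Subgroup G).subgroupOf C := Q.coe_subtype hle
  have hN : Subgroup.normalizer (Q' : Subgroup C) ≤ Subgroup.centralizer ((Q' : Subgroup C) : Set C) := by
    intro g hg
    rw [Subgroup.mem_centralizer_iff]
    intro a ha
    rw [SetLike.mem_coe, hQ'c, Subgroup.mem_subgroupOf] at ha
    rw [Subgroup.mem_normalizer_iff] at hg
    have hgz : (g : G) * z = z * (g : G) := by
      have : (g : G) ∈ Subgroup.centralizer ({z} : Set G) := g.2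
      rw [Subgroup.mem_centralizer_singleton_iff] at this
      exact this
    have hkey : (a : G) * (g : G) = (g : G) * (a : G) := by
      refine klein_norm_comm hQ4 ?_ hQexp hzQ hz1 hgz ?_ ha
      · intro w hw hwN
        obtain ⟨k, hk⟩ := hw
        have hwp : IsPGroup 2 (Subgroup.zpowers w) := by
          apply IsPGroup.of_card (n := k)
          rw [Nat.card_zpowers, hk]
        have h1 := hwp.inf_normalizer_sylow Q
        exact (Subgroup.mem_inf.mp (h1.le ⟨Subgroup.mem_zpowers w,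
          Subgroup.mem_normalizer_iff.mpr hwN⟩)).2
      · intro h
        constructor
        · intro hh
          have hhC : h ∈ C := hle hh
          have h1 : (⟨h, hhC⟩ : C) ∈ (Q' : Subgroup C) := by
            rw [hQ'c, Subgroup.mem_subgroupOf]
            exact hh
          have h2 := (hg _).mp h1
          rw [hQ'c, Subgroup.mem_subgroupOf] at h2
          exact h2
        · intro hh
          have hhC : h ∈ C := by
            have h3 := hle hh
            have h4 : (g : G)⁻¹ * ((g : G) * h * (g : G)⁻¹) * (g : G) = h := by group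
            rw [← h4]
            exact C.mul_mem (C.mul_mem (C.inv_mem g.2) h3) g.2
          have h1 : (g * ⟨h, hhC⟩ * g⁻¹ : C) ∈ (Q' : Subgroup C) := by
            rw [hQ'c, Subgroup.mem_subgroupOf]
            exact hh
          have h2 := (hg _).mpr h1
          rw [hQ'c, Subgroup.mem_subgroupOf] at h2
          exact h2
    exact Subtype.ext hkey
  exact ⟨Q', (MonoidHom.transferSylow Q' hN).ker, MonoidHom.normal_ker _,
    MonoidHom.ker_transferSylow_isComplement' Q' hN⟩

/-- The mod-4 relation for values at involutions. -/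
theorem klein_relation_aux (Q : Subgroup G) (hP4 : Nat.card Q = 4) (hexp : ∀ x ∈ Q, x * x = 1)
    (hone : ∀ s t : G, orderOf s = 2 → orderOf t = 2 → IsConj s t) (χ : IrrCharacter G) {z : G}
    (hz : orderOf z = 2) : ∃ n : ℕ, χ.1 1 + 3 * χ.1 z = 4 * (n : ℂ) := by
  classical
  have hchar : IsCharacter Q (fun x : Q => χ.1 x) :=
    isCharacter_restrict Q (isCharacter_of_irr χ.2)
  obtain ⟨n, hn⟩ := classInner_isNat hchar (oneIrr Q)
  refine ⟨n, ?_⟩
  rw [← hn]
  unfold classInner
  have hval : ∀ x : Q, x ∈ Finset.univ.erase (1 : Q) → χ.1 x = χ.1 z := by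
    intro x hx
    have hx1 : x ≠ 1 := Finset.ne_of_mem_erase hx
    have hx2 : (x : G) * x = 1 := hexp x x.2
    have hx3 : orderOf (x : G) = 2 := by
      apply orderOf_eq_prime (by rw [sq]; exact hx2)
      intro h
      exact hx1 (Subtype.ext h)
    obtain ⟨c, hc⟩ := isConj_iff.mp (hone _ _ hz hx3)
    rw [← hc, irr_conj']
  have hsum : ∑ g : Q, χ.1 g * conj ((oneIrr Q).1 g) = χ.1 1 + 3 * χ.1 z := by
    have h1 : ∀ g : Q, χ.1 g * conj ((oneIrr Q).1 g) = χ.1 g := by
      intro g
      show χ.1 g * conj (1 : ℂ) = _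
      simp
    simp only [h1]
    rw [← Finset.add_sum_erase Finset.univ (fun g : Q => χ.1 g) (Finset.mem_univ (1 : Q)),
      Finset.sum_congr rfl hval, Finset.sum_const, Finset.card_erase_of_mem (Finset.mem_univ _),
      Finset.card_univ, ← Nat.card_eq_fintype_card, hP4]
    simp
  rw [hsum, hP4]
  push_cast
  field_simp

theorem klein_relation (P : Sylow 2 G) (hP4 : Nat.card P = 4) (hexp : ∀ x : P, x * x = 1)
    (hone : ∀ s t : G, orderOf s = 2 → orderOf t = 2 → IsConj s t) (χ : IrrCharacter G) {z : G}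
    (hz : orderOf z = 2) : ∃ n : ℕ, χ.1 1 + 3 * χ.1 z = 4 * (n : ℂ) :=
  klein_relation_aux (P : Subgroup G) hP4 (fun x hx => congrArg Subtype.val (hexp ⟨x, hx⟩)) hone χ hz

theorem klein_int (P : Sylow 2 G) (hP4 : Nat.card P = 4) (hexp : ∀ x : P, x * x = 1)
    (hone : ∀ s t : G, orderOf s = 2 → orderOf t = 2 → IsConj s t) (χ : IrrCharacter G) {z : G}
    (hz : orderOf z = 2) :
    ∃ c : ℤ, χ.1 z = (c : ℂ) ∧ (4 : ℤ) ∣ (charDegree χ.1 : ℤ) - c := by
  obtain ⟨n, hn⟩ := klein_relation P hP4 hexp hone χ hz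
  rw [one_eq_charDegree (isCharacter_of_irr χ.2)] at hn
  set d := charDegree χ.1 with hd
  have h1 : ((4 * n + 2 * d : ℕ) : ℂ) / ((3 : ℕ) : ℂ) = χ.1 z + (d : ℂ) := by
    push_cast
    rw [div_eq_iff (by norm_num)]
    linear_combination -hn
  have h2 : IsIntegral ℤ (((4 * n + 2 * d : ℕ) : ℂ) / ((3 : ℕ) : ℂ)) := by
    rw [h1]
    exact (irr_isIntegral' χ z).add (isIntegral_natCast _)
  obtain ⟨b, hb⟩ := Cfsg.Agent.H23.dvd_of_isIntegral_div (by norm_num) h2
  refine ⟨(b : ℤ) - d, ?_, ?_⟩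
  · have h3 : ((4 * n + 2 * d : ℕ) : ℂ) = 3 * b := by rw [hb]; push_cast; ring
    have h4 := h1
    rw [h3] at h4
    push_cast at h4 ⊢
    have h5 : χ.1 z + (d : ℂ) = b := by
      rw [← h4]
      field_simp
    linear_combination h5
  · omega

theorem klein_ne_zero (hM : IsPModular 2 M) (P : Sylow 2 G) (hP4 : Nat.card P = 4)
    (hexp : ∀ x : P, x * x = 1)
    (hone : ∀ s t : G, orderOf s = 2 → orderOf t = 2 → IsConj s t) {χ : IrrCharacter G}
    (hχ : χ ∈ principalBlock M G) {z : G} (hz : orderOf z = 2) : χ.1 z ≠ 0 := by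
  intro h0
  obtain ⟨n, hn⟩ := klein_relation P hP4 hexp hone χ hz
  rw [h0, one_eq_charDegree (isCharacter_of_irr χ.2)] at hn
  have hd : charDegree χ.1 = 4 * n := by
    have : ((charDegree χ.1 : ℕ) : ℂ) = ((4 * n : ℕ) : ℂ) := by
      push_cast
      linear_combination hn
    exact_mod_cast this
  have hfac := factorization_of_card P hP4
  have hdvd := charDegree_dvd_card χ
  obtain ⟨q, hq⟩ := hdvd
  have hnd : ¬ 2 ∣ Nat.card G / charDegree χ.1 := by
    have hpos : 0 < charDegree χ.1 := irr_charDegree_pos χ.2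
    rw [hq, Nat.mul_div_cancel_left _ hpos]
    rintro ⟨r, rfl⟩
    have h8 : 2 ^ 3 ∣ Nat.card G := ⟨n * r, by rw [hq, hd]; ring⟩
    have h9 := (Nat.Prime.pow_dvd_iff_le_factorization Nat.prime_two Nat.card_pos.ne').mp h8
    omega
  have hs : SameBlock M χ.1 (oneIrr G).1 := sameBlock_symm hχ
  have heq := eq_of_mem_block_of_defect_zero hM χ hnd hs
  rw [← heq] at h0
  exact one_ne_zero h0

/-- Pure combinatorics. -/
theorem sum_sq_eq_three {α : Type*} (T : Finset α) (c : α → ℤ) (h0 : ∀ x ∈ T, c x ≠ 0)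
    (h : ∑ x ∈ T, (c x) ^ 2 = 3) : T.card = 3 ∧ ∀ x ∈ T, c x = 1 ∨ c x = -1 := by
  classical
  have hle : ∀ x ∈ T, (c x) ^ 2 ≤ 3 := by
    intro x hx
    rw [← h]
    exact Finset.single_le_sum (f := fun x => (c x) ^ 2) (fun y _ => sq_nonneg _) hx
  have hpm : ∀ x ∈ T, c x = 1 ∨ c x = -1 := by
    intro x hx
    have h1 := hle x hx
    have h2 := h0 x hx
    have h3 : c x ≤ 1 := by nlinarith
    have h4 : -1 ≤ c x := by nlinarith
    omega
  refine ⟨?_, hpm⟩
  have h5 : ∑ x ∈ T, (c x) ^ 2 = ∑ x ∈ T, (1 : ℤ) := by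
    refine Finset.sum_congr rfl fun x hx => ?_
    rcases hpm x hx with h1 | h1 <;> rw [h1] <;> norm_num
  rw [h5] at h
  simp only [Finset.sum_const, smul_eq_mul, mul_one, Int.nsmul_eq_mul] at h
  exact_mod_cast h

theorem sum_eB_eq_filter (B : Set (IrrCharacter G)) (f : IrrCharacter G → ℂ) [DecidablePred (· ∈ B)] :
    ∑ χ : IrrCharacter G, eB B χ * f χ = ∑ χ ∈ Finset.univ.filter (· ∈ B), f χ := by
  rw [Finset.sum_filter]
  refine Finset.sum_congr rfl fun χ _ => ?_
  by_cases h : χ ∈ B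
  · rw [eB_apply_mem h, one_mul, if_pos h]
  · rw [eB_apply_not_mem h, zero_mul, if_neg h]

/-- The column sum. -/
theorem klein_norm_sum (hM : IsPModular 2 M) (P : Sylow 2 G) (hP4 : Nat.card P = 4)
    (hexp : ∀ x : P, x * x = 1) {z : G} (hz : orderOf z = 2) :
    ∑ χ : IrrCharacter G, eB (principalBlock M G) χ * (χ.1 z * conj (χ.1 z)) = 4 := by
  classical
  have hz' : orderOf z = 2 ^ 1 := by rw [hz, pow_one]
  have hnpc := npc_centralizer P hP4 hexp hz
  set C := Subgroup.centralizer ({z} : Set G) with hC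
  obtain ⟨T, O, hO, hc⟩ := hnpc
  have hcop : (Nat.card O).Coprime 2 := by
    rw [Nat.coprime_comm, Nat.prime_two.coprime_iff_not_dvd]
    exact Cfsg.Agent.H01.not_dvd_card_of_complement T hc
  have hk : ∃ k : ℕ, O.index = 2 ^ k := by
    obtain ⟨k, hk⟩ := T.2.exists_card_eq
    exact ⟨k, by rw [hc.symm.index_eq_card, hk]⟩
  have hy : ¬ 2 ∣ orderOf (1 : C) := by simp
  have h1 := principal_norm_sum (M := M) hM hz' (1 : C) hy
  have h2 := principal_column_npc (M := M) hM O hcop hk hy
  rw [h2] at h1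
  have hfac : (Nat.card C).factorization 2 = 2 := by
    obtain ⟨Q, hzQ⟩ := exists_sylow_of_two_element (g := z) (k := 1) hz'
    have hQexp : ∀ x ∈ (Q : Subgroup G), x * x = 1 := fun x hx => sylow_exp_of_exp P Q hexp x hx
    have hQ4 := sylow_card_of_card P Q hP4
    have hle : (Q : Subgroup G) ≤ C := by
      intro x hx
      rw [hC, Subgroup.mem_centralizer_singleton_iff]
      exact sylow_comm hQexp hx hzQ
    have h3 : 2 ^ 2 ∣ Nat.card C := by
      have := Subgroup.card_dvd_of_le hle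
      rw [hQ4] at this
      exact this
    have h4 : Nat.card C ∣ Nat.card G := Subgroup.card_subgroup_dvd_card C
    have h5 := (Nat.Prime.pow_dvd_iff_le_factorization Nat.prime_two Nat.card_pos.ne').mp h3
    have h6 := (Nat.factorization_le_iff_dvd Nat.card_pos.ne' Nat.card_pos.ne').mpr h4 2
    have h7 := factorization_of_card P hP4
    omega
  rw [hfac] at h1
  have h3 := finsum_norm_sq_cast (principalBlock M G) (fun ζ : IrrCharacter G => ζ.1 z)
  have h4 : (∑ᶠ ζ ∈ principalBlock M G, ‖ζ.1 z‖ ^ 2 : ℝ) = 4 := by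
    have h5 := h1
    simp only [Subgroup.coe_one, mul_one] at h5
    rw [h5]
    norm_num
  rw [h4] at h3
  rw [← h3]
  norm_num

/-- The full statement on the principal block. -/
theorem klein_main (hM : IsPModular 2 M) (P : Sylow 2 G) (hP4 : Nat.card P = 4)
    (hexp : ∀ x : P, x * x = 1)
    (hone : ∀ s t : G, orderOf s = 2 → orderOf t = 2 → IsConj s t) :
    ∃ ζ₂ ζ₃ ζ₄ : IrrCharacter G, ∃ ε : ℤ, (ε = 1 ∨ ε = -1) ∧
      (ζ₂ : G → ℂ) ≠ (fun _ => 1) ∧ (ζ₃ : G → ℂ) ≠ (fun _ => 1) ∧ ζ₂ ≠ ζ₃ ∧ ζ₂ ≠ ζ₄ ∧ ζ₃ ≠ ζ₄ ∧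
      principalBlock M G =
        {χ : IrrCharacter G | (χ : G → ℂ) = (fun _ => 1) ∨ χ = ζ₂ ∨ χ = ζ₃ ∨ χ = ζ₄} ∧
      (∀ z : G, orderOf z = 2 →
        (ζ₂ : G → ℂ) z = 1 ∧ (ζ₃ : G → ℂ) z = (ε : ℂ) ∧ (ζ₄ : G → ℂ) z = -1) ∧
      (4 : ℤ) ∣ (charDegree (ζ₂ : G → ℂ) : ℤ) - 1 ∧
      (4 : ℤ) ∣ (charDegree (ζ₃ : G → ℂ) : ℤ) - ε ∧
      (4 : ℤ) ∣ (charDegree (ζ₄ : G → ℂ) : ℤ) + 1 ∧
      ∀ y : G, Odd (orderOf y) →
        1 + (ζ₂ : G → ℂ) y + (ε : ℂ) * (ζ₃ : G → ℂ) y - (ζ₄ : G → ℂ) y = 0 := by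
  classical
  -- an involution
  have hPne : ∃ x : (P : Subgroup G), x ≠ 1 := by
    by_contra hcon
    push Not at hcon
    haveI : Subsingleton (P : Subgroup G) := ⟨fun a b => by rw [hcon a, hcon b]⟩
    have := Nat.card_of_subsingleton (1 : (P : Subgroup G))
    omega
  obtain ⟨⟨z, hzP⟩, hx₀⟩ := hPne
  have hz1 : z ≠ 1 := fun h => hx₀ (Subtype.ext h)
  have hz : orderOf z = 2 := by
    apply orderOf_eq_prime _ hz1
    rw [sq]
    exact congrArg Subtype.val (hexp ⟨z, hzP⟩)
  have hint := fun χ : IrrCharacter G => klein_int P hP4 hexp hone χ hz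
  choose c hc hc4 using hint
  set B₀ := principalBlock M G with hB₀
  set S : Finset (IrrCharacter G) := Finset.univ.filter (· ∈ B₀) with hS
  have hmemS : ∀ χ, χ ∈ S ↔ χ ∈ B₀ := fun χ => by simp [hS]
  have hone_mem : oneIrr G ∈ S := (hmemS _).mpr oneIrr_mem_principal
  have hc1 : c (oneIrr G) = 1 := by
    have h1 := hc (oneIrr G)
    have h2 : (oneIrr G).1 z = 1 := rfl
    rw [h2] at h1
    exact_mod_cast h1.symm
  have hc0 : ∀ χ ∈ S, c χ ≠ 0 := by
    intro χ hχ h0
    apply klein_ne_zero hM P hP4 hexp hone ((hmemS χ).mp hχ) hz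
    rw [hc χ, h0]
    simp
  -- the square sum
  have hsum : ∑ χ ∈ S, (c χ) ^ 2 = 4 := by
    have h1 := klein_norm_sum (M := M) hM P hP4 hexp hz
    rw [sum_eB_eq_filter] at h1
    have h2 : ∑ χ ∈ S, χ.1 z * conj (χ.1 z) = ((∑ χ ∈ S, (c χ) ^ 2 : ℤ) : ℂ) := by
      push_cast
      refine Finset.sum_congr rfl fun χ _ => ?_
      rw [hc χ]
      simp [sq]
    rw [h2] at h1
    exact_mod_cast h1
  set T := S.erase (oneIrr G) with hT
  have hsumT : ∑ χ ∈ T, (c χ) ^ 2 = 3 := by
    have := Finset.add_sum_erase S (fun χ => (c χ) ^ 2) hone_mem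
    simp only [hc1] at this
    rw [hsum] at this
    linarith
  obtain ⟨hcard, hpm⟩ := sum_sq_eq_three T c (fun x hx => hc0 x (Finset.mem_of_mem_erase hx)) hsumT
  -- orthogonality
  have horth : ∀ y : G, ¬ 2 ∣ orderOf y → ∑ χ ∈ S, χ.1 y * (c χ : ℂ) = 0 := by
    intro y hy
    have h1 := block_orth_regular_singular hM (principalBlock_isBlock (M := M)) hy
      (show 2 ∣ orderOf z by rw [hz])
    rw [sum_eB_eq_filter] at h1
    rw [← h1]
    refine Finset.sum_congr rfl fun χ _ => ?_
    rw [hc χ]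
    simp
  have hSeq : S = insert (oneIrr G) T := (Finset.insert_erase hone_mem).symm
  have hoT : oneIrr G ∉ T := Finset.notMem_erase _ _
  have hdeg : ∀ χ : IrrCharacter G, (1 : ℤ) ≤ (charDegree χ.1 : ℤ) := by
    intro χ
    have := irr_charDegree_pos χ.2
    omega
  -- the degree relation in ℤ
  have horth1 : 1 + ∑ χ ∈ T, (charDegree χ.1 : ℤ) * c χ = 0 := by
    have h1 := horth 1 (by simp)
    rw [hSeq, Finset.sum_insert hoT, hc1] at h1
    have h2 : ∀ χ ∈ T, χ.1 1 * (c χ : ℂ) = (((charDegree χ.1 : ℤ) * c χ : ℤ) : ℂ) := by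
      intro χ _
      rw [one_eq_charDegree (isCharacter_of_irr χ.2)]
      push_cast
      rfl
    rw [Finset.sum_congr rfl h2] at h1
    have h3 : (oneIrr G).1 1 = 1 := rfl
    rw [h3] at h1
    have h4 : ((1 + ∑ χ ∈ T, (charDegree χ.1 : ℤ) * c χ : ℤ) : ℂ) = 0 := by
      push_cast at h1 ⊢
      linear_combination h1
    exact_mod_cast h4
  -- a labelling
  have hlabel : ∃ u v w : IrrCharacter G, T = {u, v, w} ∧ u ≠ v ∧ u ≠ w ∧ v ≠ w ∧ c u = 1 ∧ c w = -1 := by
    obtain ⟨a, b, d, hab, had, hbd, hTe⟩ := Finset.card_eq_three.mp hcard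
    have hsumT2 : 1 + ((charDegree a.1 : ℤ) * c a + ((charDegree b.1 : ℤ) * c b +
        (charDegree d.1 : ℤ) * c d)) = 0 := by
      have := horth1
      rw [hTe, Finset.sum_insert (by simp [hab, had]), Finset.sum_insert (by simp [hbd]),
        Finset.sum_singleton] at this
      exact this
    have hda := hdeg a
    have hdb := hdeg b
    have hdd := hdeg d
    have hTa : a ∈ T := by rw [hTe]; simp
    have hTb : b ∈ T := by rw [hTe]; simp
    have hTd : d ∈ T := by rw [hTe]; simp
    have hperm1 : T = {b, a, d} := by rw [hTe]; ext; simp; tauto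
    have hperm2 : T = {a, d, b} := by rw [hTe]; ext; simp; tauto
    have hperm3 : T = {d, a, b} := by rw [hTe]; ext; simp; tauto
    have hperm4 : T = {b, d, a} := by rw [hTe]; ext; simp; tauto
    have hperm5 : T = {d, b, a} := by rw [hTe]; ext; simp; tauto
    rcases hpm a hTa with h1 | h1 <;> rcases hpm b hTb with h2 | h2 <;>
      rcases hpm d hTd with h3 | h3
    · exfalso
      rw [h1, h2, h3] at hsumT2
      omega
    · exact ⟨a, b, d, hTe, hab, had, hbd, h1, h3⟩
    · exact ⟨a, d, b, hperm2, had, hab, hbd.symm, h1, h2⟩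
    · exact ⟨a, b, d, hTe, hab, had, hbd, h1, h3⟩
    · exact ⟨b, d, a, hperm4, hbd, hab.symm, had.symm, h2, h1⟩
    · exact ⟨b, a, d, hperm1, hab.symm, hbd, had, h2, h3⟩
    · exact ⟨d, a, b, hperm3, had.symm, hbd.symm, hab, h3, h2⟩
    · exfalso
      rw [h1, h2, h3] at hsumT2
      omega
  obtain ⟨u, v, w, hTe, huv, huw, hvw, hcu, hcw⟩ := hlabel
  have hvT : v ∈ T := by rw [hTe]; simp
  have huT : u ∈ T := by rw [hTe]; simp
  have hwT : w ∈ T := by rw [hTe]; simp
  have hone_ne : ∀ χ ∈ T, (χ : G → ℂ) ≠ (fun _ => 1) := by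
    intro χ hχ h
    apply Finset.ne_of_mem_erase hχ
    exact Subtype.ext h
  have hval : ∀ χ : IrrCharacter G, ∀ t : G, orderOf t = 2 → χ.1 t = (c χ : ℂ) := by
    intro χ t ht
    obtain ⟨g, hg⟩ := isConj_iff.mp (hone _ _ hz ht)
    rw [← hg, irr_conj', hc χ]
  refine ⟨u, v, w, c v, hpm v hvT, hone_ne u huT, hone_ne v hvT, huv, huw, hvw, ?_, ?_, ?_, ?_, ?_, ?_⟩
  · ext χ
    rw [← hmemS, hSeq, Finset.mem_insert, hTe]
    simp only [Set.mem_ofPred_eq, Finset.mem_insert, Finset.mem_singleton]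
    constructor
    · rintro (h | h)
      · left
        rw [h]
        rfl
      · exact Or.inr h
    · rintro (h | h)
      · left
        exact Subtype.ext h
      · exact Or.inr h
  · intro t ht
    refine ⟨?_, hval v t ht, ?_⟩
    · rw [hval u t ht, hcu]
      simp
    · rw [hval w t ht, hcw]
      simp
  · have := hc4 u
    rw [hcu] at this
    exact this
  · exact hc4 v
  · have := hc4 w
    rw [hcw] at this
    simpa using this
  · intro y hy
    have hy' : ¬ 2 ∣ orderOf y := by
      rw [Nat.two_dvd_ne_zero, ← Nat.odd_iff] 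
      simpa using hy
    have h1 := horth y hy'
    rw [hSeq, Finset.sum_insert hoT, hTe, Finset.sum_insert (by simp [huv, huw]),
      Finset.sum_insert (by simp [hvw]), Finset.sum_singleton, hc1, hcu, hcw] at h1
    have h2 : (oneIrr G).1 y = 1 := rfl
    rw [h2] at h1
    push_cast at h1
    linear_combination h1

/-- Rank three. -/
theorem klein_rank (hM : IsPModular 2 M) (P : Sylow 2 G) (hP4 : Nat.card P = 4)
    (hexp : ∀ x : P, x * x = 1)
    (hone : ∀ s t : G, orderOf s = 2 → orderOf t = 2 → IsConj s t) :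
    blockRank 2 (principalBlock M G) = 3 := by
  classical
  obtain ⟨u, v, w, ε, hε, hu1, hv1, huv, huw, hvw, hset, hvals, -, -, -, -⟩ :=
    klein_main hM P hP4 hexp hone
  -- the number of characters is four
  have hw1 : (w : G → ℂ) ≠ fun _ => 1 := by
    intro h
    have hPne : ∃ x : (P : Subgroup G), x ≠ 1 := by
      by_contra hcon
      push Not at hcon
      haveI : Subsingleton (P : Subgroup G) := ⟨fun a b => by rw [hcon a, hcon b]⟩
      have := Nat.card_of_subsingleton (1 : (P : Subgroup G))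
      omega
    obtain ⟨⟨z, hzP⟩, hx₀⟩ := hPne
    have hz1 : z ≠ 1 := fun h => hx₀ (Subtype.ext h)
    have hz : orderOf z = 2 := by
      apply orderOf_eq_prime _ hz1
      rw [sq]
      exact congrArg Subtype.val (hexp ⟨z, hzP⟩)
    have h2 := (hvals z hz).2.2
    rw [h] at h2
    norm_num at h2
  obtain ⟨z, hz, hz1⟩ : ∃ z : G, orderOf z = 2 ∧ z ≠ 1 := by
    have hPne : ∃ x : (P : Subgroup G), x ≠ 1 := by
      by_contra hcon
      push Not at hcon
      haveI : Subsingleton (P : Subgroup G) := ⟨fun a b => by rw [hcon a, hcon b]⟩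
      have := Nat.card_of_subsingleton (1 : (P : Subgroup G))
      omega
    obtain ⟨⟨z, hzP⟩, hx₀⟩ := hPne
    have hz1 : z ≠ 1 := fun h => hx₀ (Subtype.ext h)
    refine ⟨z, ?_, hz1⟩
    apply orderOf_eq_prime _ hz1
    rw [sq]
    exact congrArg Subtype.val (hexp ⟨z, hzP⟩)
  have hone' : ∀ χ : IrrCharacter G, (χ : G → ℂ) = (fun _ => 1) ↔ χ = oneIrr G :=
    fun χ => ⟨fun h => Subtype.ext h, fun h => by rw [h]; rfl⟩
  have hcard : Nat.card (principalBlock M G) = 4 := by
    have hfin : principalBlock M G =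
        (({oneIrr G, u, v, w} : Finset (IrrCharacter G)) : Set (IrrCharacter G)) := by
      rw [hset]
      ext χ
      simp only [Set.mem_ofPred_eq, Finset.coe_insert, Finset.coe_singleton, Set.mem_insert_iff,
        Set.mem_singleton_iff, hone']
    rw [hfin, Nat.card_eq_card_toFinset]
    simp only [Finset.toFinset_coe]
    rw [Finset.card_insert_of_notMem, Finset.card_insert_of_notMem, Finset.card_insert_of_notMem,
      Finset.card_singleton]
    · simp [hvw]
    · simp [huv, huw]
    · simp only [Finset.mem_insert, Finset.mem_singleton, not_or]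
      refine ⟨fun h => hu1 ((hone' u).mpr h.symm), fun h => hv1 ((hone' v).mpr h.symm),
        fun h => hw1 ((hone' w).mpr h.symm)⟩
  -- the count by sections
  have hX1 : ∀ x ∈ ({1, z} : Finset G), ∃ k : ℕ, orderOf x = 2 ^ k := by
    intro x hx
    simp only [Finset.mem_insert, Finset.mem_singleton] at hx
    rcases hx with rfl | rfl
    · exact ⟨0, by simp⟩
    · exact ⟨1, by rw [hz, pow_one]⟩
  have hXrep : ∀ g : G, (∃ k : ℕ, orderOf g = 2 ^ k) → ∃! x, x ∈ ({1, z} : Finset G) ∧ IsConj g x := by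
    rintro g ⟨k, hk⟩
    have hgg := mul_self_of_two_element P hexp hk
    by_cases hg : g = 1
    · subst hg
      refine ⟨1, ⟨by simp, IsConj.refl _⟩, ?_⟩
      rintro y ⟨-, hy⟩
      exact isConj_one_right.mp hy
    · have hg2 : orderOf g = 2 := by
        apply orderOf_eq_prime _ hg
        rw [sq]
        exact hgg
      refine ⟨z, ⟨by simp, hone _ _ hg2 hz⟩, ?_⟩
      rintro y ⟨hy, hyc⟩
      simp only [Finset.mem_insert, Finset.mem_singleton] at hy
      rcases hy with rfl | rfl
      · exact absurd (isConj_one_right.mp hyc.symm) hg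
      · rfl
  have hcount := card_block_eq hM (principalBlock_isBlock (M := M)) {1, z} hX1 hXrep
  rw [hcard, Finset.sum_pair hz1.symm,
    indBlocks_principal (M := M) hM (z := (1 : G)) (k := 0) (by simp),
    indBlocks_principal (M := M) hM (z := z) (k := 1) (by rw [hz, pow_one]),
    Finset.sum_singleton, Finset.sum_singleton,
    rank_one_of_hasNPC hM (npc_centralizer P hP4 hexp hz)] at hcount
  have h1 : Subgroup.centralizer ({1} : Set G) = ⊤ := by
    ext x
    simp [Subgroup.mem_centralizer_singleton_iff]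
  let φ : Subgroup.centralizer ({1} : Set G) ≃* G :=
    (MulEquiv.subgroupCongr h1).trans Subgroup.topEquiv
  have h2 : blockRank 2 (principalBlock M (Subgroup.centralizer ({1} : Set G))) =
      blockRank 2 (principalBlock M G) := by
    rw [← image_principalBlock (M := M) φ, blockRank_image]
  rw [h2] at hcount
  omega

end Klein

end Cfsg.Agent.H21
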