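import Cfsg.Agent.Lib.H21.RealBlock
import Cfsg.Agent.Lib.H21.KleinFour
import Cfsg.Agent.Lib.H04.Cliff.Gallagher
import Cfsg.Agent.Lib.H21.CharLinear

/-!
# Real extensions of odd degree and the principal 2-block
-/

set_option autoImplicit false
set_option linter.unusedSectionVars false
set_option linter.style.haveILetI false
set_option linter.unusedSimpArgs false

namespace Cfsg.Agent.H21

open scoped ComplexConjugate Pointwise
open Cfsg Module Cfsg.Agent.H22

universe u

section Ext

variable {G : Type u} [Group G] [Finite G] (N : Subgroup G) [hN : N.Normal]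

/-- Two extensions of an irreducible character of a normal subgroup differ by a linear character
trivial on the normal subgroup. -/
theorem exists_linear_of_extensions {θ : IrrCharacter N} {η η' : G → ℂ}
    (hη : IsIrrCharacter G η) (hη' : IsIrrCharacter G η')
    (h : ∀ n : N, η n = θ.1 n) (h' : ∀ n : N, η' n = θ.1 n) :
    ∃ β : G → ℂ, IsCharacter G β ∧ charDegree β = 1 ∧ (∀ n : N, β n = 1) ∧
      ∀ g, η' g = β g * η g := by
  classical
  have hηc := isCharacter_of_irr hη
  have hηcl := isClassFunction_of_isCharacter hηc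
  have hη'c := isCharacter_of_irr hη'
  have hη'cl := isClassFunction_of_isCharacter hη'c
  have hθfun : (fun n : N => η' n) = θ.1 := by
    funext n
    exact h' n
  have hθinv : ∀ t : G, Cfsg.Agent.H06.twist N θ.1 t = θ.1 := by
    apply Cfsg.Agent.H04.Cliff.twist_of_inv
    intro g n
    rw [← h', ← h' n]
    exact hη'cl _ _
  have h1inv : ∀ t : G, Cfsg.Agent.H06.twist N (fun _ : N => (1 : ℂ)) t = fun _ => 1 := by
    apply Cfsg.Agent.H04.Cliff.twist_of_inv
    intro g n
    rfl
  have hprod : ((fun _ : N => (1 : ℂ)) * θ.1) = θ.1 := by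
    funext n
    simp
  have hbij := Cfsg.Agent.H04.Cliff.gallagher_bij N (φ := fun _ : N => (1 : ℂ)) (ϑ := θ.1)
    isIrrCharacter_one (by rw [hprod]; exact θ.2) h1inv hθinv hηc h
  have htarget : η' ∈ {ψ : G → ℂ | IsIrrCharacter G ψ ∧
      classInner (indFun N ((fun _ : N => (1 : ℂ)) * θ.1)) ψ ≠ 0} := by
    refine ⟨hη', ?_⟩
    rw [hprod, frobenius_reciprocity N θ.1 η' hη'cl, hθfun, classInner_irr θ θ, if_pos rfl]
    exact one_ne_zero
  obtain ⟨β, ⟨hβ, hβne⟩, hβeq⟩ := hbij.surjOn htarget
  have hβeq' : ∀ g, η' g = β g * η g := fun g => (congrFun hβeq g).symm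
  have hβc := isCharacter_of_irr hβ
  have hone : η' 1 = η 1 := by
    have h3 := h' 1
    have h4 := h 1
    simp only [OneMemClass.coe_one] at h3 h4
    rw [h3, h4]
  have hη1 : η 1 ≠ 0 := by
    have := irr_one_ne_zero' (⟨η, hη⟩ : IrrCharacter G)
    exact this
  have hβ1 : β 1 = 1 := by
    have h3 := hβeq' 1
    rw [hone] at h3
    exact mul_right_cancel₀ hη1 (by rw [one_mul]; exact h3.symm)
  have hdeg : charDegree β = 1 := by
    have h3 := one_eq_charDegree hβc
    rw [hβ1] at h3
    exact_mod_cast h3.symm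
  refine ⟨β, hβc, hdeg, ?_, hβeq'⟩
  have hresc : IsCharacter N (fun n : N => β n) := isCharacter_restrict N hβc
  have hresdeg : charDegree (fun n : N => β n) = 1 := by
    show ⌊(β ((1 : N) : G)).re⌋₊ = 1
    simp [hβ1]
  rw [frobenius_reciprocity N _ β (isClassFunction_of_isCharacter hβc)] at hβne
  have hfun := linear_inner_ne_zero_imp (f := fun _ : N => (1 : ℂ)) (g := fun n : N => β n)
    (by intro a b; simp) hresc hresdeg (by simpa [hprod] using hβne)
  intro n
  exact (congrFun hfun n).symm

end Ext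

section Main

variable {G : Type u} [Group G] [Finite G] {M : Ideal AlgInt} [hMp : M.IsPrime]

theorem linear_pow_isCharacter {β : G → ℂ} (hβ : IsCharacter G β) (t : ℕ) :
    IsCharacter G (fun g => β g ^ t) := by
  induction t with
  | zero => simpa using (isCharacter_one (G := G))
  | succ n ih =>
    have h := isCharacter_mul ih hβ
    convert h using 1
    funext g
    simp [pow_succ]

theorem centralizer_inv_eq (g : G) :
    Subgroup.centralizer ({g⁻¹} : Set G) = Subgroup.centralizer ({g} : Set G) := by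
  ext x
  rw [Subgroup.mem_centralizer_singleton_iff, Subgroup.mem_centralizer_singleton_iff]
  have h1 : Commute x g⁻¹ ↔ Commute x g := Commute.inv_right_iff
  exact h1

/-- A real-valued irreducible character of odd degree that extends has an extension in the
principal 2-block. -/
theorem real_odd_extension (N : Subgroup G) [N.Normal] (hM : IsPModular 2 M)
    (θ : IrrCharacter N) (hreal : ∀ n : N, (θ.1 n).im = 0) (hodd : Odd (charDegree θ.1))
    (hext : ∃ η : IrrCharacter G, ∀ n : N, η.1 n = θ.1 n) :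
    ∃ η : IrrCharacter G, (∀ n : N, η.1 n = θ.1 n) ∧ η ∈ principalBlock M G := by
  classical
  obtain ⟨η, hη⟩ := hext
  have hstar : IsIrrCharacter G (fun g => conj (η.1 g)) := isIrr_star η.2
  have hstarN : ∀ n : N, conj (η.1 n) = θ.1 n := by
    intro n
    rw [hη n]
    exact Complex.conj_eq_iff_im.mpr (hreal n)
  obtain ⟨β, hβc, hβdeg, hβN, hβeq⟩ := exists_linear_of_extensions N η.2 hstar hη hstarN
  have hβmul := linear_mul hβc hβdeg
  have hβ1 := linear_one hβc hβdeg
  have hβnorm := linear_norm hβc hβdeg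
  -- the order
  set n := Nat.card G with hn
  have hnpos : 0 < n := Nat.card_pos
  have hβpow : ∀ g, β g ^ n = 1 := by
    intro g
    have h1 : ∀ k : ℕ, β (g ^ k) = β g ^ k := by
      intro k
      induction k with
      | zero => simp [hβ1]
      | succ k ih => rw [pow_succ, hβmul, ih, pow_succ]
    rw [← h1, hn, pow_card_eq_one', hβ1]
  obtain ⟨s, o, ho, hdecomp⟩ : ∃ s o : ℕ, ¬ 2 ∣ o ∧ n = 2 ^ s * o := by
    refine ⟨n.factorization 2, n / 2 ^ n.factorization 2, ?_, ?_⟩
    · exact Nat.not_dvd_ordCompl Nat.prime_two hnpos.ne'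
    · exact (Nat.ordProj_mul_ordCompl_eq_self n 2).symm
  obtain ⟨t, ht⟩ : ∃ t : ℕ, o + 1 = 2 * t := by
    have : Odd o := Nat.not_even_iff_odd.mp (fun h => ho h.two_dvd)
    obtain ⟨k, hk⟩ := this
    exact ⟨k + 1, by omega⟩
  have hlam := linear_pow_isCharacter hβc t
  have hlamdeg : charDegree (fun g => β g ^ t) = 1 := by
    show ⌊((β 1) ^ t).re⌋₊ = 1
    simp [hβ1]
  have hirr : IsIrrCharacter G (fun g => β g ^ t * η.1 g) :=
    H06.isIrr_linear_mul η.2 hlam hlamdeg
  let η₁ : IrrCharacter G := ⟨_, hirr⟩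
  have hne : ∀ g, β g ≠ 0 := by
    intro g h0
    have := hβnorm g
    rw [h0] at this
    simp at this
  have hconj : ∀ g, conj (β g) = (β g)⁻¹ := by
    intro g
    have h1 : β g * conj (β g) = 1 := by
      rw [Complex.mul_conj, Complex.normSq_eq_norm_sq, hβnorm]
      simp
    exact eq_inv_of_mul_eq_one_right h1
  have hinv : ∀ g, η₁.1 g⁻¹ = ((β g)⁻¹) ^ o * η₁.1 g := by
    intro g
    have h1 : η₁.1 g⁻¹ = conj (η₁.1 g) := isCharacter_inv (isCharacter_of_irr η₁.2) g
    rw [h1]
    show conj (β g ^ t * η.1 g) = _ * (β g ^ t * η.1 g)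
    rw [map_mul, map_pow, hconj, hβeq g]
    have hb := hne g
    have h2 : ((β g)⁻¹) ^ t * β g = ((β g)⁻¹) ^ o * β g ^ t := by
      rw [inv_pow, inv_pow]
      field_simp
      have h3 : β g * β g ^ o = β g ^ (o + 1) := by ring
      rw [h3, ht]
      ring
    calc ((β g)⁻¹) ^ t * (β g * η.1 g) = (((β g)⁻¹) ^ t * β g) * η.1 g := by ring
      _ = _ := by rw [h2]; ring
  refine ⟨η₁, ?_, ?_⟩
  · intro m
    show β m ^ t * η.1 m = _
    rw [hβN, one_pow, one_mul, hη]
  · have hη₁1 : η₁.1 1 = θ.1 1 := by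
      show β 1 ^ t * η.1 1 = _
      have h3 := hη 1
      simp only [OneMemClass.coe_one] at h3
      rw [hβ1, one_pow, one_mul, h3]
    apply principal_of_real_odd hM η₁
    · intro hd
      have h3 : charDegree η₁.1 = charDegree θ.1 := by
        show ⌊(η₁.1 1).re⌋₊ = ⌊(θ.1 1).re⌋₊
        rw [hη₁1]
      rw [h3] at hd
      exact (Nat.not_even_iff_odd.mpr hodd) (even_iff_two_dvd.mpr hd)
    · intro g
      set z := ((β g)⁻¹) ^ o with hz
      have hzpow : z ^ (2 ^ s) = 1 := by
        rw [hz, ← pow_mul, inv_pow, mul_comm, ← hdecomp, hβpow, inv_one]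
      obtain ⟨hzi, hmem⟩ := root_sub_one_mem hM z s hzpow
      have hmli : MemLocalIdeal M (z - 1) := by
        have := mli_of_mem hmem
        simpa using this
      have h4 : H22.cc g⁻¹ η₁ - H22.cc g η₁ = (z - 1) * H22.cc g η₁ := by
        show centralChar η₁.1 g⁻¹ - centralChar η₁.1 g = (z - 1) * centralChar η₁.1 g
        unfold centralChar
        rw [centralizer_inv_eq, hinv]
        ring
      rw [h4]
      exact H22.mli_mul_right hmli (H22.cc_mlr g η₁)

end Main

end Cfsg.Agent.H21
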