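import Cfsg.Agent.Lib.H21.GlaubConj
import Cfsg.Agent.Lib.H21.CharLinear
import Cfsg.Agent.Lib.H21.RealExt
import Cfsg.Agent.Lib.H23.AcdTwo
import Cfsg.Agent.Lib.H23.Tate
import Mathlib.GroupTheory.Abelianization.Finite

/-!
# Kernels of the characters of degree prime to `p`.
-/

set_option autoImplicit false
set_option linter.unusedSectionVars false
set_option linter.style.haveILetI false
set_option linter.unusedSimpArgs false

namespace Cfsg.Agent.H21

open scoped ComplexConjugate Pointwise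
open Cfsg Module Cfsg.Agent.H22

universe u

section Kernel

variable {G : Type u} [Group G] [Finite G]

/-- A constituent of a character is trivial on the elements in the kernel. -/
theorem kernel_of_constituent {φ : G → ℂ} (hφ : IsCharacter G φ) (ψ : IrrCharacter G)
    (hne : classInner φ ψ.1 ≠ 0) {k : G} (hk : φ k = φ 1) : ψ.1 k = ψ.1 1 := by
  classical
  obtain ⟨m, hm, hin⟩ := isCharacter_decomp hφ
  have hval : ∀ g, (φ g).re = ∑ χ : IrrCharacter G, (m χ : ℝ) * (χ.1 g).re := by
    intro g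
    rw [hm]
    simp only [Finset.sum_apply, Pi.smul_apply, Complex.re_sum, nsmul_eq_mul]
    refine Finset.sum_congr rfl fun _ _ => ?_
    simp
  have hk' := congrArg Complex.re hk
  rw [hval, hval] at hk'
  have hnn : ∀ χ : IrrCharacter G, (m χ : ℝ) * (χ.1 k).re ≤ (m χ : ℝ) * (χ.1 1).re := by
    intro χ
    refine mul_le_mul_of_nonneg_left ?_ (Nat.cast_nonneg _)
    have h1 := isCharacter_norm_le (isCharacter_of_irr χ.2) k
    have h2 : (χ.1 1) = (charDegree χ.1 : ℂ) := one_eq_charDegree (isCharacter_of_irr χ.2)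
    rw [h2, Complex.natCast_re]
    exact (Complex.re_le_norm _).trans h1
  have hzero := (Finset.sum_eq_sum_iff_of_le (fun χ _ => hnn χ)).1 hk' ψ (Finset.mem_univ _)
  have hmne : (m ψ : ℝ) ≠ 0 := by
    intro h0
    apply hne
    rw [hin]
    exact_mod_cast h0
  have hreq : (ψ.1 k).re = (ψ.1 1).re := mul_left_cancel₀ hmne hzero
  have h2 : (ψ.1 1) = (charDegree ψ.1 : ℂ) := one_eq_charDegree (isCharacter_of_irr ψ.2)
  have h1 := isCharacter_norm_le (isCharacter_of_irr ψ.2) k
  rw [h2] at hreq ⊢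
  rw [Complex.natCast_re] at hreq
  apply Complex.ext
  · simpa using hreq
  · have h3 : ‖ψ.1 k‖ ^ 2 = (ψ.1 k).re ^ 2 + (ψ.1 k).im ^ 2 := by
      rw [← Complex.normSq_eq_norm_sq, Complex.normSq_apply]
      ring
    have h4 : ‖ψ.1 k‖ ^ 2 ≤ (charDegree ψ.1 : ℝ) ^ 2 :=
      pow_le_pow_left₀ (norm_nonneg _) h1 2
    rw [h3, hreq] at h4
    have h5 : (ψ.1 k).im ^ 2 ≤ 0 := by linarith
    have h6 : (ψ.1 k).im = 0 := by
      have := sq_nonneg (ψ.1 k).im
      exact pow_eq_zero_iff (two_ne_zero) |>.1 (le_antisymm h5 this)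
    simp [h6]

/-- Induced from the trivial character of a normal subgroup: constant on the subgroup. -/
theorem indFun_one_const (W : Subgroup G) [hW : W.Normal] {k : G} (hk : k ∈ W) :
    indFun W (fun _ => (1 : ℂ)) k = indFun W (fun _ => (1 : ℂ)) 1 := by
  classical
  unfold indFun
  congr 1
  refine Finset.sum_congr rfl fun x _ => ?_
  have h1 : x⁻¹ * k * x ∈ W := by
    have := hW.conj_mem k hk x⁻¹
    simpa using this
  have h2 : x⁻¹ * 1 * x ∈ W := by simp
  have e1 : extendByZero W (fun _ => (1 : ℂ)) (x⁻¹ * k * x) = 1 :=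
    extendByZero_coe (H := W) (fun _ => (1 : ℂ)) ⟨_, h1⟩
  have e2 : extendByZero W (fun _ => (1 : ℂ)) (x⁻¹ * 1 * x) = 1 :=
    extendByZero_coe (H := W) (fun _ => (1 : ℂ)) ⟨_, h2⟩
  rw [e1, e2]

/-- If the trivial character of a normal subgroup occurs in the restriction, it lies in the
kernel. -/
theorem ker_of_sum_ne_zero (W : Subgroup G) [hW : W.Normal] (χ : IrrCharacter G)
    (h : ∑ w : W, χ.1 w ≠ 0) {k : G} (hk : k ∈ W) : χ.1 k = χ.1 1 := by
  classical
  refine kernel_of_constituent (isCharacter_indFun (H := W) (isCharacter_one)) χ ?_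
    (indFun_one_const W hk)
  rw [frobenius_reciprocity W _ χ.1 (isClassFunction_of_isCharacter (isCharacter_of_irr χ.2))]
  unfold classInner
  have hcard : (Nat.card W : ℂ) ≠ 0 := by
    exact_mod_cast Nat.card_pos.ne'
  refine mul_ne_zero (inv_ne_zero hcard) ?_
  have : ∑ g : W, (1 : ℂ) * conj (χ.1 g) = conj (∑ w : W, χ.1 w) := by
    rw [map_sum]
    simp
  rw [this]
  exact (map_ne_zero _).2 h

/-- Constituents of a restriction to a normal subgroup: fixed by the operators. -/
theorem exists_fixed_constituent {p : ℕ} [hp : Fact p.Prime] (P N : Subgroup G)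
    (hnorm : ∀ s ∈ P, ∀ g ∈ N, s * g * s⁻¹ ∈ N) (hP : IsPGroup p P) (χ : IrrCharacter G)
    (hχ : ¬ p ∣ charDegree χ.1) :
    ∃ θ : IrrCharacter N, (∀ (a : P) (n : N), θ.1 (conjHom N P hnorm a n) = θ.1 n) ∧
      classInner (fun n : N => χ.1 n) θ.1 ≠ 0 := by
  classical
  letI := irrAct (conjHom N P hnorm)
  let res : N → ℂ := fun n => χ.1 n
  have hres : IsCharacter N res := isCharacter_restrict N (isCharacter_of_irr χ.2)
  let T : IrrCharacter N → ℂ := fun θ => classInner res θ.1 * θ.1 1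
  have hTint : ∀ θ, IsIntegral ℤ (T θ) := by
    intro θ
    obtain ⟨m, hm⟩ := classInner_isNat hres θ
    refine IsIntegral.mul ?_ (irr_isIntegral' θ 1)
    rw [hm]
    have := isIntegral_algebraMap (R := ℤ) (A := ℂ) (x := (m : ℤ))
    simpa using this
  have hres_inv : ∀ (a : P) (n : N), res (conjHom N P hnorm a n) = res n := by
    intro a n
    show χ.1 (a.1 * n.1 * a.1⁻¹) = χ.1 n
    exact isCharacter_conj (isCharacter_of_irr χ.2) _ _
  have hact : ∀ (a : P) (θ : IrrCharacter N) (n : N),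
      (a • θ).1 n = θ.1 (conjHom N P hnorm a⁻¹ n) := fun _ _ _ => rfl
  have hT : ∀ (a : P) θ, T (a • θ) = T θ := by
    intro a θ
    have h1 : classInner res (a • θ).1 = classInner res θ.1 := by
      unfold classInner
      congr 1
      refine Fintype.sum_equiv (conjHom N P hnorm a⁻¹).toEquiv _ _ ?_
      intro n
      show res n * conj ((a • θ).1 n) = res (conjHom N P hnorm a⁻¹ n) * _
      rw [hres_inv, hact]
      rfl
    have h2 : (a • θ).1 1 = θ.1 1 := by
      rw [hact, map_one]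
    show classInner res (a • θ).1 * (a • θ).1 1 = _
    rw [h1, h2]
  obtain ⟨w, hw, hsum⟩ := sum_eq_fixed_add hP T hTint hT
  have hexp : ∑ θ, T θ = χ.1 1 := by
    have := congrFun (classFunction_expansion res (isClassFunction_of_isCharacter hres)) 1
    simp only [Finset.sum_apply, Pi.smul_apply, smul_eq_mul] at this
    exact this.symm
  by_contra hcon
  push Not at hcon
  have hzero : ∀ F : Finset (IrrCharacter N), (∀ θ ∈ F, ∀ a : P, a • θ = θ) → ∑ x ∈ F, T x = 0 := by
    intro F hF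
    refine Finset.sum_eq_zero fun θ hθ => ?_
    have hfix : ∀ a : P, a • θ = θ := hF θ hθ
    have h0 := hcon θ (by
      intro a n
      have h1 : (a⁻¹ • θ).1 n = θ.1 n := by rw [hfix]
      rw [hact, inv_inv] at h1
      exact h1)
    show classInner res θ.1 * θ.1 1 = 0
    rw [h0, zero_mul]
  have hzero' : ∀ inst : DecidablePred (fun x : IrrCharacter N => ∀ a : P, a • x = x),
      ∑ x ∈ @Finset.filter _ _ inst Finset.univ, T x = 0 :=
    fun inst => hzero _ (fun θ hθ => (Finset.mem_filter.1 hθ).2)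
  rw [hexp, hzero', zero_add, one_eq_charDegree (isCharacter_of_irr χ.2)] at hsum
  have h3 := p_dvd_of_eq_mul hp.out (charDegree χ.1 : ℤ) w hw (by simpa using hsum)
  exact hχ (by exact_mod_cast h3)

/-- A `P`-invariant character of `N` with `C_N(P) = 1` is trivial. -/
theorem fixed_irr_trivial {p : ℕ} [hp : Fact p.Prime] (P N : Subgroup G)
    (hnorm : ∀ s ∈ P, ∀ g ∈ N, s * g * s⁻¹ ∈ N) (hP : IsPGroup p P)
    (hN : N ⊓ Subgroup.centralizer (P : Set G) = ⊥) (θ : IrrCharacter N)
    (hfix : ∀ (a : P) (n : N), θ.1 (conjHom N P hnorm a n) = θ.1 n) (n : N) : θ.1 n = 1 := by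
  classical
  letI : MulAction P N := MulAction.compHom N (conjHom N P hnorm)
  have hact : ∀ (a : P) (n : N), a • n = conjHom N P hnorm a n := fun _ _ => rfl
  have hF : ∀ inst : DecidablePred (fun x : N => ∀ a : P, a • x = x),
      @Finset.filter _ _ inst Finset.univ = {1} := by
    intro inst
    ext x
    simp only [Finset.mem_filter, Finset.mem_univ, true_and, Finset.mem_singleton]
    constructor
    · intro hx
      have : (x : G) ∈ N ⊓ Subgroup.centralizer (P : Set G) := by
        refine Subgroup.mem_inf.2 ⟨x.2, ?_⟩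
        rw [Subgroup.mem_centralizer_iff]
        intro t ht
        have h1 := congrArg Subtype.val (hx ⟨t, ht⟩)
        rw [hact] at h1
        have h2 : t * x.1 * t⁻¹ = x.1 := h1
        rw [mul_inv_eq_iff_eq_mul] at h2
        exact h2
      rw [hN, Subgroup.mem_bot] at this
      exact Subtype.ext this
    · rintro rfl a
      rw [hact, map_one]
  obtain ⟨w, hw, hsum⟩ := sum_eq_fixed_add (X := N) hP (fun _ => (1 : ℂ)) (fun _ => isIntegral_one)
    (fun _ _ => rfl)
  rw [hF, Finset.sum_singleton] at hsum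
  obtain ⟨w', hw', hsum'⟩ := sum_eq_fixed_add (X := N) hP (fun x => θ.1 x)
    (fun x => irr_isIntegral' θ x) (fun a x => hfix a x)
  rw [hF, Finset.sum_singleton] at hsum'
  have hcop : ¬ p ∣ Nat.card N := by
    intro hd
    obtain ⟨c, hc⟩ := hd
    have hc' : (Nat.card N : ℂ) = 1 + p * w := by
      rw [← hsum]
      simp [Nat.card_eq_fintype_card]
    have h1 : (((Nat.card N : ℤ) - 1 : ℤ) : ℂ) = (p : ℂ) * w := by
      push_cast
      rw [hc']
      ring
    have h2 := p_dvd_of_eq_mul hp.out _ w hw h1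
    have h3 : (p : ℤ) ∣ 1 := by
      have : (p : ℤ) ∣ (Nat.card N : ℤ) := ⟨c, by exact_mod_cast hc⟩
      have := dvd_sub this h2
      simpa using this
    exact hp.out.one_lt.ne' (Nat.dvd_one.1 (by exact_mod_cast h3))
  have hθ : θ = oneIrr N := by
    by_contra hne
    have h0 := classInner_irr θ (oneIrr N)
    rw [if_neg hne] at h0
    have h1 : ∑ x : N, θ.1 x = 0 := by
      unfold classInner at h0
      have hcard : (Nat.card N : ℂ) ≠ 0 := by exact_mod_cast Nat.card_pos.ne'
      have h2 := (mul_eq_zero.1 h0).resolve_left (inv_ne_zero hcard)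
      simpa [oneIrr] using h2
    rw [h1, one_eq_charDegree (isCharacter_of_irr θ.2)] at hsum'
    have h2 : (charDegree θ.1 : ℂ) = (p : ℂ) * (-w') := by
      have : (charDegree θ.1 : ℂ) + (p : ℂ) * w' = 0 := hsum'.symm
      linear_combination this
    have h3 := p_dvd_of_eq_mul hp.out (charDegree θ.1 : ℤ) (-w') hw'.neg (by simpa using h2)
    have h4 : p ∣ charDegree θ.1 := by exact_mod_cast h3
    exact hcop (h4.trans (charDegree_dvd_card θ))
  rw [hθ]
  rfl

/-- Eigenvectors for a linear constituent of the restriction. -/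
theorem exists_eigenvector {n : ℕ} (ρ : Representation ℂ G (Fin n → ℂ)) (Q : Subgroup G)
    (lam : Q → ℂ) (hmul : ∀ a b, lam (a * b) = lam a * lam b) (hnorm : ∀ a, ‖lam a‖ = 1)
    (hne : classInner (fun t : Q => ρ.character t) lam ≠ 0) :
    ∃ v : Fin n → ℂ, v ≠ 0 ∧ ∀ s : Q, ρ s v = lam s • v := by
  classical
  let T : Module.End ℂ (Fin n → ℂ) := ∑ t : Q, conj (lam t) • ρ t
  have htr : LinearMap.trace ℂ _ T ≠ 0 := by
    have h1 : LinearMap.trace ℂ _ T = ∑ t : Q, ρ.character t * conj (lam t) := by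
      simp only [T, map_sum, map_smul, smul_eq_mul, Representation.character]
      exact Finset.sum_congr rfl fun _ _ => mul_comm _ _
    rw [h1]
    intro h0
    apply hne
    unfold classInner
    rw [h0, mul_zero]
  have hT : T ≠ 0 := fun h => htr (by rw [h, map_zero])
  obtain ⟨v₀, hv₀⟩ : ∃ v, T v ≠ 0 := by
    by_contra h
    push Not at h
    exact hT (LinearMap.ext h)
  refine ⟨T v₀, hv₀, fun s => ?_⟩
  have h1 : ρ s (T v₀) = ∑ t : Q, conj (lam t) • ρ (s * t : Q) v₀ := by
    simp only [T, LinearMap.sum_apply, LinearMap.smul_apply, map_sum, map_smul,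
      Subgroup.coe_mul, map_mul, Module.End.mul_apply]
  have h2 : lam s • T v₀ = ∑ t : Q, lam s • conj (lam t) • ρ t v₀ := by
    simp only [T, LinearMap.sum_apply, LinearMap.smul_apply, Finset.smul_sum]
  rw [h1, h2]
  refine Fintype.sum_equiv (Equiv.mulLeft s) _ _ fun t => ?_
  simp only [Equiv.coe_mulLeft]
  rw [hmul, map_mul, smul_smul, ← mul_assoc]
  have h3 : lam s * conj (lam s) = 1 := by
    rw [Complex.mul_conj, Complex.normSq_eq_norm_sq, hnorm]
    simp
  rw [h3, one_mul]

/-- A nonzero vector fixed by a normal subgroup of an irreducible representation. -/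
theorem ker_of_fixed_vector {n : ℕ} (ρ : Representation ℂ G (Fin n → ℂ)) (h : ρ.IsIrreducible)
    (W : Subgroup G) [hW : W.Normal] {v : Fin n → ℂ} (hv : v ≠ 0) (hfix : ∀ w ∈ W, ρ w v = v)
    {w : G} (hw : w ∈ W) : ρ w = 1 := by
  classical
  let S : Subrepresentation ρ :=
    { toSubmodule :=
        { carrier := {x | ∀ w ∈ W, ρ w x = x}
          add_mem' := fun {a b} ha hb w hw => by
            rw [map_add, ha w hw, hb w hw]
          zero_mem' := fun w _ => map_zero _
          smul_mem' := fun c x hx w hw => by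
            rw [map_smul, hx w hw] }
      apply_mem_toSubmodule := by
        intro g x hx w hw
        have h1 : g⁻¹ * w * g ∈ W := by
          have := hW.conj_mem w hw g⁻¹
          simpa using this
        have h2 := hx _ h1
        have h3 : ρ w (ρ g x) = ρ g (ρ (g⁻¹ * w * g) x) := by
          rw [← Module.End.mul_apply, ← Module.End.mul_apply, ← map_mul, ← map_mul]
          congr 2
          group
        rw [h3, h2] }
  have hS : S ≠ ⊥ := by
    intro h0
    have h1 : v ∈ S.toSubmodule := hfix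
    rw [h0] at h1
    exact hv ((Submodule.mem_bot ℂ).1 h1)
  have hΤ : S = ⊤ := (IsSimpleOrder.eq_bot_or_eq_top S).resolve_left hS
  refine LinearMap.ext fun x => ?_
  have h1 : x ∈ S.toSubmodule := by
    rw [hΤ]
    trivial
  exact h1 w hw

/-- Constituent of degree prime to `p`. -/
theorem exists_constituent_coprime {p : ℕ} {φ : G → ℂ} (hφ : IsCharacter G φ) {d : ℕ}
    (h1 : φ 1 = (d : ℂ)) (hd : ¬ p ∣ d) :
    ∃ χ : IrrCharacter G, classInner φ χ.1 ≠ 0 ∧ ¬ p ∣ charDegree χ.1 := by
  classical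
  obtain ⟨m, hm, hin⟩ := isCharacter_decomp hφ
  by_contra hcon
  push Not at hcon
  have h2 : d = ∑ χ : IrrCharacter G, m χ * charDegree χ.1 := by
    have h3 := h1
    rw [hm] at h3
    simp only [Finset.sum_apply, Pi.smul_apply] at h3
    simp only [nsmul_eq_mul] at h3
    have h4 : ((∑ χ : IrrCharacter G, m χ * charDegree χ.1 : ℕ) : ℂ) = (d : ℂ) := by
      rw [← h3]
      push_cast
      refine Finset.sum_congr rfl fun χ _ => ?_
      rw [one_eq_charDegree (isCharacter_of_irr χ.2)]
    exact_mod_cast h4.symm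
  apply hd
  rw [h2]
  refine Finset.dvd_sum fun χ _ => ?_
  by_cases h0 : m χ = 0
  · rw [h0]
    simp
  · refine Dvd.dvd.mul_left (hcon χ ?_) _
    rw [hin]
    exact_mod_cast h0

end Kernel

section Main

variable {G : Type u} [Group G] [Finite G] {p : ℕ} [hp : Fact p.Prime]

/-- `p`-prime degree characters are trivial on the core of `N P'`. -/
theorem ker_of_pprime_degree (P : Sylow p G) (N : Subgroup G) [hNn : N.Normal]
    (hN : N ⊓ Subgroup.centralizer ((P : Subgroup G) : Set G) = ⊥) (χ : IrrCharacter G)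
    (hχ : ¬ p ∣ charDegree χ.1) {g : G}
    (hg : g ∈ (N ⊔ ⁅(P : Subgroup G), (P : Subgroup G)⁆).normalCore) : χ.1 g = χ.1 1 := by
  classical
  have hnorm : ∀ s ∈ (P : Subgroup G), ∀ g ∈ N, s * g * s⁻¹ ∈ N :=
    fun s _ g hg => hNn.conj_mem g hg s
  have hPp : IsPGroup p (P : Subgroup G) := P.isPGroup'
  obtain ⟨θ, hθfix, hθ⟩ := exists_fixed_constituent (P : Subgroup G) N hnorm hPp χ hχ
  have hθ1 := fixed_irr_trivial (P : Subgroup G) N hnorm hPp hN θ hθfix
  have hsum : ∑ n : N, χ.1 n ≠ 0 := by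
    intro h0
    apply hθ
    unfold classInner
    have : ∑ g : N, χ.1 g * conj (θ.1 g) = ∑ n : N, χ.1 n := by
      refine Finset.sum_congr rfl fun n _ => ?_
      rw [hθ1 n]
      simp
    rw [this, h0, mul_zero]
  have hkerN : ∀ n ∈ N, χ.1 n = χ.1 1 := fun n hn => ker_of_sum_ne_zero N χ hsum hn
  obtain ⟨m, ρ, hirr, hρ⟩ := χ.2
  have hρN : ∀ n ∈ N, ρ n = 1 := by
    intro n hn
    have h1 := hkerN n hn
    rw [← hρ] at h1
    have h2 : ρ.character 1 = (finrank ℂ (Fin m → ℂ) : ℂ) := by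
      simp [Representation.character]
    rw [h2] at h1
    exact (character_eq_finrank_iff ρ n).1 h1
  -- a linear constituent on the Sylow subgroup
  let res : ↥(P : Subgroup G) → ℂ := fun t => χ.1 t
  have hres : IsCharacter (P : Subgroup G) res := isCharacter_restrict _ (isCharacter_of_irr χ.2)
  have hres1 : res 1 = (charDegree χ.1 : ℂ) := by
    show χ.1 ((1 : ↥(P : Subgroup G)) : G) = _
    rw [Subgroup.coe_one]
    exact one_eq_charDegree (isCharacter_of_irr χ.2)
  obtain ⟨β, hβ, hβd⟩ := exists_constituent_coprime hres hres1 hχ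
  have hβ1 : charDegree β.1 = 1 := by
    obtain ⟨k, hk⟩ := IsPGroup.iff_card.1 hPp
    have h1 := charDegree_dvd_card β
    rw [hk] at h1
    obtain ⟨i, -, hi⟩ := (Nat.dvd_prime_pow hp.out).1 h1
    rcases i with _ | i
    · simpa using hi
    · exact absurd (hi ▸ dvd_pow_self p (Nat.succ_ne_zero i)) hβd
  have hmul := linear_mul (isCharacter_of_irr β.2) hβ1
  have hnm := linear_norm (isCharacter_of_irr β.2) hβ1
  have hone := linear_one (isCharacter_of_irr β.2) hβ1
  have hβ' : classInner (fun t : (P : Subgroup G) => ρ.character t) β.1 ≠ 0 := by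
    rw [hρ]
    exact hβ
  obtain ⟨v, hv, hvs⟩ := exists_eigenvector ρ (P : Subgroup G) β.1 hmul hnm hβ'
  -- the stabiliser of `v`
  let St : Subgroup G :=
    { carrier := {x | ρ x v = v}
      mul_mem' := fun {a b} ha hb => by
        show ρ (a * b) v = v
        rw [map_mul, Module.End.mul_apply, hb, ha]
      one_mem' := by
        show ρ 1 v = v
        simp
      inv_mem' := fun {a} ha => by
        show ρ a⁻¹ v = v
        have h1 : ρ a⁻¹ (ρ a v) = v := by
          rw [← Module.End.mul_apply, ← map_mul]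
          simp
        rw [ha] at h1
        exact h1 }
  have hStN : N ≤ St := fun n hn => by
    show ρ n v = v
    rw [hρN n hn]
    rfl
  have hStC : ⁅(P : Subgroup G), (P : Subgroup G)⁆ ≤ St := by
    rw [Subgroup.commutator_le]
    intro a ha b hb
    show ρ (a * b * a⁻¹ * b⁻¹) v = v
    have h1 : ρ (a * b * a⁻¹ * b⁻¹) v = ρ ((⟨a, ha⟩ * ⟨b, hb⟩ * ⟨a, ha⟩⁻¹ * ⟨b, hb⟩⁻¹ :
        (P : Subgroup G)) : G) v := rfl
    rw [h1, hvs, hmul, hmul, hmul]
    have h2 : β.1 ⟨a, ha⟩ * β.1 ⟨a, ha⟩⁻¹ = 1 := by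
      rw [← hmul, mul_inv_cancel, hone]
    have h3 : β.1 ⟨b, hb⟩ * β.1 ⟨b, hb⟩⁻¹ = 1 := by
      rw [← hmul, mul_inv_cancel, hone]
    have h4 : β.1 ⟨a, ha⟩ * β.1 ⟨b, hb⟩ * β.1 ⟨a, ha⟩⁻¹ * β.1 ⟨b, hb⟩⁻¹ = 1 := by
      linear_combination (β.1 ⟨b, hb⟩ * β.1 ⟨b, hb⟩⁻¹) * h2 + h3
    rw [h4, one_smul]
  have hSt : ∀ w ∈ (N ⊔ ⁅(P : Subgroup G), (P : Subgroup G)⁆).normalCore, ρ w v = v := by
    intro w hw
    exact (sup_le hStN hStC) (Subgroup.normalCore_le _ hw)
  have h1 := ker_of_fixed_vector ρ hirr _ hv hSt hg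
  rw [← hρ]
  show LinearMap.trace ℂ _ (ρ g) = LinearMap.trace ℂ _ (ρ 1)
  rw [h1, map_one ρ]

/-- No nontrivial element of a normal subgroup meeting `P` trivially and lying in the kernels
centralises `P`. -/
theorem inf_centralizer_eq_bot (P : Sylow p G) (R : Subgroup G) [hRn : R.Normal]
    (hPR : (P : Subgroup G) ⊓ R = ⊥)
    (hker : ∀ r ∈ R, ∀ χ : IrrCharacter G, ¬ p ∣ charDegree χ.1 → χ.1 r = χ.1 1) :
    R ⊓ Subgroup.centralizer ((P : Subgroup G) : Set G) = ⊥ := by
  classical
  rw [eq_bot_iff]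
  intro y hy
  obtain ⟨hyR, hyC⟩ := Subgroup.mem_inf.1 hy
  rw [Subgroup.mem_bot]
  by_contra hne
  have hf : IsCharacter G (indFun (P : Subgroup G) (fun _ => (1 : ℂ))) :=
    isCharacter_indFun (P : Subgroup G) (isCharacter_one)
  set f := indFun (P : Subgroup G) (fun _ => (1 : ℂ)) with hfdef
  have hfy : f y = 0 := by
    rw [hfdef]
    unfold indFun
    rw [Finset.sum_eq_zero, mul_zero]
    intro x _
    apply extendByZero_of_not_mem
    intro hx
    have h1 : x⁻¹ * y * x ∈ R := by
      have := hRn.conj_mem y hyR x⁻¹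
      simpa using this
    have h2 : x⁻¹ * y * x ∈ (P : Subgroup G) ⊓ R := Subgroup.mem_inf.2 ⟨hx, h1⟩
    rw [hPR, Subgroup.mem_bot] at h2
    apply hne
    have h3 : y = x * (x⁻¹ * y * x) * x⁻¹ := by group
    rw [h3, h2]
    simp
  have hf1 : f 1 = (((P : Subgroup G).index : ℕ) : ℂ) := by
    rw [hfdef, indFun_one]
    simp
  obtain ⟨m, hm, hin⟩ := isCharacter_decomp hf
  have hval : ∀ g, f g = ∑ χ : IrrCharacter G, (m χ : ℂ) * χ.1 g := by
    intro g
    rw [hm]
    simp only [Finset.sum_apply, Pi.smul_apply]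
    simp only [nsmul_eq_mul]
  set I := (Subgroup.centralizer ({y} : Set G)).index with hI
  have hstep : ∀ χ : IrrCharacter G, ∃ w : ℂ, IsIntegral ℤ w ∧
      (I : ℂ) * ((m χ : ℂ) * χ.1 y) = (I : ℂ) * ((m χ : ℂ) * χ.1 1) + p * w := by
    intro χ
    by_cases hd : p ∣ charDegree χ.1
    · obtain ⟨c, hc⟩ := hd
      refine ⟨(m χ : ℂ) * c * (cc y χ - I), ?_, ?_⟩
      · have hi1 : IsIntegral ℤ (m χ : ℂ) := by
          have := isIntegral_algebraMap (R := ℤ) (A := ℂ) (x := (m χ : ℤ))
          simpa using this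
        have hi2 : IsIntegral ℤ (c : ℂ) := by
          have := isIntegral_algebraMap (R := ℤ) (A := ℂ) (x := (c : ℤ))
          simpa using this
        have hi3 : IsIntegral ℤ (I : ℂ) := by
          have := isIntegral_algebraMap (R := ℤ) (A := ℂ) (x := (I : ℤ))
          simpa using this
        exact (hi1.mul hi2).mul ((cc_isIntegral y χ).sub hi3)
      · have hd1 : χ.1 1 = (charDegree χ.1 : ℂ) := one_eq_charDegree (isCharacter_of_irr χ.2)
        have hpos : χ.1 1 ≠ 0 := by
          rw [hd1]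
          exact_mod_cast (irr_charDegree_pos χ.2).ne'
        have hcc : cc y χ * χ.1 1 = (I : ℂ) * χ.1 y := by
          show centralChar χ.1 y * χ.1 1 = _
          unfold centralChar
          rw [div_mul_cancel₀ _ hpos]
        have hc' : χ.1 1 = (p : ℂ) * c := by
          rw [hd1, hc]
          push_cast
          ring
        have : (I : ℂ) * ((m χ : ℂ) * χ.1 y) = (m χ : ℂ) * (cc y χ * χ.1 1) := by
          rw [hcc]
          ring
        rw [this, hc']
        ring
    · refine ⟨0, isIntegral_zero, ?_⟩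
      rw [hker y hyR χ hd]
      simp
  choose w hw hwe using hstep
  have hsum : (0 : ℂ) = (I : ℂ) * ((P : Subgroup G).index : ℂ) + p * ∑ χ, w χ := by
    have h1 : (I : ℂ) * f y = ∑ χ, (I : ℂ) * ((m χ : ℂ) * χ.1 y) := by
      rw [hval, Finset.mul_sum]
    have h2 : (I : ℂ) * f 1 = ∑ χ, (I : ℂ) * ((m χ : ℂ) * χ.1 1) := by
      rw [hval, Finset.mul_sum]
    rw [hfy, mul_zero] at h1
    rw [hf1] at h2
    rw [h1, h2, Finset.mul_sum, ← Finset.sum_add_distrib]
    exact Finset.sum_congr rfl fun χ _ => hwe χ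
  have hdvd : (p : ℤ) ∣ ((I * (P : Subgroup G).index : ℕ) : ℤ) := by
    refine p_dvd_of_eq_mul hp.out _ (-(∑ χ, w χ)) ?_ ?_
    · exact (IsIntegral.sum _ fun χ _ => hw χ).neg
    · push_cast
      linear_combination -hsum
  have hdvd' : p ∣ I * (P : Subgroup G).index := by exact_mod_cast hdvd
  have hnd : ¬ p ∣ (P : Subgroup G).index := P.not_dvd_index
  have hle : (P : Subgroup G) ≤ Subgroup.centralizer ({y} : Set G) := by
    intro t ht
    rw [Subgroup.mem_centralizer_iff]
    intro z hz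
    rw [Set.mem_singleton_iff] at hz
    subst hz
    have := (Subgroup.mem_centralizer_iff.1 hyC) t ht
    exact this.symm
  have hnI : ¬ p ∣ I := fun h => hnd (h.trans (Subgroup.index_dvd_of_le hle))
  exact ((hp.out.dvd_mul).1 hdvd').elim hnI hnd

/-- Elements lying in all kernels of the `p`-prime degree characters of `P ∩ K`. -/
theorem mem_commutator_of_ker (P : Sylow p G) (q : (P : Subgroup G))
    (hq : ∀ χ : IrrCharacter G, ¬ p ∣ charDegree χ.1 → χ.1 q = χ.1 1) :
    q ∈ commutator (P : Subgroup G) := by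
  classical
  by_contra hne
  have hne' : Abelianization.of q ≠ 1 := by
    intro h
    apply hne
    exact (QuotientGroup.eq_one_iff q).1 h
  obtain ⟨φ, hφ⟩ := CommGroup.exists_apply_ne_one_of_hasEnoughRootsOfUnity
    (Abelianization (P : Subgroup G)) ℂ hne'
  let ω : (P : Subgroup G) →* ℂˣ := φ.comp Abelianization.of
  have hω : ω q ≠ 1 := hφ
  let lam : IrrCharacter (P : Subgroup G) := ⟨fun v => (ω v : ℂ), H23.isIrrCharacter_hom ω⟩
  have hΦ : IsCharacter G (indFun (P : Subgroup G) lam.1) :=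
    isCharacter_indFun (P : Subgroup G) (isCharacter_of_irr lam.2)
  have h1 : indFun (P : Subgroup G) lam.1 1 = (((P : Subgroup G).index : ℕ) : ℂ) := by
    rw [indFun_one]
    simp [lam]
  obtain ⟨χ, hχ, hχd⟩ := exists_constituent_coprime hΦ h1 P.not_dvd_index
  rw [frobenius_reciprocity (P : Subgroup G) _ χ.1
    (isClassFunction_of_isCharacter (isCharacter_of_irr χ.2))] at hχ
  have h2 : classInner (fun t : (P : Subgroup G) => χ.1 t) lam.1 ≠ 0 := by
    intro h0
    apply hχ
    rw [← classInner_comm_conj, h0, map_zero]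
  have h3 := kernel_of_constituent (k := q)
    (isCharacter_restrict (P : Subgroup G) (isCharacter_of_irr χ.2)) lam h2 (hq χ hχd)
  apply hω
  have h4 : (ω q : ℂ) = ((1 : ℂˣ) : ℂ) := by
    simpa [lam] using h3
  exact Units.ext h4

/-- The main theorem. -/
theorem kernel_pprime_eq_core (P : Sylow p G) (N : Subgroup G) [hNn : N.Normal]
    (hN : N ⊓ Subgroup.centralizer ((P : Subgroup G) : Set G) = ⊥)
    (hmax : ∀ L : Subgroup G, L.Normal →
      L ⊓ Subgroup.centralizer ((P : Subgroup G) : Set G) = ⊥ → L ≤ N) :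
    {g : G | ∀ χ : Cfsg.IrrCharacter G, ¬ p ∣ Cfsg.charDegree (χ : G → ℂ) →
        (χ : G → ℂ) g = (χ : G → ℂ) 1} =
      ((N ⊔ ⁅(P : Subgroup G), (P : Subgroup G)⁆).normalCore : Set G) := by
  classical
  ext g
  constructor
  · intro hg
    let K : Subgroup G := ⨅ χ : {χ : IrrCharacter G // ¬ p ∣ charDegree χ.1},
      charKer χ.1.1 (isCharacter_of_irr χ.1.2)
    have hKmem : ∀ x, x ∈ K ↔ ∀ χ : IrrCharacter G, ¬ p ∣ charDegree χ.1 → χ.1 x = χ.1 1 := by
      intro x
      simp only [K, Subgroup.mem_iInf, mem_charKer, Subtype.forall]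
    haveI hKn : K.Normal := by
      haveI : ∀ χ : {χ : IrrCharacter G // ¬ p ∣ charDegree χ.1},
          (charKer χ.1.1 (isCharacter_of_irr χ.1.2)).Normal := fun _ => charKer_normal _ _
      exact Subgroup.normal_iInf_normal (fun _ => inferInstance)
    obtain ⟨R, hRn, hRK, hRc, hPR, hKR⟩ := H23.tate_normal P K hKn
      (fun q hq => mem_commutator_of_ker P q ((hKmem _).1 hq))
    have hRN : R ≤ N := hmax R hRn (inf_centralizer_eq_bot P R hPR
      (fun r hr => (hKmem r).1 (hRK hr)))
    have hKle : K ≤ N ⊔ ⁅(P : Subgroup G), (P : Subgroup G)⁆ := by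
      intro x hx
      have hx' := hKR hx
      rw [← SetLike.mem_coe, Subgroup.normal_mul] at hx'
      obtain ⟨r, hr, t, ht, rfl⟩ := Set.mem_mul.1 hx'
      have htK : t ∈ K := by
        have : t = r⁻¹ * (r * t) := by group
        rw [this]
        exact K.mul_mem (K.inv_mem (hRK hr)) hx
      have h2 := mem_commutator_of_ker P ⟨t, ht⟩ ((hKmem t).1 htK)
      have h3 : t ∈ ⁅(P : Subgroup G), (P : Subgroup G)⁆ := by
        have h4 := Subgroup.map_subtype_commutator (P : Subgroup G)
        rw [← h4]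
        exact ⟨_, h2, rfl⟩
      exact Subgroup.mul_mem _ (Subgroup.mem_sup_left (hRN hr)) (Subgroup.mem_sup_right h3)
    have := (Subgroup.normal_le_normalCore).2 hKle
    exact this ((hKmem g).2 hg)
  · intro hg χ hχ
    exact ker_of_pprime_degree P N hN χ hχ hg

end Main

end Cfsg.Agent.H21
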