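import Cfsg.Agent.Lib.H21.GlaubSolv
import Cfsg.Agent.Lib.H21.KernelPPrime
import Cfsg.Agent.Lib.H04.Cliff.Det
import Cfsg.Agent.Lib.H04.Cliff.Gallagher
import Cfsg.Agent.Lib.H04.Cliff.Degree
import Cfsg.Agent.Lib.H22.NormalAb
import Cfsg.Agent.Lib.H23.AcdTwo

/-!
# Characters of degree prime to the order of a complement.
-/

set_option autoImplicit false
set_option linter.unusedSectionVars false
set_option linter.style.haveILetI false
set_option linter.unusedSimpArgs false

namespace Cfsg.Agent.H21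

open scoped ComplexConjugate Pointwise
open Cfsg Module Cfsg.Agent.H22

universe u

section Classes

theorem card_conjClasses_congr {A B : Type*} [Group A] [Group B] (e : A ≃* B) :
    Nat.card (ConjClasses A) = Nat.card (ConjClasses B) := by
  refine Nat.card_congr ⟨ConjClasses.map e.toMonoidHom, ConjClasses.map e.symm.toMonoidHom, ?_, ?_⟩
  · intro c
    obtain ⟨a, rfl⟩ := ConjClasses.mk_surjective c
    show ConjClasses.mk (e.symm (e a)) = ConjClasses.mk a
    rw [MulEquiv.symm_apply_apply]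
  · intro c
    obtain ⟨a, rfl⟩ := ConjClasses.mk_surjective c
    show ConjClasses.mk (e (e.symm a)) = ConjClasses.mk a
    rw [MulEquiv.apply_symm_apply]

/-- Glauberman's lemma, in counting form: invariant classes correspond to classes of the
fixed-point subgroup. -/
theorem class_count (n : ℕ) : ∀ (G : Type u) [Group G] [Fintype G] (B : Subgroup (MulAut G)),
    Group.IsSolvable B → (Nat.card B).Coprime (Nat.card G) → Nat.card B ≤ n →
    Nat.card {K : ConjClasses G // ∀ b : B, ∀ g, ConjClasses.mk g = K → ConjClasses.mk (b.1 g) = K} =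
      Nat.card (ConjClasses (fixedSub ((B : Subgroup (MulAut G)) : Set (MulAut G)))) := by
  induction n with
  | zero =>
    intro G _ _ B _ _ h0
    exact absurd h0 (by
      have : 0 < Nat.card B := Nat.card_pos
      omega)
  | succ n ih =>
    intro G _ _ B hsolv hcop hle
    classical
    by_cases hB : Nontrivial B
    · obtain ⟨T, p, hTn, hTne, hp, _, hTexp⟩ := H01.exists_elementary_abelian_normal (G := B)
      haveI := Fact.mk hp
      have hTp : IsPGroup p T := by
        intro x
        refine ⟨1, ?_⟩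
        apply Subtype.ext
        simpa using hTexp x.1 x.2
      have hpB : p ∣ Nat.card B := by
        obtain ⟨k, hk⟩ := IsPGroup.iff_card.1 hTp
        have h1 : Nat.card T ≠ 1 := fun h => hTne (Subgroup.eq_bot_of_card_eq _ h)
        have hk0 : k ≠ 0 := by
          rintro rfl
          exact h1 (by simpa using hk)
        have h2 : p ∣ Nat.card T := by
          rw [hk]
          exact dvd_pow_self p hk0
        exact h2.trans (Subgroup.card_subgroup_dvd_card T)
      have hG : ¬ p ∣ Nat.card G := by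
        intro hd
        have := Nat.dvd_gcd hpB hd
        rw [Nat.Coprime.gcd_eq_one hcop] at this
        exact hp.one_lt.ne' (Nat.dvd_one.1 this)
      haveI : Fintype (fixT T) := Fintype.ofFinite _
      rw [class_inv_step T hTp hG]
      let ψ := toFixT T
      let B' : Subgroup (MulAut (fixT T)) := ψ.range
      have hsolv' : Group.IsSolvable B' := by
        haveI := hsolv
        exact Group.isSolvable_of_surjective (f := ψ.rangeRestrict) ψ.rangeRestrict_surjective
      have hTker : T ≤ ψ.ker := by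
        intro t ht
        rw [MonoidHom.mem_ker]
        ext c
        show t.1 c.1 = c.1
        exact c.2 _ ⟨t, ht, rfl⟩
      have hcard1 : Nat.card B' * Nat.card ψ.ker = Nat.card B := by
        have e1 : Nat.card B' = ψ.ker.index := (Subgroup.index_ker ψ).symm
        rw [e1, mul_comm]
        exact Subgroup.card_mul_index _
      have hlt : Nat.card B' ≤ n := by
        have h1 : Nat.card T ≤ Nat.card ψ.ker := Subgroup.card_le_of_le hTker
        have h2 : 2 ≤ Nat.card T := by
          have h3 : Nat.card T ≠ 1 := fun h => hTne (Subgroup.eq_bot_of_card_eq _ h)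
          have h4 : 0 < Nat.card T := Nat.card_pos
          omega
        have h5 : Nat.card B' * 2 ≤ Nat.card B := by
          rw [← hcard1]
          exact Nat.mul_le_mul_left _ (h2.trans h1)
        have h6 : 0 < Nat.card B' := Nat.card_pos
        omega
      have hcop' : (Nat.card B').Coprime (Nat.card (fixT T)) := by
        have h1 : Nat.card B' ∣ Nat.card B := Dvd.intro _ hcard1
        have h2 : Nat.card (fixT T) ∣ Nat.card G := Subgroup.card_subgroup_dvd_card _
        exact Nat.Coprime.coprime_dvd_left h1 (Nat.Coprime.coprime_dvd_right h2 hcop)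
      have key := ih (fixT T) B' hsolv' hcop' hlt
      have e2 : Nat.card {L : ConjClasses (fixT T) //
          ∀ b : B, ∀ c, ConjClasses.mk c = L → ConjClasses.mk (toFixT T b c) = L} =
          Nat.card {K : ConjClasses (fixT T) // ∀ b : B', ∀ g,
            ConjClasses.mk g = K → ConjClasses.mk (b.1 g) = K} := by
        apply Nat.card_congr
        apply Equiv.subtypeEquivRight
        intro L
        constructor
        · rintro h ⟨_, b, rfl⟩ c
          exact h b c
        · intro h b c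
          exact h ⟨ψ b, b, rfl⟩ c
      rw [e2, key]
      -- the fixed subgroups agree
      apply card_conjClasses_congr
      let f : ↥(fixedSub ((B' : Subgroup (MulAut (fixT T))) : Set (MulAut (fixT T)))) →*
          ↥(fixedSub ((B : Subgroup (MulAut G)) : Set (MulAut G))) :=
        { toFun := fun c => ⟨c.1.1, fun α hα => by
            have h1 := c.2 (ψ ⟨α, hα⟩) ⟨⟨α, hα⟩, rfl⟩
            exact congrArg Subtype.val h1⟩
          map_one' := rfl
          map_mul' := fun _ _ => rfl }
      refine MulEquiv.ofBijective f ⟨?_, ?_⟩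
      · intro a b hab
        apply Subtype.ext
        apply Subtype.ext
        exact (congrArg Subtype.val hab : (f a).1 = (f b).1)
      · intro c
        refine ⟨⟨⟨c.1, ?_⟩, ?_⟩, rfl⟩
        · rintro _ ⟨t, ht, rfl⟩
          exact c.2 _ t.2
        · rintro _ ⟨b, rfl⟩
          apply Subtype.ext
          exact c.2 _ b.2
    · rw [not_nontrivial_iff_subsingleton] at hB
      have h1 : ∀ b : B, b.1 = 1 := fun b => by
        have := Subsingleton.elim b 1
        rw [this]
        rfl
      have e2 : Nat.card {K : ConjClasses G // ∀ b : B, ∀ g,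
          ConjClasses.mk g = K → ConjClasses.mk (b.1 g) = K} = Nat.card (ConjClasses G) := by
        apply Nat.card_congr
        apply Equiv.subtypeUnivEquiv
        intro K b g hg
        rw [h1]
        exact hg
      rw [e2]
      apply card_conjClasses_congr
      let f : ↥(fixedSub ((B : Subgroup (MulAut G)) : Set (MulAut G))) →* G :=
        { toFun := fun c => (c : G)
          map_one' := rfl
          map_mul' := fun _ _ => rfl }
      refine (MulEquiv.ofBijective f ⟨Subtype.val_injective, ?_⟩).symm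
      intro g
      refine ⟨⟨g, fun α hα => ?_⟩, rfl⟩
      have h2 : α = 1 := h1 ⟨α, hα⟩
      rw [h2]
      rfl

end Classes

section Ext

variable {G : Type u} [Group G] [Finite G] (K : Subgroup G) [hK : K.Normal]

/-- An invariant irreducible character of a normal Hall subgroup extends. -/
theorem exists_ext_coprime (hcop : Nat.Coprime K.index (Nat.card K)) (θ : IrrCharacter K)
    (hinv : ∀ (g : G) (n : K), θ.1 ⟨g * n * g⁻¹, hK.conj_mem n n.2 g⟩ = θ.1 n) :
    ∃ χ : IrrCharacter G, ∀ n : K, χ.1 n = θ.1 n := by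
  obtain ⟨m, ρ, hρ, hch⟩ := θ.2
  have hinv' := H04.Cliff.inv_of_char hch hinv
  have hdet := H04.Cliff.det_conj_inv hρ hinv'
  have hord : orderOf (H04.Cliff.detU ρ) ∣ Nat.card K := by
    apply _root_.orderOf_dvd_of_pow_eq_one
    ext n
    simp only [MonoidHom.pow_apply, ← map_pow, pow_card_eq_one', map_one, MonoidHom.one_apply]
  obtain ⟨μ, hμ, -, -⟩ := H04.Cliff.canon_ext K (H04.Cliff.detU ρ) hdet
    (Nat.Coprime.coprime_dvd_right hord hcop)
  have hfin : finrank ℂ (Fin m → ℂ) = charDegree θ.1 := by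
    have h1 : θ.1 1 = (charDegree θ.1 : ℂ) := one_eq_charDegree (isCharacter_of_irr θ.2)
    have h2 : ρ.character 1 = (finrank ℂ (Fin m → ℂ) : ℂ) := by
      simp [Representation.character]
    rw [hch] at h2
    rw [h1] at h2
    exact_mod_cast h2.symm
  obtain ⟨τ, -, hτ⟩ := H04.Cliff.extends_of_det hρ hinv' μ (fun n => by
      rw [hμ]
      rfl) (by
      rw [hfin]
      exact Nat.Coprime.coprime_dvd_right (charDegree_dvd_card θ) hcop)
  obtain ⟨h1, h2⟩ := H04.Cliff.char_of_ext hρ hτ
  exact ⟨⟨τ.character, h1⟩, fun n => by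
    show τ.character n = _
    rw [h2, hch]⟩

/-- A retraction onto a complement. -/
theorem exists_retraction (H : Subgroup G) (hKH : K ⊔ H = ⊤) (hinf : K ⊓ H = ⊥) :
    ∃ π : G →* H, (∀ h : H, π h = h) ∧ (∀ k ∈ K, π k = 1) ∧ ∀ g, g * ((π g : H) : G)⁻¹ ∈ K := by
  let f : H →* G ⧸ K := (QuotientGroup.mk' K).comp H.subtype
  have hinj : Function.Injective f := by
    intro a b hab
    have h1 : (a : G)⁻¹ * b ∈ K := QuotientGroup.eq.1 hab
    have h2 : (a : G)⁻¹ * b ∈ K ⊓ H := Subgroup.mem_inf.2 ⟨h1, H.mul_mem (H.inv_mem a.2) b.2⟩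
    rw [hinf, Subgroup.mem_bot] at h2
    apply Subtype.ext
    rw [inv_mul_eq_one] at h2
    exact h2
  have hsurj : Function.Surjective f := by
    intro x
    obtain ⟨g, rfl⟩ := QuotientGroup.mk_surjective x
    have hg : g ∈ ((K ⊔ H : Subgroup G) : Set G) := by
      rw [hKH]
      trivial
    rw [Subgroup.normal_mul] at hg
    obtain ⟨k, hk, h, hh, rfl⟩ := Set.mem_mul.1 hg
    refine ⟨⟨h, hh⟩, ?_⟩
    show ((h : G) : G ⧸ K) = ((k * h : G) : G ⧸ K)
    rw [QuotientGroup.eq]
    have : h⁻¹ * (k * h) = h⁻¹ * k * h⁻¹⁻¹ := by group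
    rw [this]
    exact hK.conj_mem k hk h⁻¹
  let e : H ≃* G ⧸ K := MulEquiv.ofBijective f ⟨hinj, hsurj⟩
  refine ⟨e.symm.toMonoidHom.comp (QuotientGroup.mk' K), ?_, ?_, ?_⟩
  · intro h
    show e.symm ((QuotientGroup.mk' K) (h : G)) = h
    exact e.symm_apply_apply h
  · intro k hk
    show e.symm ((QuotientGroup.mk' K) k) = 1
    have : (QuotientGroup.mk' K) k = 1 := (QuotientGroup.eq_one_iff k).2 hk
    rw [this, map_one]
  · intro g
    set y := e.symm ((QuotientGroup.mk' K) g) with hy
    have h1 : e y = (QuotientGroup.mk' K) g := e.apply_symm_apply _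
    have h2 : ((y : G) : G ⧸ K) = ((g : G) : G ⧸ K) := h1
    have h3 := QuotientGroup.eq.1 h2
    have h4 : g * (y : G)⁻¹ = (y : G) * ((y : G)⁻¹ * g) * (y : G)⁻¹ := by group
    show g * (y : G)⁻¹ ∈ K
    rw [h4]
    exact hK.conj_mem _ h3 y

/-- Index of a normal Hall complement. -/
theorem index_eq_card_of_complement (H : Subgroup G) (hKH : K ⊔ H = ⊤) (hinf : K ⊓ H = ⊥) :
    K.index = Nat.card H := by
  let f : H →* G ⧸ K := (QuotientGroup.mk' K).comp H.subtype
  have hinj : Function.Injective f := by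
    intro a b hab
    have h1 : (a : G)⁻¹ * b ∈ K := QuotientGroup.eq.1 hab
    have h2 : (a : G)⁻¹ * b ∈ K ⊓ H := Subgroup.mem_inf.2 ⟨h1, H.mul_mem (H.inv_mem a.2) b.2⟩
    rw [hinf, Subgroup.mem_bot] at h2
    apply Subtype.ext
    rw [inv_mul_eq_one] at h2
    exact h2
  have hsurj : Function.Surjective f := by
    intro x
    obtain ⟨g, rfl⟩ := QuotientGroup.mk_surjective x
    have hg : g ∈ ((K ⊔ H : Subgroup G) : Set G) := by
      rw [hKH]
      trivial
    rw [Subgroup.normal_mul] at hg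
    obtain ⟨k, hk, h, hh, rfl⟩ := Set.mem_mul.1 hg
    refine ⟨⟨h, hh⟩, ?_⟩
    show ((h : G) : G ⧸ K) = ((k * h : G) : G ⧸ K)
    rw [QuotientGroup.eq]
    have : h⁻¹ * (k * h) = h⁻¹ * k * h⁻¹⁻¹ := by group
    rw [this]
    exact hK.conj_mem k hk h⁻¹
  rw [Subgroup.index_eq_card]
  exact (Nat.card_congr (Equiv.ofBijective f ⟨hinj, hsurj⟩)).symm

theorem card_coprime_degree (H : Subgroup G) (hKH : K ⊔ H = ⊤) (hinf : K ⊓ H = ⊥)
    (hcop : (Nat.card K).Coprime (Nat.card H)) :
    Nat.card {χ : IrrCharacter G // (charDegree χ.1).Coprime (Nat.card H)} =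
      Nat.card {θ : IrrCharacter K // ∀ (g : G) (n : K),
        θ.1 ⟨g * n * g⁻¹, hK.conj_mem n n.2 g⟩ = θ.1 n} * Nat.card (H →* ℂˣ) := by
  classical
  have hidx := index_eq_card_of_complement K H hKH hinf
  obtain ⟨π, hπ1, hπ2, hπ3⟩ := exists_retraction K H hKH hinf
  have hcop' : Nat.Coprime K.index (Nat.card K) := by
    rw [hidx]
    exact hcop.symm
  -- the chosen extensions
  have hext : ∀ θ : {θ : IrrCharacter K // ∀ (g : G) (n : K),
      θ.1 ⟨g * n * g⁻¹, hK.conj_mem n n.2 g⟩ = θ.1 n},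
      ∃ χ : IrrCharacter G, ∀ n : K, χ.1 n = θ.1.1 n :=
    fun θ => exists_ext_coprime K hcop' θ.1 θ.2
  choose ext hext using hext
  -- the inflated linear characters
  let lin : (H →* ℂˣ) → G →* ℂˣ := fun ω => ω.comp π
  have hlin : ∀ ω, IsIrrCharacter G (fun g => ((lin ω g : ℂˣ) : ℂ)) :=
    fun ω => H23.isIrrCharacter_hom (lin ω)
  have hlin1 : ∀ ω, charDegree (fun g => ((lin ω g : ℂˣ) : ℂ)) = 1 := by
    intro ω
    have := one_eq_charDegree (isCharacter_of_irr (hlin ω))
    have h2 : ((lin ω 1 : ℂˣ) : ℂ) = 1 := by simp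
    rw [h2] at this
    exact_mod_cast this.symm
  have hK1 : ∀ ω, ∀ k ∈ K, ((lin ω k : ℂˣ) : ℂ) = 1 := by
    intro ω k hk
    show ((ω (π k) : ℂˣ) : ℂ) = 1
    rw [hπ2 k hk, map_one]
    rfl
  let Φ : {θ : IrrCharacter K // ∀ (g : G) (n : K),
      θ.1 ⟨g * n * g⁻¹, hK.conj_mem n n.2 g⟩ = θ.1 n} × (H →* ℂˣ) →
      {χ : IrrCharacter G // (charDegree χ.1).Coprime (Nat.card H)} := fun x =>
    ⟨⟨fun g => ((lin x.2 g : ℂˣ) : ℂ) * (ext x.1).1 g,
      H06.isIrr_linear_mul (ext x.1).2 (isCharacter_of_irr (hlin x.2)) (hlin1 x.2)⟩, by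
      have h1 : ((fun g => ((lin x.2 g : ℂˣ) : ℂ) * (ext x.1).1 g) : G → ℂ) 1 =
          ((charDegree x.1.1.1 : ℕ) : ℂ) := by
        have h2 := hext x.1 1
        have h3 : (ext x.1).1 1 = x.1.1.1 1 := by simpa using h2
        simp only [map_one, Units.val_one, one_mul]
        rw [h3]
        exact one_eq_charDegree (isCharacter_of_irr x.1.1.2)
      have h4 : charDegree (fun g => ((lin x.2 g : ℂˣ) : ℂ) * (ext x.1).1 g) =
          charDegree x.1.1.1 := by
        show ⌊(((fun g => ((lin x.2 g : ℂˣ) : ℂ) * (ext x.1).1 g) : G → ℂ) 1).re⌋₊ = _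
        rw [h1, Complex.natCast_re, Nat.floor_natCast]
      simp only
      rw [h4]
      exact Nat.Coprime.coprime_dvd_left (charDegree_dvd_card x.1.1) hcop⟩
  have hΦval : ∀ x g, (Φ x).1.1 g = ((lin x.2 g : ℂˣ) : ℂ) * (ext x.1).1 g := fun _ _ => rfl
  have hΦbij : Function.Bijective Φ := by
    have hone : IsIrrCharacter K (fun _ => (1 : ℂ)) := isIrrCharacter_one
    -- Gallagher
    have hgal : ∀ θ : {θ : IrrCharacter K // ∀ (g : G) (n : K),
        θ.1 ⟨g * n * g⁻¹, hK.conj_mem n n.2 g⟩ = θ.1 n},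
        Set.BijOn (fun β : G → ℂ => β * (ext θ).1)
          {β : G → ℂ | IsIrrCharacter G β ∧ classInner (indFun K (fun _ => (1 : ℂ))) β ≠ 0}
          {ψ : G → ℂ | IsIrrCharacter G ψ ∧
            classInner (indFun K ((fun _ => (1 : ℂ)) * θ.1.1)) ψ ≠ 0} := by
      intro θ
      refine H04.Cliff.gallagher_bij K hone ?_ ?_ ?_ (isCharacter_of_irr (ext θ).2) (hext θ)
      · have : ((fun _ => (1 : ℂ)) * θ.1.1 : K → ℂ) = θ.1.1 := by
          funext n
          simp
        rw [this]
        exact θ.1.2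
      · intro t
        funext n
        rfl
      · intro t
        funext n
        exact θ.2 t n
    have hmem : ∀ ω, classInner (indFun K (fun _ => (1 : ℂ)))
        (fun g => ((lin ω g : ℂˣ) : ℂ)) ≠ 0 := by
      intro ω
      rw [frobenius_reciprocity K _ _ (isClassFunction_of_isCharacter (isCharacter_of_irr (hlin ω)))]
      have : (fun h : K => ((lin ω (h : G) : ℂˣ) : ℂ)) = fun _ => (1 : ℂ) := by
        funext h
        exact hK1 ω h h.2
      rw [this]
      have h2 := classInner_irr (oneIrr K) (oneIrr K)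
      rw [if_pos rfl] at h2
      show classInner (oneIrr K).1 (oneIrr K).1 ≠ 0
      rw [h2]
      exact one_ne_zero
    constructor
    · rintro ⟨θ, ω⟩ ⟨θ', ω'⟩ h
      have hv : ∀ g, ((lin ω g : ℂˣ) : ℂ) * (ext θ).1 g = ((lin ω' g : ℂˣ) : ℂ) * (ext θ').1 g := by
        intro g
        have := congrArg (fun x : {χ : IrrCharacter G // (charDegree χ.1).Coprime (Nat.card H)} =>
          x.1.1 g) h
        exact this
      have hθ : θ = θ' := by
        apply Subtype.ext
        apply Subtype.ext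
        funext n
        have h1 := hv n
        rw [hK1 ω n n.2, hK1 ω' n n.2, one_mul, one_mul, hext, hext] at h1
        exact h1
      subst hθ
      congr 1
      have h2 := (hgal θ).injOn (x₁ := fun g => ((lin ω g : ℂˣ) : ℂ))
        (x₂ := fun g => ((lin ω' g : ℂˣ) : ℂ)) ⟨hlin ω, hmem ω⟩ ⟨hlin ω', hmem ω'⟩ (by
          funext g
          exact hv g)
      ext h
      have h3 := congrFun h2 h
      show ((ω h : ℂˣ) : ℂ) = (ω' h : ℂˣ)
      have e1 : ((lin ω h : ℂˣ) : ℂ) = ((ω h : ℂˣ) : ℂ) := by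
        show ((ω (π h) : ℂˣ) : ℂ) = _
        rw [hπ1]
      have e2 : ((lin ω' h : ℂˣ) : ℂ) = ((ω' h : ℂˣ) : ℂ) := by
        show ((ω' (π h) : ℂˣ) : ℂ) = _
        rw [hπ1]
      rw [← e1, ← e2]
      exact h3
    · rintro ⟨χ, hχ⟩
      -- a constituent on `K`
      have hres := isCharacter_restrict K (isCharacter_of_irr χ.2)
      obtain ⟨θ, hθ⟩ : ∃ θ : IrrCharacter K, classInner (fun n : K => χ.1 n) θ.1 ≠ 0 := by
        obtain ⟨ψ, hψ⟩ := H22.exists_constituent K χ
        refine ⟨ψ, fun h0 => hψ ?_⟩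
        unfold classInner at h0
        have hcard : (Nat.card K : ℂ) ≠ 0 := by exact_mod_cast Nat.card_pos.ne'
        have h2 := (mul_eq_zero.1 h0).resolve_left (inv_ne_zero hcard)
        rw [← h2]
        exact Finset.sum_congr rfl fun _ _ => mul_comm _ _
      obtain ⟨e, he, hdeg, hin⟩ := degree_over K θ.2 χ hθ
      have hKin : K ≤ H06.inertiaSub K θ.1 :=
        H06.le_inertiaSub K (isClassFunction_of_isCharacter (isCharacter_of_irr θ.2))
      have hinvdvd : (H06.inertiaSub K θ.1).index ∣ Nat.card H := by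
        rw [← hidx]
        exact Subgroup.index_dvd_of_le hKin
      have hinv1 : (H06.inertiaSub K θ.1).index = 1 := by
        have h1 : (H06.inertiaSub K θ.1).index ∣ charDegree χ.1 := by
          exact ⟨e * charDegree θ.1, by rw [hdeg]; ring⟩
        exact Nat.Coprime.eq_one_of_dvd (Nat.Coprime.coprime_dvd_left h1 hχ) hinvdvd
      have hinvθ : ∀ (g : G) (n : K), θ.1 ⟨g * n * g⁻¹, hK.conj_mem n n.2 g⟩ = θ.1 n := by
        intro g n
        have h1 : H06.inertiaSub K θ.1 = ⊤ := Subgroup.index_eq_one.1 hinv1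
        have h2 : g ∈ H06.inertiaSub K θ.1 := by
          rw [h1]
          trivial
        exact (H06.mem_inertiaSub K).1 h2 n
      let θ' : {θ : IrrCharacter K // ∀ (g : G) (n : K),
        θ.1 ⟨g * n * g⁻¹, hK.conj_mem n n.2 g⟩ = θ.1 n} := ⟨θ, hinvθ⟩
      have hχmem : χ.1 ∈ {ψ : G → ℂ | IsIrrCharacter G ψ ∧
            classInner (indFun K ((fun _ => (1 : ℂ)) * θ'.1.1)) ψ ≠ 0} := by
        refine ⟨χ.2, ?_⟩
        have : ((fun _ => (1 : ℂ)) * θ'.1.1 : K → ℂ) = θ.1 := by
          funext n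
          simp [θ']
        rw [this, frobenius_reciprocity K _ _ (isClassFunction_of_isCharacter (isCharacter_of_irr χ.2))]
        intro h0
        apply hθ
        rw [← classInner_comm_conj, h0, map_zero]
      obtain ⟨β, ⟨hβ, hβc⟩, hβe⟩ := (hgal θ').surjOn hχmem
      -- `β` is trivial on `K` of degree dividing the index
      have hinv1K : ∀ t : G, H06.twist K (fun _ => (1 : ℂ)) t = fun _ => (1 : ℂ) := by
        intro t
        funext n
        rfl
      obtain ⟨e', he', -, hres'⟩ := H06.clifford_restrict K hone hβ hinv1K hβc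
      have hdvd := H04.Cliff.multiplicity_dvd_index K hone hinv1K hβ hres'
      have hβ1 : β 1 = (e' : ℂ) := by
        have := hres' 1
        simpa using this
      have hβdeg : charDegree β = e' := by
        have := one_eq_charDegree (isCharacter_of_irr hβ)
        rw [hβ1] at this
        exact_mod_cast this.symm
      have hχ1 : χ.1 1 = β 1 * (ext θ').1 1 := by
        have := congrFun hβe 1
        exact this.symm
      have hext1 : (ext θ').1 1 = (charDegree θ.1 : ℂ) := by
        have h2 := hext θ' 1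
        have h3 : (ext θ').1 1 = θ.1 1 := by simpa [θ'] using h2
        rw [h3]
        exact one_eq_charDegree (isCharacter_of_irr θ.2)
      have hχdeg : charDegree χ.1 = e' * charDegree θ.1 := by
        have h2 := one_eq_charDegree (isCharacter_of_irr χ.2)
        rw [hχ1, hβ1, hext1] at h2
        exact_mod_cast h2.symm
      have he1 : e' = 1 := by
        rw [hidx] at hdvd
        have h1 : e' ∣ charDegree χ.1 := by
          rw [hχdeg]
          exact Dvd.intro _ rfl
        exact Nat.Coprime.eq_one_of_dvd (Nat.Coprime.coprime_dvd_left h1 hχ) hdvd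
      have hβdeg1 : charDegree β = 1 := by rw [hβdeg, he1]
      have hβc' := isCharacter_of_irr hβ
      have hβone : β 1 = 1 := by rw [hβ1, he1]; simp
      let U : G →* ℂˣ := H04.Cliff.linU β hβc' hβone
      have hU : ∀ g, ((U g : ℂˣ) : ℂ) = β g := fun g => H04.Cliff.coe_linU _ _ _ _
      have hUK : ∀ k ∈ K, U k = 1 := by
        intro k hk
        apply Units.ext
        rw [hU]
        have := hres' ⟨k, hk⟩
        simpa [he1] using this
      refine ⟨(θ', U.comp H.subtype), ?_⟩
      apply Subtype.ext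
      apply Subtype.ext
      funext g
      rw [hΦval]
      have h5 : ((lin (U.comp H.subtype) g : ℂˣ) : ℂ) = β g := by
        show ((U ((π g : H) : G) : ℂˣ) : ℂ) = β g
        rw [← hU]
        congr 1
        have h6 : U g = U (g * ((π g : H) : G)⁻¹) * U ((π g : H) : G) := by
          rw [← map_mul]
          simp
        rw [h6, hUK _ (hπ3 g), one_mul]
      rw [h5]
      exact congrFun hβe g
  rw [← Nat.card_prod]
  exact (Nat.card_congr (Equiv.ofBijective Φ hΦbij)).symm

end Ext

section Main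

variable {G : Type u} [Group G] [Finite G]

/-- The count of the characters of degree prime to `|H|` in `G = K ⋊ H` and in `N_G(H)`. -/
theorem card_coprime_complement (K H : Subgroup G) [hK : K.Normal] (hKH : K ⊔ H = ⊤)
    (hcop : (Nat.card K).Coprime (Nat.card H)) (hsolv : Group.IsSolvable H) :
    Nat.card {χ : IrrCharacter G // (charDegree χ.1).Coprime (Nat.card H)} =
      Nat.card {η : IrrCharacter (Subgroup.normalizer (H : Set G)) //
        (charDegree η.1).Coprime (Nat.card H)} := by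
  classical
  have hinf : K ⊓ H = ⊥ := Subgroup.inf_eq_bot_of_coprime hcop
  rw [card_coprime_degree K H hKH hinf hcop]
  let N : Subgroup G := Subgroup.normalizer (H : Set G)
  have hHN : H ≤ N := by
    intro h hh
    rw [Subgroup.mem_normalizer_iff]
    intro x
    constructor
    · intro hx
      exact H.mul_mem (H.mul_mem hh hx) (H.inv_mem hh)
    · intro hx
      have : x = h⁻¹ * (h * x * h⁻¹) * h := by group
      rw [this]
      exact H.mul_mem (H.mul_mem (H.inv_mem hh) hx) hh
  -- elements of `K ∩ N` centralise `H`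
  have hcomm : ∀ n ∈ K, n ∈ N → ∀ h ∈ H, n * h * n⁻¹ = h := by
    intro n hnK hnN h hh
    have h1 : n * h * n⁻¹ ∈ H := (Subgroup.mem_normalizer_iff.1 hnN h).1 hh
    have h2 : n * h * n⁻¹ * h⁻¹ ∈ H := H.mul_mem h1 (H.inv_mem hh)
    have h3 : n * h * n⁻¹ * h⁻¹ ∈ K := by
      have h4 : n * h * n⁻¹ * h⁻¹ = n * (h * n⁻¹ * h⁻¹) := by group
      rw [h4]
      exact K.mul_mem hnK (hK.conj_mem _ (K.inv_mem hnK) h)
    have h5 : n * h * n⁻¹ * h⁻¹ ∈ K ⊓ H := Subgroup.mem_inf.2 ⟨h3, h2⟩
    rw [hinf, Subgroup.mem_bot, mul_inv_eq_one] at h5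
    exact h5
  let K₁ : Subgroup N := K.subgroupOf N
  let H₁ : Subgroup N := H.subgroupOf N
  haveI hK₁n : K₁.Normal := Subgroup.normal_subgroupOf
  have hinf₁ : K₁ ⊓ H₁ = ⊥ := by
    rw [eq_bot_iff]
    intro x hx
    obtain ⟨h1, h2⟩ := Subgroup.mem_inf.1 hx
    have h3 : (x : G) ∈ K ⊓ H := Subgroup.mem_inf.2 ⟨Subgroup.mem_subgroupOf.1 h1,
      Subgroup.mem_subgroupOf.1 h2⟩
    rw [hinf, Subgroup.mem_bot] at h3
    rw [Subgroup.mem_bot]
    exact Subtype.ext h3
  have hsup₁ : K₁ ⊔ H₁ = ⊤ := by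
    rw [eq_top_iff]
    intro x _
    have hx : (x : G) ∈ ((K ⊔ H : Subgroup G) : Set G) := by
      rw [hKH]
      trivial
    rw [Subgroup.normal_mul] at hx
    obtain ⟨k, hk, h, hh, hkh⟩ := Set.mem_mul.1 hx
    have hkN : k ∈ N := by
      have : k = (x : G) * h⁻¹ := by
        rw [← hkh]
        group
      rw [this]
      exact N.mul_mem x.2 (N.inv_mem (hHN hh))
    have e : x = ⟨k, hkN⟩ * ⟨h, hHN hh⟩ := Subtype.ext hkh.symm
    rw [e]
    exact Subgroup.mul_mem _
      (Subgroup.mem_sup_left (Subgroup.mem_subgroupOf.2 hk))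
      (Subgroup.mem_sup_right (Subgroup.mem_subgroupOf.2 hh))
  let eH : H₁ ≃* H := Subgroup.subgroupOfEquivOfLe hHN
  have hcardH₁ : Nat.card H₁ = Nat.card H := Nat.card_congr eH.toEquiv
  have hcardK₁ : Nat.card K₁ ∣ Nat.card K := by
    have hinj : Function.Injective N.subtype := Subtype.val_injective
    have h1 : Nat.card K₁ = Nat.card (K₁.map N.subtype) :=
      Nat.card_congr (K₁.equivMapOfInjective _ hinj).toEquiv
    rw [h1]
    refine Subgroup.card_dvd_of_le ?_
    rintro _ ⟨x, hx, rfl⟩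
    exact Subgroup.mem_subgroupOf.1 hx
  have hcop₁ : (Nat.card K₁).Coprime (Nat.card H₁) := by
    rw [hcardH₁]
    exact Nat.Coprime.coprime_dvd_left hcardK₁ hcop
  have hN := card_coprime_degree K₁ H₁ hsup₁ hinf₁ hcop₁
  rw [hcardH₁] at hN
  show _ = Nat.card {η : IrrCharacter N // (charDegree η.1).Coprime (Nat.card H)}
  rw [hN]
  -- the linear characters of the complements
  have hb : Nat.card (H →* ℂˣ) = Nat.card (H₁ →* ℂˣ) := by
    refine Nat.card_congr ⟨fun ω => ω.comp eH.toMonoidHom, fun ω => ω.comp eH.symm.toMonoidHom, ?_, ?_⟩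
    · intro ω
      ext x
      simp
    · intro ω
      ext x
      simp
  rw [hb]
  congr 1
  -- all characters of `K₁` are invariant
  have ha₁ : Nat.card {θ : IrrCharacter K₁ // ∀ (g : N) (n : K₁),
      θ.1 ⟨g * n * g⁻¹, hK₁n.conj_mem n n.2 g⟩ = θ.1 n} = Nat.card (IrrCharacter K₁) := by
    apply Nat.card_congr
    apply Equiv.subtypeUnivEquiv
    intro θ g n
    obtain ⟨π, -, -, hπ3⟩ := exists_retraction K₁ H₁ hsup₁ hinf₁
    have hk := hπ3 g
    set h := π g with hh
    have hgk : g = (g * ((h : H₁) : N)⁻¹) * ((h : H₁) : N) := by group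
    have hn : ((h : H₁) : N) * (n : N) * ((h : H₁) : N)⁻¹ = n := by
      have h1 := hcomm (n : N) (Subgroup.mem_subgroupOf.1 n.2) (n : N).2 _
        (Subgroup.mem_subgroupOf.1 h.2)
      apply Subtype.ext
      have h2 : (n : G) * ((h : H₁) : G) = ((h : H₁) : G) * (n : G) := by
        rw [mul_inv_eq_iff_eq_mul] at h1
        exact h1
      show (((h : H₁) : N) : G) * ((n : N) : G) * (((h : H₁) : N) : G)⁻¹ = ((n : N) : G)
      rw [mul_inv_eq_iff_eq_mul]
      exact h2.symm
    have h3 : (g : N) * (n : N) * g⁻¹ = (⟨_, hk⟩ : K₁).1 * (n : N) * ((⟨_, hk⟩ : K₁).1)⁻¹ := by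
      have h4 : (g : N) * (n : N) * g⁻¹ =
          (g * ((h : H₁) : N)⁻¹) * (((h : H₁) : N) * (n : N) * ((h : H₁) : N)⁻¹) *
            (g * ((h : H₁) : N)⁻¹)⁻¹ := by group
      rw [h4, hn]
    have h5 : (⟨g * n * g⁻¹, hK₁n.conj_mem n n.2 g⟩ : K₁) =
        (⟨_, hk⟩ : K₁) * n * (⟨_, hk⟩ : K₁)⁻¹ := Subtype.ext h3
    rw [h5]
    exact isCharacter_conj (isCharacter_of_irr θ.2) n _
  rw [ha₁, card_irr_eq_card_conjClasses]
  -- the action of `H` on `K`
  haveI : Fintype K := Fintype.ofFinite _
  let φ : H →* MulAut K := (MulAut.conjNormal (H := K)).comp H.subtype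
  have hφ : ∀ (h : H) (n : K), ((φ h n : K) : G) = h * n * (h : G)⁻¹ := fun h n => by
    show ((MulAut.conjNormal (h : G) n : K) : G) = _
    rw [MulAut.conjNormal_apply]
  let B : Subgroup (MulAut K) := φ.range
  have hBsolv : Group.IsSolvable B := by
    haveI := hsolv
    exact Group.isSolvable_of_surjective (f := φ.rangeRestrict) φ.rangeRestrict_surjective
  have hBcard : Nat.card B ∣ Nat.card H := by
    have e1 : Nat.card B = φ.ker.index := (Subgroup.index_ker φ).symm
    rw [e1]
    exact Subgroup.index_dvd_card _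
  have hBcop : (Nat.card B).Coprime (Nat.card K) :=
    Nat.Coprime.coprime_dvd_left hBcard hcop.symm
  have h1 := count_inv (Nat.card B) K B hBsolv hBcop le_rfl
  have h2 := class_count (Nat.card B) K B hBsolv hBcop le_rfl
  have e1 : Nat.card {θ : IrrCharacter K // ∀ (g : G) (n : K),
      θ.1 ⟨g * n * g⁻¹, hK.conj_mem n n.2 g⟩ = θ.1 n} =
      Nat.card {χ : IrrCharacter K // ∀ b : B, ∀ g, χ.1 (b.1 g) = χ.1 g} := by
    apply Nat.card_congr
    apply Equiv.subtypeEquivRight
    intro θ
    constructor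
    · rintro hθ ⟨_, h, rfl⟩ n
      have := hθ (h : G) n
      exact this
    · intro hθ g n
      obtain ⟨π, -, -, hπ3⟩ := exists_retraction K H hKH hinf
      have hk := hπ3 g
      set h := π g with hh
      have h3 : θ.1 (φ h n) = θ.1 n := hθ ⟨φ h, h, rfl⟩ n
      have h4 : g * (n : G) * g⁻¹ = (g * ((h : H) : G)⁻¹) * (((h : H) : G) * (n : G) * ((h : H) : G)⁻¹) *
          (g * ((h : H) : G)⁻¹)⁻¹ := by group
      have h5 : (⟨g * n * g⁻¹, hK.conj_mem n n.2 g⟩ : K) =
          (⟨_, hk⟩ : K) * φ h n * (⟨_, hk⟩ : K)⁻¹ := by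
        apply Subtype.ext
        show g * (n : G) * g⁻¹ = (g * ((h : H) : G)⁻¹) * ((φ h n : K) : G) * (g * ((h : H) : G)⁻¹)⁻¹
        rw [hφ, h4]
      rw [h5, isCharacter_conj (isCharacter_of_irr θ.2), h3]
  rw [e1, h1, h2]
  apply card_conjClasses_congr
  symm
  let f : K₁ →* ↥(fixedSub ((B : Subgroup (MulAut K)) : Set (MulAut K))) :=
    { toFun := fun x => ⟨⟨x.1.1, Subgroup.mem_subgroupOf.1 x.2⟩, fun α hα => by
        obtain ⟨h, rfl⟩ := hα
        apply Subtype.ext
        rw [hφ]
        have h1 := hcomm x.1.1 (Subgroup.mem_subgroupOf.1 x.2) x.1.2 h h.2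
        show (h : G) * x.1.1 * (h : G)⁻¹ = x.1.1
        rw [mul_inv_eq_iff_eq_mul]
        rw [mul_inv_eq_iff_eq_mul] at h1
        exact h1.symm⟩
      map_one' := rfl
      map_mul' := fun _ _ => rfl }
  refine MulEquiv.ofBijective f ⟨?_, ?_⟩
  · intro a b hab
    have h3 : (f a).1.1 = (f b).1.1 := congrArg (fun x => x.1.1) hab
    apply Subtype.ext
    apply Subtype.ext
    exact h3
  · intro c
    have hc : ∀ h ∈ H, (h : G) * c.1.1 * h⁻¹ = c.1.1 := by
      intro h hh
      have h3 := c.2 (φ ⟨h, hh⟩) ⟨⟨h, hh⟩, rfl⟩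
      have h4 := congrArg Subtype.val h3
      rwa [hφ] at h4
    have hcN : c.1.1 ∈ N := by
      rw [Subgroup.mem_normalizer_iff]
      intro h
      have h5 : ∀ h ∈ H, c.1.1 * h * c.1.1⁻¹ = h := by
        intro h hh
        have h6 := hc h hh
        rw [mul_inv_eq_iff_eq_mul] at h6 ⊢
        exact h6.symm
      constructor
      · intro hh
        rw [h5 h hh]
        exact hh
      · intro hh
        have h6 : h = c.1.1⁻¹ * (c.1.1 * h * c.1.1⁻¹) * c.1.1 := by group
        have h7 := mul_inv_eq_iff_eq_mul.1 (h5 _ hh)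
        have h8 : c.1.1⁻¹ * (c.1.1 * h * c.1.1⁻¹) * c.1.1 = c.1.1 * h * c.1.1⁻¹ := by
          rw [mul_assoc, ← h7, inv_mul_cancel_left]
        rw [h6, h8]
        exact hh
    exact ⟨⟨⟨c.1.1, hcN⟩, Subgroup.mem_subgroupOf.2 c.1.2⟩, rfl⟩

end Main

end Cfsg.Agent.H21
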