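import Cfsg.Agent.Lib.H21.HeightInd
import Cfsg.Agent.Lib.H22.PIndex
import Cfsg.Agent.Lib.H22.DefectZero

/-!
# Blocks and normal subgroups: covering, central characters on a normal subgroup
-/

set_option autoImplicit false
set_option linter.unusedSectionVars false
set_option linter.style.haveILetI false
set_option linter.unusedSimpArgs false

namespace Cfsg.Agent.H21

open scoped ComplexConjugate
open Cfsg Module Cfsg.Agent.H22

universe u

variable {G : Type u} [Group G] [Finite G]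
variable {p : ℕ} [hp : Fact p.Prime] {M : Ideal AlgInt} [hMp : M.IsPrime]

section Any

variable {H : Subgroup G}

/-- The induced central character as a central character of `H`. -/
theorem om_indicator_eq (ξ : IrrCharacter H) (g : G) :
    om ξ (fun m : H => classIndicator g (m : G)) = inducedCentralChar H ξ.1 g := by
  classical
  rw [inducedCentralChar_eq_sum]
  unfold om
  rw [Finset.mul_sum]
  refine Finset.sum_congr rfl fun m _ => ?_
  have h : IsConj (m : G) g ↔ IsConj g (m : G) := ⟨fun h => h.symm, fun h => h.symm⟩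
  unfold classIndicator
  simp only [h]
  split_ifs
  · ring
  · ring

theorem indicator_isClass (g : G) : IsClassFunction H (fun m : H => classIndicator g (m : G)) := by
  intro m k
  simp only [Subgroup.coe_mul, Subgroup.coe_inv]
  exact classIndicator_isClass g _ _

/-- Same block of `H`: induced central characters are congruent. -/
theorem indCC_congr {ξ ξ' : IrrCharacter H} (h : SameBlock M ξ.1 ξ'.1) (g : G) :
    MemLocalIdeal M (inducedCentralChar H ξ.1 g - inducedCentralChar H ξ'.1 g) := by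
  rw [← om_indicator_eq, ← om_indicator_eq]
  exact ZR_congr (om_mem_ZR (indicator_isClass g) (fun m => classIndicator_mlr g _)) h

end Any

variable {N : Subgroup G} [hN : N.Normal]

/-- The central characters of a constituent on the normal subgroup. -/
theorem cc_eq_indCC (χ : IrrCharacter G) (θ : IrrCharacter N)
    (hne : ∑ n : N, conj (θ.1 n) * χ.1 n ≠ 0) (n : N) :
    cc (n : G) χ = inducedCentralChar N θ.1 n := by
  classical
  have hext : extK N (fun m : N => classIndicator (n : G) (m : G)) = classIndicator (n : G) := by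
    funext g
    by_cases hg : g ∈ N
    · rw [extK_of_mem N _ hg]
    · rw [extK_of_not_mem N _ hg]
      unfold classIndicator
      rw [if_neg]
      intro hc
      obtain ⟨c, hc⟩ := isConj_iff.mp hc.symm
      apply hg
      rw [← hc]
      exact hN.conj_mem _ n.2 c
  have h := om_restrict χ θ hne (fun m : N => classIndicator (n : G) (m : G))
    (by rw [hext]; exact classIndicator_isClass _)
  rw [hext, om_classIndicator, om_indicator_eq] at h
  exact h

/-- The conjugate of a constituent is a constituent. -/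
theorem const_conj (χ : IrrCharacter G) (θ : IrrCharacter N) (t : G) :
    ∑ n : N, conj ((conjIrr N t θ).1 n) * χ.1 n = ∑ n : N, conj (θ.1 n) * χ.1 n := by
  classical
  simp only [conjIrr_apply]
  let e : N ≃ N := (MulAut.conjNormal t : MulAut N).toEquiv
  rw [← Equiv.sum_comp e (fun n : N => conj (θ.1 n) * χ.1 n)]
  refine Finset.sum_congr rfl fun n _ => ?_
  have h1 : e n = ⟨t * n * t⁻¹, hN.conj_mem _ n.2 t⟩ := by
    apply Subtype.ext
    show (((MulAut.conjNormal t : MulAut N) n : N) : G) = _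
    simp
  rw [h1]
  congr 1
  exact (irr_conj' χ (n : G) t).symm

theorem const_of_conj {χ : IrrCharacter G} {θ : IrrCharacter N} (t : G)
    (h : ∑ n : N, conj (θ.1 n) * χ.1 n ≠ 0) :
    ∑ n : N, conj ((conjIrr N t θ).1 n) * χ.1 n ≠ 0 := by
  rwa [const_conj]

theorem conjIrr_conjIrr (a b : G) (θ : IrrCharacter N) :
    conjIrr N a (conjIrr N b θ) = conjIrr N (b * a) θ := by
  apply Subtype.ext
  funext n
  rw [conjIrr_apply, conjIrr_apply, conjIrr_apply]
  refine congrArg θ.1 (Subtype.ext ?_)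
  simp only [mul_inv_rev]
  group

theorem conjIrr_one (θ : IrrCharacter N) : conjIrr N 1 θ = θ := by
  apply Subtype.ext
  funext n
  rw [conjIrr_apply]
  refine congrArg θ.1 (Subtype.ext ?_)
  simp

/-- The `G`-closure of a set of characters of `N`. -/
def orbS (T : Set (IrrCharacter N)) : Set (IrrCharacter N) := {ψ | ∃ t : G, conjIrr N t ψ ∈ T}

theorem subset_orbS (T : Set (IrrCharacter N)) : T ⊆ orbS T := fun ψ hψ =>
  ⟨1, by rwa [conjIrr_one]⟩

theorem orbS_stable (T : Set (IrrCharacter N)) (q : G) : StabilizesBlock N (orbS T) q := by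
  refine ⟨normalizer_eq_top q, ?_⟩
  rintro χ ⟨t, ht⟩
  refine ⟨conjIrr N q⁻¹ χ, ⟨q * t, ?_⟩, ?_⟩
  · rw [conjIrr_conjIrr]
    simpa using ht
  · intro k k' hk
    show (conjIrr N q⁻¹ χ).1 k' = χ.1 k
    rw [conjIrr_apply]
    refine congrArg χ.1 (Subtype.ext ?_)
    show q⁻¹ * (k' : G) * q⁻¹⁻¹ = k
    rw [hk]
    group

theorem orbS_sat {T : Set (IrrCharacter N)} (hT : IsPBlock M T) : BlockSat M (orbS T) := by
  rintro χ ψ h ⟨t, ht⟩
  refine ⟨t, blockSat_of_isBlock hT _ _ ?_ ht⟩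
  unfold conjIrr
  exact sameBlock_irrMap _ h

/-- The fundamental identity. -/
theorem eB_orbS_sub (T : Set (IrrCharacter N)) (θ₂ θ₀ : IrrCharacter N) :
    eB (orbS T) θ₂ - eB (orbS T) θ₀ =
      ∑ C : ConjClasses G, subgroupBlockCoeff N (orbS T) C.out *
        (inducedCentralChar N θ₂.1 C.out - inducedCentralChar N θ₀.1 C.out) := by
  classical
  have hcl : IsClassFunction G (subgroupBlockCoeff N (orbS T)) := by
    have h1 := sbc_Ad_of_stable (A := ⊤) (K := N) (S := orbS T) (fun q _ => orbS_stable T q)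
    intro g k
    exact h1 k (Subgroup.mem_top k) g
  have h1 : ∀ ξ : IrrCharacter N, eB (orbS T) ξ =
      ∑ C : ConjClasses G, subgroupBlockCoeff N (orbS T) C.out * inducedCentralChar N ξ.1 C.out := by
    intro ξ
    rw [← sum_subgroup_eq_sum_classes N ξ.1 hcl]
    have h2 := om_ofOm (eB (orbS T)) ξ
    rw [← blockCoeff_fun_eq] at h2
    rw [← h2]
    unfold om
    rw [Finset.mul_sum]
    refine Finset.sum_congr rfl fun m _ => ?_
    rw [sbc_of_coe]
    ring
  rw [h1, h1, ← Finset.sum_sub_distrib]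
  exact Finset.sum_congr rfl fun C _ => by ring

/-- Congruent induced central characters: the characters are in conjugate blocks. -/
theorem exists_conj_mem_of_congr {T : Set (IrrCharacter N)} (hT : IsPBlock M T)
    {θ₀ θ₂ : IrrCharacter N} (hθ₀ : θ₀ ∈ T)
    (h : ∀ n : N, MemLocalIdeal M (inducedCentralChar N θ₂.1 n - inducedCentralChar N θ₀.1 n)) :
    ∃ t : G, conjIrr N t θ₂ ∈ T := by
  classical
  by_contra hcon
  have h1 : θ₂ ∉ orbS T := hcon
  have h2 : θ₀ ∈ orbS T := subset_orbS T hθ₀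
  have h3 := eB_orbS_sub T θ₂ θ₀
  rw [eB_apply_not_mem h1, eB_apply_mem h2, zero_sub] at h3
  have h4 : MemLocalIdeal M (-1 : ℂ) := by
    rw [h3]
    refine mli_sum _ _ fun C _ => ?_
    by_cases hC : C.out ∈ N
    · exact mli_mul_left (h ⟨_, hC⟩) (sbc_mlr N (orbS_sat hT) _)
    · have : subgroupBlockCoeff N (orbS T) C.out = 0 := by
        rw [subgroupBlockCoeff_eq_extK, extK_of_not_mem N _ hC]
      rw [this, zero_mul]
      exact mli_zero
  have h5 := mli_neg h4
  rw [neg_neg] at h5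
  exact not_mli_one h5

/-- Equal induced central characters: the characters are conjugate. -/
theorem exists_conj_of_eq {θ₀ θ₂ : IrrCharacter N}
    (h : ∀ n : N, inducedCentralChar N θ₂.1 n = inducedCentralChar N θ₀.1 n) :
    ∃ t : G, conjIrr N t θ₂ = θ₀ := by
  classical
  by_contra hcon
  have h1 : θ₂ ∉ orbS ({θ₀} : Set (IrrCharacter N)) := by
    rintro ⟨t, ht⟩
    exact hcon ⟨t, ht⟩
  have h2 : θ₀ ∈ orbS ({θ₀} : Set (IrrCharacter N)) := subset_orbS _ rfl
  have h3 := eB_orbS_sub ({θ₀} : Set (IrrCharacter N)) θ₂ θ₀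
  rw [eB_apply_not_mem h1, eB_apply_mem h2, zero_sub] at h3
  have h4 : ∑ C : ConjClasses G, subgroupBlockCoeff N (orbS ({θ₀} : Set (IrrCharacter N))) C.out *
        (inducedCentralChar N θ₂.1 C.out - inducedCentralChar N θ₀.1 C.out) = 0 := by
    refine Finset.sum_eq_zero fun C _ => ?_
    by_cases hC : C.out ∈ N
    · have := h ⟨_, hC⟩
      simp only at this
      rw [this, sub_self, mul_zero]
    · have : subgroupBlockCoeff N (orbS ({θ₀} : Set (IrrCharacter N))) C.out = 0 := by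
        rw [subgroupBlockCoeff_eq_extK, extK_of_not_mem N _ hC]
      rw [this, zero_mul]
  rw [h4] at h3
  norm_num at h3

/-- **Criterion for a constituent.** -/
theorem const_iff (χ : IrrCharacter G) (θ : IrrCharacter N) :
    ∑ n : N, conj (θ.1 n) * χ.1 n ≠ 0 ↔ ∀ n : N, cc (n : G) χ = inducedCentralChar N θ.1 n := by
  refine ⟨fun hne n => cc_eq_indCC χ θ hne n, fun h => ?_⟩
  obtain ⟨θ₂, hθ₂⟩ := exists_constituent N χ
  obtain ⟨t, rfl⟩ := exists_conj_of_eq (θ₀ := θ) (θ₂ := θ₂)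
    (fun n => by rw [← cc_eq_indCC χ θ₂ hθ₂ n, h n])
  exact const_of_conj t hθ₂

/-- Covering. -/
theorem covers_iff {B : Set (IrrCharacter G)} {b : Set (IrrCharacter N)} (hB : IsPBlock M B)
    (hb : IsPBlock M b) :
    (∃ χ ∈ B, ∃ θ ∈ b, ∑ n : N, conj (θ.1 n) * χ.1 n ≠ 0) ↔
      ∀ χ ∈ B, ∀ θ ∈ b, ∀ n : N,
        MemLocalIdeal M (centralChar χ.1 (n : G) - inducedCentralChar N θ.1 n) := by
  classical
  constructor
  · rintro ⟨χ₀, hχ₀, θ₀, hθ₀, hne⟩ χ hχ θ hθ n
    have h1 := cc_eq_indCC χ₀ θ₀ hne n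
    have h2 : MemLocalIdeal M (centralChar χ.1 (n : G) - centralChar χ₀.1 (n : G)) :=
      block_sameBlock hB hχ hχ₀ _
    have h3 := indCC_congr (M := M) (block_sameBlock hb hθ₀ hθ) (n : G)
    have h4 := mli_add h2 h3
    convert h4 using 1
    have h5 : centralChar χ₀.1 (n : G) = inducedCentralChar N θ₀.1 n := h1
    rw [h5]
    ring
  · intro h
    obtain ⟨χ₀, hχ₀⟩ := block_nonempty hB
    obtain ⟨θ₀, hθ₀⟩ := block_nonempty hb
    obtain ⟨θ₂, hθ₂⟩ := exists_constituent N χ₀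
    obtain ⟨t, ht⟩ := exists_conj_mem_of_congr hb hθ₀ (θ₂ := θ₂) (fun n => by
      rw [← cc_eq_indCC χ₀ θ₂ hθ₂ n]
      exact h χ₀ hχ₀ θ₀ hθ₀ n)
    exact ⟨χ₀, hχ₀, _, ht, const_of_conj t hθ₂⟩

/-- Members of a block covering `b` have constituents conjugate into `b`. -/
theorem exists_conj_of_cover {B : Set (IrrCharacter G)} {b : Set (IrrCharacter N)}
    (hB : IsPBlock M B) (hb : IsPBlock M b) {χ χ' : IrrCharacter G} (hχ : χ ∈ B) (hχ' : χ' ∈ B)
    {θ ψ : IrrCharacter N} (hθ : θ ∈ b) (hne : ∑ n : N, conj (θ.1 n) * χ.1 n ≠ 0)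
    (hψ : ∑ n : N, conj (ψ.1 n) * χ'.1 n ≠ 0) :
    ∃ t : G, conjIrr N t ψ ∈ b := by
  refine exists_conj_mem_of_congr hb hθ (fun n => ?_)
  rw [← cc_eq_indCC χ' ψ hψ n, ← cc_eq_indCC χ θ hne n]
  exact block_sameBlock hB hχ' hχ _

/-- Some irreducible character lies above a given character of `N`. -/
theorem exists_above (θ : IrrCharacter N) : ∃ χ : IrrCharacter G, ∑ n : N, conj (θ.1 n) * χ.1 n ≠ 0 := by
  classical
  by_contra hcon
  push Not at hcon
  have h1 : ∑ χ : IrrCharacter G, conj (χ.1 1) * ∑ n : N, conj (θ.1 n) * χ.1 n = 0 := by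
    simp [hcon]
  have h2 : ∑ χ : IrrCharacter G, conj (χ.1 1) * ∑ n : N, conj (θ.1 n) * χ.1 n =
      ∑ n : N, conj (θ.1 n) * ∑ χ : IrrCharacter G, χ.1 n * conj (χ.1 1) := by
    simp only [Finset.mul_sum]
    rw [Finset.sum_comm]
    exact Finset.sum_congr rfl fun n _ => Finset.sum_congr rfl fun χ _ => by ring
  rw [h2, Finset.sum_eq_single (1 : N)] at h1
  · have h3 := column_orthogonality_of_isConj (IsConj.refl (1 : G))
    simp only [Subgroup.coe_one] at h1
    rw [h3] at h1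
    have h4 : conj (θ.1 1) ≠ 0 := by
      rw [Ne, map_eq_zero]
      exact irr_one_ne_zero' θ
    have h5 : ((Nat.card (Subgroup.centralizer ({(1 : G)} : Set G)) : ℕ) : ℂ) ≠ 0 := by
      exact_mod_cast Nat.card_pos.ne'
    exact (mul_ne_zero h4 h5) h1
  · intro n _ hn
    rw [column_orthogonality_of_not_isConj, mul_zero]
    intro hc
    apply hn
    apply Subtype.ext
    exact isConj_one_right.mp hc.symm
  · intro h
    exact absurd (Finset.mem_univ _) h

/-- In a normal `p'`-subgroup, blocks are singletons. -/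
theorem const_of_sameBlock (hM : IsPModular p M) (hcop : ¬ p ∣ Nat.card N) {χ ψ : IrrCharacter G}
    (h : SameBlock M χ.1 ψ.1) {θ : IrrCharacter N}
    (hθ : ∑ n : N, conj (θ.1 n) * χ.1 n ≠ 0) : ∑ n : N, conj (θ.1 n) * ψ.1 n ≠ 0 := by
  classical
  obtain ⟨θ₂, hθ₂⟩ := exists_constituent N ψ
  have hdef : ¬ p ∣ Nat.card N / charDegree θ.1 := fun hd => hcop (hd.trans (Nat.div_dvd_of_dvd (charDegree_dvd_card θ)))
  obtain ⟨t, ht⟩ := exists_conj_mem_of_congr (T := blockOf M θ.1) (isBlock_blockOf θ)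
    (self_mem_blockOf θ) (θ₂ := θ₂) (fun n => by
      rw [← cc_eq_indCC ψ θ₂ hθ₂ n, ← cc_eq_indCC χ θ hθ n]
      exact sameBlock_symm h _)
  have h1 : conjIrr N t θ₂ = θ := eq_of_mem_block_of_defect_zero hM θ hdef ht
  rw [← h1]
  exact const_of_conj t hθ₂

/-- From `classInner` to sums. -/
theorem inner_ne_iff {K : Type*} [Group K] [Finite K] [inst : Fintype K] (f g : K → ℂ) :
    @classInner K _ inst f g ≠ 0 ↔
      (@Finset.sum K ℂ _ (@Finset.univ K fintypeOfFiniteH22) fun n => conj (g n) * f n) ≠ 0 := by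
  obtain rfl : inst = fintypeOfFiniteH22 := Subsingleton.elim _ _
  unfold classInner
  have hne : ((Nat.card K : ℂ))⁻¹ ≠ 0 := inv_ne_zero (by exact_mod_cast Nat.card_pos.ne')
  have h : ∑ n : K, f n * conj (g n) = ∑ n : K, conj (g n) * f n :=
    Finset.sum_congr rfl fun n _ => mul_comm _ _
  rw [h]
  exact ⟨fun h1 h2 => h1 (by rw [h2, mul_zero]), fun h1 => mul_ne_zero hne h1⟩

/-- `S0964`. -/
theorem cover_conj_form (hM : IsPModular p M) {B : Set (IrrCharacter G)} {b : Set (IrrCharacter N)}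
    (hB : IsPBlock M B) (hb : IsPBlock M b) {χ χ' : IrrCharacter G} (hχ : χ ∈ B) (hχ' : χ' ∈ B)
    {θ ψ : IrrCharacter N} (hθ : θ ∈ b) (hne : ∑ n : N, conj (θ.1 n) * χ.1 n ≠ 0)
    (hψ : ∑ n : N, conj (ψ.1 n) * χ'.1 n ≠ 0) :
    ∃ g : G, ∃ θ' ∈ b, ∀ n : N, ψ.1 n = θ'.1 ⟨g * n * g⁻¹, hN.conj_mem n n.2 g⟩ := by
  obtain ⟨t, ht⟩ := exists_conj_of_cover hB hb hχ hχ' hθ hne hψ
  refine ⟨t⁻¹, _, ht, fun n => ?_⟩
  rw [conjIrr_apply]
  refine congrArg ψ.1 (Subtype.ext ?_)
  simp only [inv_inv]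
  group

/-- `S0954`. -/
theorem sameBlock_iff_common (hM : IsPModular p M) (hcop : ¬ p ∣ Nat.card N)
    (hidx : ∃ k : ℕ, N.index = p ^ k) (χ ψ : IrrCharacter G) :
    SameBlock M χ.1 ψ.1 ↔ ∃ θ : IrrCharacter N,
      ∑ n : N, conj (θ.1 n) * χ.1 n ≠ 0 ∧ ∑ n : N, conj (θ.1 n) * ψ.1 n ≠ 0 := by
  classical
  constructor
  · intro h
    obtain ⟨θ, hθ⟩ := exists_constituent N χ
    exact ⟨θ, hθ, const_of_sameBlock hM hcop h hθ⟩
  · rintro ⟨θ, h1, h2⟩
    refine sameBlock_of_regular hM χ ψ (fun x hx => ?_)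
    have hxN : x ∈ N := by
      by_contra hn
      exact hx (dvd_orderOf_of_not_mem hidx hn)
    have h3 := cc_eq_indCC χ θ h1 ⟨x, hxN⟩
    have h4 := cc_eq_indCC ψ θ h2 ⟨x, hxN⟩
    simp only at h3 h4
    rw [h3, h4, sub_self]
    exact mli_zero

/-- `S0966`. -/
theorem existsUnique_cover_pIndex (hM : IsPModular p M) (hidx : ∃ k : ℕ, N.index = p ^ k)
    {b : Set (IrrCharacter N)} (hb : IsPBlock M b) :
    ∃! B : Set (IrrCharacter G), IsPBlock M B ∧ ∃ χ ∈ B, ∃ θ ∈ b,
      ∑ n : N, conj (θ.1 n) * χ.1 n ≠ 0 := by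
  classical
  obtain ⟨θ, hθ⟩ := block_nonempty hb
  obtain ⟨χ, hχ⟩ := exists_above (G := G) θ
  refine ⟨blockOf M χ.1, ⟨isBlock_blockOf χ, χ, self_mem_blockOf χ, θ, hθ, hχ⟩, ?_⟩
  rintro B ⟨hB, χ', hχ', θ', hθ', hne⟩
  have h1 : SameBlock M χ'.1 χ.1 := by
    refine sameBlock_of_regular hM χ' χ (fun x hx => ?_)
    have hxN : x ∈ N := by
      by_contra hn
      exact hx (dvd_orderOf_of_not_mem hidx hn)
    have h3 := cc_eq_indCC χ' θ' hne ⟨x, hxN⟩
    have h4 := cc_eq_indCC χ θ hχ ⟨x, hxN⟩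
    simp only at h3 h4
    rw [h3, h4]
    exact indCC_congr (block_sameBlock hb hθ' hθ) x
  rw [block_eq_of_mem hB hχ']
  exact block_eq_of_mem (isBlock_blockOf χ') h1 |>.symm ▸ rfl

/-- `S0971`. -/
theorem cover_induced_of_centralizer (hM : IsPModular p M) (Q : Subgroup G) [hQn : Q.Normal]
    (hQ : IsPGroup p Q) (hNQ : Subgroup.centralizer (Q : Set G) ≤ N)
    {b : Set (IrrCharacter N)} (hb : IsPBlock M b) {B : Set (IrrCharacter G)} (hB : IsPBlock M B)
    (hcov : ∃ χ ∈ B, ∃ θ ∈ b, ∑ n : N, conj (θ.1 n) * χ.1 n ≠ 0) : IsInducedBlock M N b B := by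
  classical
  refine ⟨hb, hB, fun ξ hξ χ hχ g => ?_⟩
  by_cases hg : g ∈ N
  · have := (covers_iff hB hb).mp hcov χ hχ ξ hξ ⟨g, hg⟩
    have h2 := mli_neg this
    convert h2 using 1
    simp
  · have h1 : inducedCentralChar N ξ.1 g = 0 := by
      rw [inducedCentralChar_eq_sum]
      refine Finset.sum_eq_zero fun m _ => ?_
      rw [if_neg]
      intro hc
      apply hg
      obtain ⟨c, hc⟩ := isConj_iff.mp hc.symm
      have := hN.conj_mem _ m.2 c
      rwa [hc] at this
    rw [h1, zero_sub]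
    exact mli_neg (cc_mli_of_not_centralizer hM Q hQ (fun hc => hg (hNQ hc)) χ)

/-- `S0971`, existence. -/
theorem exists_induced_of_centralizer (hM : IsPModular p M) (Q : Subgroup G) [hQn : Q.Normal]
    (hQ : IsPGroup p Q) (hNQ : Subgroup.centralizer (Q : Set G) ≤ N)
    {b : Set (IrrCharacter N)} (hb : IsPBlock M b) : InducedBlockDefined M N b := by
  classical
  obtain ⟨θ, hθ⟩ := block_nonempty hb
  obtain ⟨χ, hχ⟩ := exists_above (G := G) θ
  exact ⟨blockOf M χ.1, cover_induced_of_centralizer hM Q hQ hNQ hb (isBlock_blockOf χ)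
    ⟨χ, self_mem_blockOf χ, θ, hθ, hχ⟩⟩

section Quotient

variable (N) in
/-- The class function on `G` given by a class of the quotient. -/
noncomputable def quotF (q : G ⧸ N) (g : G) : ℂ :=
  (Nat.card N : ℂ)⁻¹ * classIndicator q (g : G ⧸ N)

theorem quotF_isClass (q : G ⧸ N) : IsClassFunction G (quotF N q) := by
  intro g k
  unfold quotF
  congr 1
  have : ((k * g * k⁻¹ : G) : G ⧸ N) = (k : G ⧸ N) * (g : G ⧸ N) * (k : G ⧸ N)⁻¹ := rfl
  rw [this]
  exact classIndicator_isClass q _ _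

/-- Central characters of the quotient are central characters of the group. -/
theorem om_quotF (q : G ⧸ N) (χ : IrrCharacter (G ⧸ N)) :
    om (⟨χ.1 ∘ QuotientGroup.mk' N, isIrr_inflate N χ.2⟩ : IrrCharacter G) (quotF N q) = cc q χ := by
  classical
  have hne : (Nat.card N : ℂ) ≠ 0 := by exact_mod_cast Nat.card_pos.ne'
  rw [← om_classIndicator]
  unfold om
  have h1 : ∑ g : G, quotF N q g * (χ.1 ∘ QuotientGroup.mk' N) g =
      (Nat.card N : ℂ)⁻¹ * ∑ g : G, (fun x : G ⧸ N => classIndicator q x * χ.1 x) (g : G ⧸ N) := by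
    rw [Finset.mul_sum]
    refine Finset.sum_congr rfl fun g _ => ?_
    unfold quotF
    simp only [Function.comp_apply, QuotientGroup.mk'_apply]
    ring
  have h2 := Cfsg.Agent.H06.sum_quotient_mk N (fun x : G ⧸ N => classIndicator q x * χ.1 x)
  show ((χ.1 ∘ QuotientGroup.mk' N) 1)⁻¹ * ∑ g : G, quotF N q g * (χ.1 ∘ QuotientGroup.mk' N) g = _
  rw [h1, h2, inv_mul_cancel_left₀ hne]
  simp

theorem quotF_mlr (hM : IsPModular p M) (hcop : ¬ p ∣ Nat.card N) (q : G ⧸ N) (g : G) :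
    MemLocalRing M (quotF N q g) := by
  unfold quotF
  exact mlr_mul (mlr_inv (mlr_natCast _) (not_mli_natCast_of_odd hM hcop)).2 (classIndicator_mlr q _)

/-- `S0967`. -/
theorem block_of_inflation (hM : IsPModular p M) (hcop : ¬ p ∣ Nat.card N)
    (χ : IrrCharacter (G ⧸ N)) (ψ : IrrCharacter G)
    (hψ : SameBlock M (χ.1 ∘ QuotientGroup.mk' N) ψ.1) :
    ∃ ψ' : IrrCharacter (G ⧸ N), ψ.1 = ψ'.1 ∘ QuotientGroup.mk' N ∧ SameBlock M χ.1 ψ'.1 := by
  classical
  have h1 : ∀ n ∈ N, ψ.1 n = ψ.1 1 := by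
    intro n hn
    refine block_trivial_on_normal hM N hcop (χ := ⟨χ.1 ∘ QuotientGroup.mk' N, isIrr_inflate N χ.2⟩) hψ
      (fun m hm => ?_) n hn
    show χ.1 (QuotientGroup.mk' N m) = χ.1 (QuotientGroup.mk' N 1)
    have : QuotientGroup.mk' N m = QuotientGroup.mk' N 1 := by
      rw [map_one]
      simpa using hm
    rw [this]
  obtain ⟨ψ', hψ', hc⟩ := exists_descend N ψ.2 h1
  refine ⟨⟨ψ', hψ'⟩, hc.symm, fun q => ?_⟩
  have hZ := om_mem_ZR (M := M) (quotF_isClass q) (quotF_mlr hM hcop q)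
  have h2 := ZR_congr hZ (χ := ⟨χ.1 ∘ QuotientGroup.mk' N, isIrr_inflate N χ.2⟩) (ψ := ψ) hψ
  rw [om_quotF] at h2
  have h3 : om ψ (quotF N q) = cc q (⟨ψ', hψ'⟩ : IrrCharacter (G ⧸ N)) := by
    rw [← om_quotF q (⟨ψ', hψ'⟩ : IrrCharacter (G ⧸ N))]
    congr 1
    apply Subtype.ext
    exact hc.symm
  rw [h3] at h2
  exact h2

end Quotient

end Cfsg.Agent.H21
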