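import Cfsg.Agent.Lib.H21.HeightInd

/-!
# The idempotent of the principal block at `p`-regular elements
-/

set_option autoImplicit false
set_option linter.unusedSectionVars false
set_option linter.style.haveILetI false
set_option linter.unusedSimpArgs false

namespace Cfsg.Agent.H21

open scoped ComplexConjugate
open Cfsg Module

universe u

variable {G : Type u} [Group G] [Fintype G] [Fintype (IrrCharacter G)]
variable {p : ℕ} [hp : Fact p.Prime]

open Classical in
/-- The indicator function of the `p`-elements. -/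
noncomputable def pel (p : ℕ) (g : G) : ℂ := if ∃ k : ℕ, orderOf g = p ^ k then 1 else 0

open Classical in
theorem pow_eq_one_iff_pel (g : G) :
    g ^ (p ^ (Nat.card G).factorization p) = 1 ↔ ∃ k : ℕ, orderOf g = p ^ k := by
  have hpp : p.Prime := hp.out
  constructor
  · intro h
    have h1 := orderOf_dvd_of_pow_eq_one h
    obtain ⟨k, -, hk⟩ := (Nat.dvd_prime_pow hpp).mp h1
    exact ⟨k, hk⟩
  · rintro ⟨k, hk⟩
    apply orderOf_dvd_iff_pow_eq_one.mp
    rw [hk]
    have h1 : p ^ k ∣ Nat.card G := hk ▸ orderOf_dvd_natCard g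
    exact pow_dvd_pow _ ((hpp.pow_dvd_iff_le_factorization Nat.card_pos.ne').mp h1)

/-- `|G|_{p'}` times the indicator of the `p`-elements is a generalized character. -/
theorem gen_pel : IsGeneralizedCharacter G (fun g => (pco p G : ℂ) * pel p g) := by
  classical
  have hpp : p.Prime := hp.out
  obtain ⟨P⟩ : Nonempty (Sylow p G) := inferInstance
  have hchar : IsCharacter G (indFun (P : Subgroup G) (fun _ => (1 : ℂ))) :=
    isCharacter_indFun _ (isCharacter_of_irr isIrrCharacter_one)
  have h := gen_comp_pow (m := p ^ (Nat.card G).factorization p) (pow_ne_zero _ hpp.ne_zero)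
    (H06.gen_of_char hchar)
  convert h using 2 with g
  unfold pel
  split_ifs with hg
  · rw [(pow_eq_one_iff_pel g).mpr hg, indFun_one, mul_one, mul_one]
    have h1 : (P : Subgroup G).index = pco p G := by
      have h2 := pow_mul_pco (G := G) p
      have h3 := (P : Subgroup G).card_mul_index
      rw [Sylow.card_eq_multiplicity] at h3
      have h4 : p ^ (Nat.card G).factorization p ≠ 0 := pow_ne_zero _ hpp.ne_zero
      exact Nat.eq_of_mul_eq_mul_left (Nat.pos_of_ne_zero h4) (h3.trans h2.symm)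
    rw [h1]
  · rw [mul_zero]
    symm
    show (Nat.card (P : Subgroup G) : ℂ)⁻¹ * ∑ x : G, extendByZero (P : Subgroup G) (fun _ => (1 : ℂ))
      (x⁻¹ * g ^ (p ^ (Nat.card G).factorization p) * x) = 0
    rw [Finset.sum_eq_zero, mul_zero]
    intro x _
    rw [extendByZero, Function.extend_apply']
    · rfl
    · rintro ⟨y, hy⟩
      -- the element is a `p`-element
      have hyP : x⁻¹ * g ^ (p ^ (Nat.card G).factorization p) * x ∈ (P : Subgroup G) := hy ▸ y.2
      obtain ⟨j, hj⟩ := IsPGroup.iff_orderOf.mp P.isPGroup' ⟨_, hyP⟩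
      have h1 : orderOf (x⁻¹ * g ^ (p ^ (Nat.card G).factorization p) * x) = p ^ j := by
        rw [← hj, Subgroup.orderOf_mk]
      have h2 : orderOf (x⁻¹ * g ^ (p ^ (Nat.card G).factorization p) * x) =
          orderOf (g ^ (p ^ (Nat.card G).factorization p)) := by
        have := orderOf_injective (MulAut.conj x⁻¹).toMonoidHom (MulAut.conj x⁻¹).injective
          (g ^ (p ^ (Nat.card G).factorization p))
        simpa using this
      rw [h2] at h1
      have h3 : g ^ (p ^ (Nat.card G).factorization p * p ^ j) = 1 := by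
        rw [pow_mul, ← h1]
        exact pow_orderOf_eq_one _
      have h4 := orderOf_dvd_of_pow_eq_one h3
      rw [← pow_add] at h4
      obtain ⟨k, -, hk⟩ := (Nat.dvd_prime_pow hpp).mp h4
      exact hg ⟨k, hk⟩

open Classical in
theorem pel_isClass : IsClassFunction G (pel (G := G) p) := by
  intro g k
  unfold pel
  have : orderOf (k * g * k⁻¹) = orderOf g := orderOf_conj' g k
  simp only [this]

open Classical in
theorem pel_inv (g : G) : pel p g⁻¹ = pel (G := G) p g := by
  unfold pel
  simp only [orderOf_inv]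

/-- The sum of a character over the `p`-elements is divisible by `p ^ a`. -/
theorem sum_pel_int (χ : IrrCharacter G) :
    ∃ n : ℤ, ∑ x, pel p x * χ.1 x = ((p ^ (Nat.card G).factorization p : ℕ) : ℂ) * n := by
  classical
  obtain ⟨n, hn⟩ := H06.gen_inner_int (gen_pel (G := G) (p := p))
    (H06.gen_of_char (isCharacter_of_irr χ.2))
  refine ⟨n, ?_⟩
  have hcard : (Nat.card G : ℂ) = ((p ^ (Nat.card G).factorization p : ℕ) : ℂ) * (pco p G : ℂ) := by
    exact_mod_cast (pow_mul_pco (G := G) p).symm
  have hm : (pco p G : ℂ) ≠ 0 := Nat.cast_ne_zero.mpr (pco_ne_zero p)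
  have hG : (Nat.card G : ℂ) ≠ 0 := H22.card_ne_zero_C
  unfold classInner at hn
  have h1 : ∑ x, pel p x * conj (χ.1 x) = ∑ x, pel p x * χ.1 x := by
    rw [← Equiv.sum_comp (Equiv.inv G)]
    refine Finset.sum_congr rfl fun x _ => ?_
    simp only [Equiv.inv_apply, pel_inv]
    rw [H22.irr_inv' χ x, Complex.conj_conj]
  have h2 : ∑ g, (pco p G : ℂ) * pel p g * conj (χ.1 g) =
      (pco p G : ℂ) * ∑ x, pel p x * χ.1 x := by
    rw [← h1, Finset.mul_sum]
    exact Finset.sum_congr rfl fun g _ => by ring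
  rw [h2] at hn
  rw [← hn, hcard]
  field_simp

section Main

variable {M : Ideal AlgInt} [hMp : M.IsPrime]

/-- The indicator of the `p`-regular elements. -/
noncomputable def regI (p : ℕ) (G : Type u) [Group G] : G → ℂ := rp p (fun _ => (1 : ℂ))

theorem regI_mlr (g : G) : MemLocalRing M (regI p G g) := by
  unfold regI
  by_cases hg : p ∣ orderOf g
  · rw [rp_of_sing _ hg]
    exact H22.mlr_zero
  · rw [rp_of_reg _ hg]
    exact H22.mlr_one

theorem regI_isClass : IsClassFunction G (regI p G) :=
  rp_isClass (fun _ _ => rfl)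

theorem pel_mlr (g : G) : MemLocalRing M (pel p g) := by
  classical
  unfold pel
  split_ifs
  · exact H22.mlr_one
  · exact H22.mlr_zero

/-- `∑ χ regI = |G| crt(χ, 1)`. -/
theorem om_regI_mul (χ : IrrCharacter G) :
    H22.om χ (regI p G) * χ.1 1 = (Nat.card G : ℂ) * crt p χ (H22.oneIrr G) := by
  have hχ := H22.irr_one_ne_zero' χ
  have hG : (Nat.card G : ℂ) ≠ 0 := H22.card_ne_zero_C
  unfold H22.om
  have h0 : ∀ a : ℂ, ((χ.1 1)⁻¹ * a) * χ.1 1 = a := fun a => by field_simp
  rw [h0, crt_eq_sum, mul_inv_cancel_left₀ hG]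
  refine Finset.sum_congr rfl fun g _ => ?_
  unfold regI H22.oneIrr
  by_cases hg : p ∣ orderOf g
  · rw [rp_of_sing _ hg, rp_of_sing _ hg]
    simp
  · rw [rp_of_reg _ hg, rp_of_reg _ hg]
    simp

theorem om_regI_of_not_mem (hM : IsPModular p M) {χ : IrrCharacter G}
    (hχ : χ ∉ principalBlock M G) : H22.om χ (regI p G) = 0 := by
  have h1 : crt p χ (H22.oneIrr G) = 0 := crt_eq_zero hM hχ
  have h2 := om_regI_mul (p := p) χ
  rw [h1, mul_zero] at h2
  exact (mul_eq_zero.mp h2).resolve_right (H22.irr_one_ne_zero' χ)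

theorem om_oneIrr_regI : H22.om (H22.oneIrr G) (regI p G) = ∑ g, regI p G g := by
  unfold H22.om H22.oneIrr
  simp

theorem sum_regI_not_mli (hM : IsPModular p M) : ¬ MemLocalIdeal M (∑ g, regI p G g) := by
  intro h
  have h1 : blockHeight p (blockOf M (H22.oneIrr G).1) (H22.oneIrr G).1 = 0 := by
    have h2 : charDegree (H22.oneIrr G).1 = 1 := by
      unfold charDegree H22.oneIrr
      simp
    unfold blockHeight
    rw [h2]
    simp
  apply not_mli_om_bz_self hM (H22.oneIrr G) h1
  have h3 : H22.om (H22.oneIrr G) (bz p (H22.oneIrr G)) = (pco p G : ℂ)⁻¹ * ∑ g, regI p G g := by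
    unfold H22.om bz
    have h4 : (H22.oneIrr G).1 1 = 1 := rfl
    rw [h4, inv_one, one_mul, Finset.mul_sum]
    refine Finset.sum_congr rfl fun g _ => ?_
    have h5 : (H22.oneIrr G).1 g = 1 := rfl
    rw [h5, mul_one]
    congr 1
    unfold regI
    by_cases hg : p ∣ orderOf g
    · rw [rp_of_sing _ hg, rp_of_sing _ hg]
    · rw [rp_of_reg _ hg, rp_of_reg _ hg, h5]
      simp
  rw [h3]
  exact H22.mli_mul_left h (H22.mlr_inv (H22.mlr_natCast _) (not_mli_natCast_of_odd hM pco_not_dvd)).2

/-- The key congruence. -/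
theorem conv_pel_regI_congr (hM : IsPModular p M) (g : G) (hg : ¬ p ∣ orderOf g) :
    MemLocalIdeal M (H22.conv (pel (G := G) p) (regI p G) g -
      (∑ x, regI p G x) * blockCoeff (principalBlock M G) g) := by
  classical
  have hmne : (pco p G : ℂ) ≠ 0 := Nat.cast_ne_zero.mpr (pco_ne_zero p)
  have hcard : (Nat.card G : ℂ) = ((p ^ (Nat.card G).factorization p : ℕ) : ℂ) * (pco p G : ℂ) := by
    exact_mod_cast (pow_mul_pco (G := G) p).symm
  have hG : (Nat.card G : ℂ) ≠ 0 := H22.card_ne_zero_C
  have hpa : ((p ^ (Nat.card G).factorization p : ℕ) : ℂ) ≠ 0 := by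
    intro h
    rw [h, zero_mul] at hcard
    exact hG hcard
  choose n hn using fun χ : IrrCharacter G => sum_pel_int (p := p) χ
  have hB : IsPBlock M (principalBlock M G) := H22.principalBlock_isBlock
  set R := ∑ x, regI p G x with hR
  set e := H22.eB (principalBlock M G) with he
  -- Step B
  have h1 : (pco p G : ℂ) * H22.conv (pel (G := G) p) (regI p G) g =
      ∑ χ : IrrCharacter G, (n χ : ℂ) * (H22.om χ (regI p G) * conj (χ.1 g)) := by
    have h2 := H22.ofOm_om (H22.conv (pel (G := G) p) (regI p G))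
      (H22.conv_isClass _ _ pel_isClass regI_isClass)
    rw [← h2]
    unfold H22.ofOm
    have hinv : (pco p G : ℂ) * (Nat.card G : ℂ)⁻¹ = ((p ^ (Nat.card G).factorization p : ℕ) : ℂ)⁻¹ := by
      rw [hcard]
      field_simp
    rw [← mul_assoc, hinv]
    simp only [H22.om_conv _ _ pel_isClass]
    rw [Finset.mul_sum]
    refine Finset.sum_congr rfl fun χ _ => ?_
    have h3 : H22.om χ (pel (G := G) p) * χ.1 1 = ((p ^ (Nat.card G).factorization p : ℕ) : ℂ) * n χ := by
      unfold H22.om
      have hχ := H22.irr_one_ne_zero' χ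
      have h0 : ∀ a : ℂ, ((χ.1 1)⁻¹ * a) * χ.1 1 = a := fun a => by field_simp
      rw [h0, hn χ]
    calc ((p ^ (Nat.card G).factorization p : ℕ) : ℂ)⁻¹ *
          (H22.om χ (pel (G := G) p) * H22.om χ (regI p G) * (χ.1 1 * conj (χ.1 g)))
        = ((p ^ (Nat.card G).factorization p : ℕ) : ℂ)⁻¹ *
          ((H22.om χ (pel (G := G) p) * χ.1 1) * (H22.om χ (regI p G) * conj (χ.1 g))) := by ring
      _ = _ := by
        rw [h3, ← mul_assoc, inv_mul_cancel_left₀ hpa]
  -- Step A'
  have h2 : ∑ χ : IrrCharacter G, e χ * ((n χ : ℂ) * conj (χ.1 g)) =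
      (pco p G : ℂ) * blockCoeff (principalBlock M G) g := by
    apply mul_left_cancel₀ hpa
    have h3 : ((p ^ (Nat.card G).factorization p : ℕ) : ℂ) *
        ∑ χ : IrrCharacter G, e χ * ((n χ : ℂ) * conj (χ.1 g)) =
        ∑ x : G, pel p x * ∑ χ : IrrCharacter G, e χ * (χ.1 x * conj (χ.1 g)) := by
      simp only [Finset.mul_sum]
      rw [Finset.sum_comm]
      refine Finset.sum_congr rfl fun χ _ => ?_
      calc ((p ^ (Nat.card G).factorization p : ℕ) : ℂ) * (e χ * ((n χ : ℂ) * conj (χ.1 g)))
          = e χ * (((p ^ (Nat.card G).factorization p : ℕ) : ℂ) * (n χ : ℂ)) * conj (χ.1 g) := by ring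
        _ = e χ * (∑ x, pel p x * χ.1 x) * conj (χ.1 g) := by rw [hn χ]
        _ = _ := by
          rw [Finset.mul_sum, Finset.sum_mul]
          exact Finset.sum_congr rfl fun x _ => by ring
    rw [h3, Finset.sum_eq_single (1 : G)]
    · have h4 : pel (G := G) p 1 = 1 := by
        unfold pel
        rw [if_pos ⟨0, by simp⟩]
      rw [h4, one_mul]
      have h5 : blockCoeff (principalBlock M G) g = (Nat.card G : ℂ)⁻¹ *
          ∑ χ : IrrCharacter G, e χ * (χ.1 1 * conj (χ.1 g)) := by
        unfold blockCoeff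
        rw [H22.finsum_mem_irr]
      rw [h5, ← mul_assoc, ← hcard, mul_inv_cancel_left₀ hG]
    · intro x _ hx
      unfold pel
      split_ifs with h6
      · obtain ⟨k, hk⟩ := h6
        have h7 : p ∣ orderOf x := by
          rw [hk]
          rcases Nat.eq_zero_or_pos k with rfl | hk0
          · exact absurd (orderOf_eq_one_iff.mp (by simpa using hk)) hx
          · exact dvd_pow_self _ hk0.ne'
        rw [H22.block_orth_singular_regular hM hB h7 hg, mul_zero]
      · rw [zero_mul]
    · intro h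
      exact absurd (Finset.mem_univ _) h
  -- Step C
  have h3 : (pco p G : ℂ) * (H22.conv (pel (G := G) p) (regI p G) g -
      R * blockCoeff (principalBlock M G) g) =
      ∑ χ : IrrCharacter G, e χ * ((n χ : ℂ) * ((H22.om χ (regI p G) - R) * conj (χ.1 g))) := by
    rw [mul_sub, h1, mul_left_comm, ← h2, Finset.mul_sum, ← Finset.sum_sub_distrib]
    refine Finset.sum_congr rfl fun χ _ => ?_
    by_cases hχ : χ ∈ principalBlock M G
    · have : e χ = 1 := H22.eB_apply_mem hχ
      rw [this]
      ring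
    · have : e χ = 0 := H22.eB_apply_not_mem hχ
      rw [this, om_regI_of_not_mem hM hχ]
      ring
  have h4 : MemLocalIdeal M ((pco p G : ℂ) * (H22.conv (pel (G := G) p) (regI p G) g -
      R * blockCoeff (principalBlock M G) g)) := by
    rw [h3]
    refine H22.mli_sum _ _ fun χ _ => ?_
    by_cases hχ : χ ∈ principalBlock M G
    · have h5 : e χ = 1 := H22.eB_apply_mem hχ
      rw [h5, one_mul]
      have hZ := H22.om_mem_ZR (M := M) (regI_isClass (G := G) (p := p)) (fun g => regI_mlr g)
      have h6 := H22.ZR_congr hZ (H22.sameBlock_symm (show SameBlock M (H22.oneIrr G).1 χ.1 from hχ))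
      have h7 : H22.om (H22.oneIrr G) (regI p G) = R := om_oneIrr_regI
      simp only [h7] at h6
      have h8 : MemLocalRing M (conj (χ.1 g)) := by
        rw [← H22.irr_inv' χ g]
        exact H22.mlr_of_isIntegral (H22.irr_isIntegral' χ _)
      have h9 : MemLocalRing M (n χ : ℂ) := by
        have := H22.mlr_of_isIntegral (M := M) (isIntegral_intCast (R := ℤ) (B := ℂ) (n := n χ))
        simpa using this
      exact H22.mli_mul_left (H22.mli_mul_right h6 h8) h9
    · have : e χ = 0 := H22.eB_apply_not_mem hχ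
      rw [this, zero_mul]
      exact H22.mli_zero
  have h5 := H22.mli_mul_left h4
    (H22.mlr_inv (H22.mlr_natCast _) (not_mli_natCast_of_odd hM (pco_not_dvd (G := G) (p := p)))).2
  rwa [inv_mul_cancel_left₀ hmne] at h5

/-- **The idempotent of the principal block at a `p`-regular element.** -/
theorem principal_coeff (hM : IsPModular p M) (g : G) (hg : ¬ p ∣ orderOf g) :
    MemLocalIdeal M (blockCoeff (principalBlock M G) g -
      (Nat.card {xy : G × G // (∃ k : ℕ, orderOf xy.1 = p ^ k) ∧ ¬ p ∣ orderOf xy.2 ∧ xy.1 * xy.2 = g} : ℂ) /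
        (Nat.card {y : G // ¬ p ∣ orderOf y} : ℂ)) := by
  classical
  have hR : (Nat.card {y : G // ¬ p ∣ orderOf y} : ℂ) = ∑ x, regI p G x := by
    rw [Nat.card_eq_fintype_card, Fintype.card_subtype, Finset.card_filter]
    push_cast
    refine Finset.sum_congr rfl fun x _ => ?_
    unfold regI
    by_cases hx : p ∣ orderOf x
    · rw [rp_of_sing _ hx]
      simp [hx]
    · rw [rp_of_reg _ hx]
      simp [hx]
  have hN : (Nat.card {xy : G × G // (∃ k : ℕ, orderOf xy.1 = p ^ k) ∧ ¬ p ∣ orderOf xy.2 ∧ xy.1 * xy.2 = g} : ℂ) =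
      H22.conv (pel (G := G) p) (regI p G) g := by
    have h1 : Nat.card {xy : G × G // (∃ k : ℕ, orderOf xy.1 = p ^ k) ∧ ¬ p ∣ orderOf xy.2 ∧ xy.1 * xy.2 = g} =
        Nat.card {h : G // (∃ k : ℕ, orderOf h = p ^ k) ∧ ¬ p ∣ orderOf (h⁻¹ * g)} := by
      refine Nat.card_congr
        { toFun := fun xy => ⟨xy.1.1, xy.2.1, ?_⟩
          invFun := fun h => ⟨(h.1, h.1⁻¹ * g), h.2.1, h.2.2, by simp⟩
          left_inv := ?_
          right_inv := ?_ }
      · obtain ⟨⟨a, b⟩, ha, hb, hab⟩ := xy
        simp only at ha hb hab ⊢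
        rw [← hab, inv_mul_cancel_left]
        exact hb
      · rintro ⟨⟨a, b⟩, ha, hb, hab⟩
        simp only at hab
        apply Subtype.ext
        simp only [Prod.mk.injEq, true_and]
        rw [← hab, inv_mul_cancel_left]
      · rintro ⟨h, hh⟩
        rfl
    rw [h1, Nat.card_eq_fintype_card, Fintype.card_subtype, Finset.card_filter]
    push_cast
    unfold H22.conv
    refine Finset.sum_congr rfl fun h _ => ?_
    unfold regI pel
    by_cases hx : p ∣ orderOf (h⁻¹ * g)
    · rw [rp_of_sing _ hx]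
      simp [hx]
    · rw [rp_of_reg _ hx]
      simp [hx]
  rw [hN, hR]
  have hne := sum_regI_not_mli (G := G) (p := p) hM
  have hRlocal : MemLocalRing M (∑ x, regI p G x) := H22.mlr_sum _ _ fun g _ => regI_mlr g
  obtain ⟨hR0, hRinv⟩ := H22.mlr_inv hRlocal hne
  have h1 := H22.mli_mul_left (conv_pel_regI_congr hM g hg) hRinv
  have h2 : blockCoeff (principalBlock M G) g - H22.conv (pel (G := G) p) (regI p G) g / (∑ x, regI p G x) =
      -((∑ x, regI p G x)⁻¹ * (H22.conv (pel (G := G) p) (regI p G) g -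
        (∑ x, regI p G x) * blockCoeff (principalBlock M G) g)) := by
    field_simp
    ring
  rw [h2]
  exact H22.mli_neg h1

end Main

end Cfsg.Agent.H21
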