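import Cfsg.Agent.Lib.H21.NormalBlocks
import Cfsg.Agent.Lib.H21.MinMax
import Cfsg.Agent.Lib.H22.NormalPrincipal
import Cfsg.Agent.Lib.H22.Frobenius

/-!
# Principal blocks of central products
-/

set_option autoImplicit false
set_option linter.unusedSectionVars false
set_option linter.style.haveILetI false
set_option linter.unusedSimpArgs false

namespace Cfsg.Agent.H21

open scoped ComplexConjugate
open Cfsg Module Cfsg.Agent.H22

universe u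

variable {G : Type u} [Group G] [Finite G] {p : ℕ} [hp : Fact p.Prime] {M : Ideal AlgInt}

theorem regular_of_commute {x y : G} (hc : Commute x y) (hx : ¬ p ∣ orderOf x)
    (hy : ¬ p ∣ orderOf y) : ¬ p ∣ orderOf (x * y) := by
  intro h
  have h1 := h.trans hc.orderOf_mul_dvd_mul_orderOf
  rcases (Nat.Prime.dvd_mul hp.out).1 h1 with h2 | h2
  · exact hx h2
  · exact hy h2

theorem eq_one_of_regular_pelem {z : G} (h1 : ¬ p ∣ orderOf z) {k : ℕ} (h2 : orderOf z = p ^ k) :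
    z = 1 := by
  have h3 : k = 0 := by
    by_contra hk
    apply h1
    rw [h2]
    exact dvd_pow_self p hk
  rw [h3, pow_zero, orderOf_eq_one_iff] at h2
  exact h2

variable (U₁ U₂ : Subgroup G) [hU₁ : U₁.Normal] [hU₂ : U₂.Normal]

/-- Class sums of commuting regular elements multiply. -/
theorem classIndicator_mul_of_commuting
    (hcomm : ∀ u ∈ U₁, ∀ v ∈ U₂, u * v = v * u) (hgen : ∀ g : G, ∃ u ∈ U₁, ∃ v ∈ U₂, g = u * v)
    (hZ : IsPGroup p ↥(U₁ ⊓ U₂)) {b₁ b₂ : G} (hb₁ : b₁ ∈ U₁) (hb₂ : b₂ ∈ U₂)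
    (hr₁ : ¬ p ∣ orderOf b₁) (hr₂ : ¬ p ∣ orderOf b₂) :
    classIndicator (b₁ * b₂) = conv (classIndicator b₁) (classIndicator b₂) := by
  classical
  -- the conjugates stay regular, in the right subgroups
  have hconj₁ : ∀ h : G, IsConj h b₁ → h ∈ U₁ ∧ ¬ p ∣ orderOf h := by
    intro h hh
    obtain ⟨t, rfl⟩ := isConj_iff.1 hh.symm
    refine ⟨hU₁.conj_mem _ hb₁ t, ?_⟩
    rw [orderOf_conj']
    exact hr₁
  have hconj₂ : ∀ h : G, IsConj h b₂ → h ∈ U₂ ∧ ¬ p ∣ orderOf h := by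
    intro h hh
    obtain ⟨t, rfl⟩ := isConj_iff.1 hh.symm
    refine ⟨hU₂.conj_mem _ hb₂ t, ?_⟩
    rw [orderOf_conj']
    exact hr₂
  have hc₁ : ∀ t : G, IsConj (t * b₁ * t⁻¹) b₁ := by
    intro t
    exact (isConj_iff.2 ⟨t, rfl⟩).symm
  have hc₂ : ∀ t : G, IsConj (t * b₂ * t⁻¹) b₂ := by
    intro t
    exact (isConj_iff.2 ⟨t, rfl⟩).symm
  funext y
  unfold conv classIndicator
  by_cases hy : IsConj y (b₁ * b₂)
  · rw [if_pos hy]
    obtain ⟨t, rfl⟩ := isConj_iff.1 hy.symm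
    rw [Finset.sum_eq_single (t * b₁ * t⁻¹)]
    · have h2 : (t * b₁ * t⁻¹)⁻¹ * (t * (b₁ * b₂) * t⁻¹) = t * b₂ * t⁻¹ := by group
      rw [h2, if_pos (hc₁ t), if_pos (hc₂ t)]
      simp
    · intro h _ hne
      by_cases h1 : IsConj h b₁
      · rw [if_pos h1]
        by_cases h2 : IsConj (h⁻¹ * (t * (b₁ * b₂) * t⁻¹)) b₂
        · exfalso
          apply hne
          set h₀ := t * b₁ * t⁻¹ with hh₀
          set k₀ := t * b₂ * t⁻¹ with hk₀
          set k := h⁻¹ * (t * (b₁ * b₂) * t⁻¹) with hk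
          have hy0 : h * k = h₀ * k₀ := by
            rw [hk, hh₀, hk₀]
            group
          obtain ⟨hU, hhr⟩ := hconj₁ h h1
          obtain ⟨hU₀, hh₀r⟩ := hconj₁ h₀ (hc₁ t)
          obtain ⟨kU, hkr⟩ := hconj₂ k h2
          obtain ⟨kU₀, hk₀r⟩ := hconj₂ k₀ (hc₂ t)
          let z := h₀⁻¹ * h
          have hz1 : z ∈ U₁ := U₁.mul_mem (U₁.inv_mem hU₀) hU
          have hz2 : z ∈ U₂ := by
            have : z = k₀ * k⁻¹ := by
              have h3 : h₀⁻¹ * (h * k) = k₀ := by rw [hy0]; group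
              calc z = h₀⁻¹ * (h * k) * k⁻¹ := by
                    show h₀⁻¹ * h = _
                    group
                _ = k₀ * k⁻¹ := by rw [h3]
            rw [this]
            exact U₂.mul_mem kU₀ (U₂.inv_mem kU)
          have hzc : Commute h₀ z := (hcomm h₀ hU₀ z hz2)
          have hhz : h = h₀ * z := by
            show h = h₀ * (h₀⁻¹ * h)
            group
          have hzinv : z = h₀⁻¹ * h := rfl
          have hcomm' : Commute h₀⁻¹ h := by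
            rw [hhz]
            exact (Commute.inv_left (Commute.refl h₀)).mul_right hzc.inv_left
          have hzreg : ¬ p ∣ orderOf z := by
            apply regular_of_commute hcomm'
            · rwa [orderOf_inv]
            · exact hhr
          obtain ⟨e, he⟩ := (IsPGroup.iff_orderOf).1 hZ ⟨z, hz1, hz2⟩
          have hz' : orderOf z = p ^ e := by
            rw [← he]
            exact (Subgroup.orderOf_mk z _).symm
          have hz1' := eq_one_of_regular_pelem hzreg hz'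
          rw [hhz, hz1', mul_one]
        · rw [if_neg h2]
          simp
      · rw [if_neg h1]
        simp
    · intro h
      exact absurd (Finset.mem_univ _) h
  · rw [if_neg hy]
    symm
    apply Finset.sum_eq_zero
    intro h _
    by_cases h1 : IsConj h b₁
    · rw [if_pos h1]
      by_cases h2 : IsConj (h⁻¹ * y) b₂
      · exfalso
        apply hy
        obtain ⟨t, ht⟩ := isConj_iff.1 h1.symm
        obtain ⟨s, hs⟩ := isConj_iff.1 h2.symm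
        obtain ⟨t₁, ht₁, t₂, ht₂, rfl⟩ := hgen t
        obtain ⟨s₁, hs₁, s₂, hs₂, rfl⟩ := hgen s
        have hh1 : h = t₁ * b₁ * t₁⁻¹ := by
          rw [← ht]
          have : t₂ * b₁ = b₁ * t₂ := (hcomm b₁ hb₁ t₂ ht₂).symm
          calc t₁ * t₂ * b₁ * (t₁ * t₂)⁻¹ = t₁ * (t₂ * b₁) * t₂⁻¹ * t₁⁻¹ := by group
            _ = t₁ * (b₁ * t₂) * t₂⁻¹ * t₁⁻¹ := by rw [this]
            _ = t₁ * b₁ * t₁⁻¹ := by group
        have hh2 : h⁻¹ * y = s₂ * b₂ * s₂⁻¹ := by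
          rw [← hs]
          have : s₁ * s₂ * b₂ * (s₁ * s₂)⁻¹ = s₁ * (s₂ * b₂ * s₂⁻¹) * s₁⁻¹ := by group
          rw [this]
          have h3 : s₂ * b₂ * s₂⁻¹ ∈ U₂ := hU₂.conj_mem _ hb₂ s₂
          have h4 : s₁ * (s₂ * b₂ * s₂⁻¹) = (s₂ * b₂ * s₂⁻¹) * s₁ := hcomm s₁ hs₁ _ h3
          rw [h4]
          group
        have hy2 : y = (t₁ * s₂) * (b₁ * b₂) * (t₁ * s₂)⁻¹ := by
          have h5 : y = h * (s₂ * b₂ * s₂⁻¹) := by rw [← hh2]; group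
          rw [h5, hh1]
          have h6 : s₂ * b₁ = b₁ * s₂ := (hcomm b₁ hb₁ s₂ hs₂).symm
          have hk : s₂ * b₂ * s₂⁻¹ ∈ U₂ := hU₂.conj_mem _ hb₂ s₂
          have h10 : (s₂ * b₂ * s₂⁻¹) * t₁⁻¹ = t₁⁻¹ * (s₂ * b₂ * s₂⁻¹) :=
            (hcomm t₁⁻¹ (U₁.inv_mem ht₁) _ hk).symm
          symm
          calc (t₁ * s₂) * (b₁ * b₂) * (t₁ * s₂)⁻¹ = t₁ * (s₂ * b₁) * b₂ * s₂⁻¹ * t₁⁻¹ := by group
            _ = t₁ * (b₁ * s₂) * b₂ * s₂⁻¹ * t₁⁻¹ := by rw [h6]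
            _ = t₁ * b₁ * ((s₂ * b₂ * s₂⁻¹) * t₁⁻¹) := by group
            _ = t₁ * b₁ * (t₁⁻¹ * (s₂ * b₂ * s₂⁻¹)) := by rw [h10]
            _ = t₁ * b₁ * t₁⁻¹ * (s₂ * b₂ * s₂⁻¹) := by group
        rw [hy2]
        exact (isConj_iff.2 ⟨_, rfl⟩).symm
      · rw [if_neg h2]
        simp
    · rw [if_neg h1]
      simp

variable [hMp : M.IsPrime]

/-- **Principal block of a central product.** -/
theorem principal_of_constituents (hM : IsPModular p M)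
    (hcomm : ∀ u ∈ U₁, ∀ v ∈ U₂, u * v = v * u) (hgen : ∀ g : G, ∃ u ∈ U₁, ∃ v ∈ U₂, g = u * v)
    (hZ : IsPGroup p ↥(U₁ ⊓ U₂)) (χ : IrrCharacter G) (ψ₁ : IrrCharacter U₁) (ψ₂ : IrrCharacter U₂)
    (h₁ : ∑ n : U₁, conj (ψ₁.1 n) * χ.1 n ≠ 0) (h₂ : ∑ n : U₂, conj (ψ₂.1 n) * χ.1 n ≠ 0)
    (hψ₁ : ψ₁ ∈ principalBlock M U₁) (hψ₂ : ψ₂ ∈ principalBlock M U₂) : χ ∈ principalBlock M G := by
  classical
  have hone : ∀ (U : Subgroup G), ∑ n : U, conj ((oneIrr U).1 n) * (oneIrr G).1 n ≠ 0 := by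
    intro U
    have h2 : ∀ n : U, conj ((oneIrr U).1 n) * (oneIrr G).1 n = 1 := by
      intro n
      unfold oneIrr
      simp
    simp only [h2]
    simp only [Finset.sum_const, Finset.card_univ, nsmul_eq_mul, mul_one]
    exact_mod_cast Fintype.card_ne_zero
  have hb : ∀ {U : Subgroup G} [hU : U.Normal] (ψ : IrrCharacter U),
      ∑ n : U, conj (ψ.1 n) * χ.1 n ≠ 0 → ψ ∈ principalBlock M U → ∀ b : U,
        MemLocalIdeal M (cc (b : G) (oneIrr G) - cc (b : G) χ) := by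
    intro U hU ψ hne hψ b
    rw [cc_eq_indCC χ ψ hne b, cc_eq_indCC (oneIrr G) (oneIrr U) (hone U) b]
    exact indCC_congr (M := M) (ξ := oneIrr U) (ξ' := ψ) hψ (b : G)
  have hmain := sameBlock_of_regular hM (oneIrr G) χ ?_
  · exact hmain
  intro x hx
  obtain ⟨u₁, hu₁, u₂, hu₂, rfl⟩ := hgen x
  obtain ⟨a₁, b₁, rfl, hc₁, ⟨k₁, hk₁⟩, hr₁, ha₁, hb₁⟩ := exists_pPart_decomp' p u₁
  obtain ⟨a₂, b₂, rfl, hc₂, ⟨k₂, hk₂⟩, hr₂, ha₂, hb₂⟩ := exists_pPart_decomp' p u₂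
  have ha₁U : a₁ ∈ U₁ := (Subgroup.zpowers_le.2 hu₁) ha₁
  have hb₁U : b₁ ∈ U₁ := (Subgroup.zpowers_le.2 hu₁) hb₁
  have ha₂U : a₂ ∈ U₂ := (Subgroup.zpowers_le.2 hu₂) ha₂
  have hb₂U : b₂ ∈ U₂ := (Subgroup.zpowers_le.2 hu₂) hb₂
  have hreg₁ : ¬ p ∣ orderOf b₁ := fun h =>
    hp.out.one_lt.ne' (Nat.eq_one_of_dvd_coprimes hr₁.symm (dvd_refl p) h)
  have hreg₂ : ¬ p ∣ orderOf b₂ := fun h =>
    hp.out.one_lt.ne' (Nat.eq_one_of_dvd_coprimes hr₂.symm (dvd_refl p) h)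
  have hc12 : Commute a₁ a₂ := hcomm _ ha₁U _ ha₂U
  have hb12 : Commute b₁ b₂ := hcomm _ hb₁U _ hb₂U
  have hab12 : Commute a₁ b₂ := hcomm _ ha₁U _ hb₂U
  have hba12 : Commute b₁ a₂ := hcomm _ hb₁U _ ha₂U
  have hxeq : a₁ * b₁ * (a₂ * b₂) = (a₁ * a₂) * (b₁ * b₂) := by
    calc a₁ * b₁ * (a₂ * b₂) = a₁ * (b₁ * a₂) * b₂ := by group
      _ = a₁ * (a₂ * b₁) * b₂ := by rw [hba12.eq]
      _ = _ := by group
  have hcb : Commute (a₁ * a₂) (b₁ * b₂) := by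
    apply Commute.mul_left
    · exact Commute.mul_right hc₁ hab12
    · exact Commute.mul_right hba12.symm hc₂
  have hbreg : ¬ p ∣ orderOf (b₁ * b₂) := regular_of_commute hb12 hreg₁ hreg₂
  have hareg : ¬ p ∣ orderOf (a₁ * a₂) := by
    have h1 : a₁ * a₂ = (a₁ * b₁ * (a₂ * b₂)) * (b₁ * b₂)⁻¹ := by
      rw [hxeq]
      group
    rw [h1]
    apply regular_of_commute
    · rw [hxeq]
      exact (hcb.mul_left (Commute.refl _)).inv_right
    · exact hx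
    · rwa [orderOf_inv]
  have hap : ∃ j, orderOf (a₁ * a₂) = p ^ j := by
    have h1 : (a₁ * a₂) ^ (p ^ (k₁ + k₂)) = 1 := by
      rw [hc12.mul_pow]
      have h2 : a₁ ^ (p ^ (k₁ + k₂)) = 1 := by
        rw [pow_add, pow_mul, ← hk₁, pow_orderOf_eq_one, one_pow]
      have h3 : a₂ ^ (p ^ (k₁ + k₂)) = 1 := by
        rw [add_comm, pow_add, pow_mul, ← hk₂, pow_orderOf_eq_one, one_pow]
      rw [h2, h3, one_mul]
    obtain ⟨j, -, hj⟩ := (Nat.dvd_prime_pow hp.out).1 (orderOf_dvd_of_pow_eq_one h1)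
    exact ⟨j, hj⟩
  obtain ⟨j, hj⟩ := hap
  have ha1 : a₁ * a₂ = 1 := eq_one_of_regular_pelem hareg hj
  rw [hxeq, ha1, one_mul]
  have hcc : ∀ θ : IrrCharacter G, cc (b₁ * b₂) θ = cc b₁ θ * cc b₂ θ := by
    intro θ
    rw [← om_classIndicator, classIndicator_mul_of_commuting U₁ U₂ hcomm hgen hZ hb₁U hb₂U hreg₁ hreg₂,
      om_conv _ _ (classIndicator_isClass b₁), om_classIndicator, om_classIndicator]
  rw [hcc, hcc]
  have h3 := hb ψ₁ h₁ hψ₁ ⟨b₁, hb₁U⟩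
  have h4 := hb ψ₂ h₂ hψ₂ ⟨b₂, hb₂U⟩
  have h5 : cc b₁ (oneIrr G) * cc b₂ (oneIrr G) - cc b₁ χ * cc b₂ χ =
      (cc b₁ (oneIrr G) - cc b₁ χ) * cc b₂ (oneIrr G) + cc b₁ χ * (cc b₂ (oneIrr G) - cc b₂ χ) := by
    ring
  rw [h5]
  exact mli_add (mli_mul_right h3 (cc_mlr _ _)) (mli_mul_left h4 (cc_mlr _ _))

end Cfsg.Agent.H21
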