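import Cfsg.Agent.Lib.H21.PrincipalCoeff
import Cfsg.Agent.Lib.H21.NormalBlocks
import Cfsg.Agent.Lib.H21.InducedBlock
import Cfsg.Agent.Lib.H21.ProdPrincipal
import Cfsg.Agent.Lib.H22.Third
import Cfsg.Agent.Lib.H06.CharClifford2
import Cfsg.Agent.Lib.H21.CentralProd

/-!
# The principal part of a permutation character on a subgroup containing a Sylow subgroup
-/

set_option autoImplicit false
set_option linter.unusedSectionVars false
set_option linter.style.haveILetI false
set_option linter.unusedSimpArgs false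

namespace Cfsg.Agent.H21

open scoped ComplexConjugate
open Cfsg Module Cfsg.Agent.H22

universe u

section Count

variable {p : ℕ} [hp : Fact p.Prime]

/-- A group with a central Sylow `p`-subgroup has a number of `p`-regular elements prime to `p`. -/
theorem card_regular_of_central_sylow {K : Type*} [Group K] [Finite K] (S : Subgroup K)
    (hScen : ∀ s ∈ S, ∀ k : K, s * k = k * s) (hS : IsPGroup p S) (hidx : ¬ p ∣ S.index) :
    ¬ p ∣ Nat.card {k : K // ¬ p ∣ orderOf k} := by
  classical
  haveI hSn : S.Normal := by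
    constructor
    intro s hs c
    have : c * s * c⁻¹ = s := by
      rw [← hScen s hs c, mul_assoc, mul_inv_cancel, mul_one]
    rwa [this]
  have hcop : Nat.Coprime (Nat.card S) S.index := by
    obtain ⟨n, hn⟩ := (IsPGroup.iff_card).1 hS
    rw [hn]
    apply Nat.Coprime.pow_left
    exact (Nat.Prime.coprime_iff_not_dvd hp.out).2 hidx
  obtain ⟨O, hO⟩ := Subgroup.exists_right_complement'_of_coprime hcop
  have hOcard : Nat.card O = S.index := by
    have h1 := hO.card_mul_card
    have h2 := Subgroup.card_mul_index S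
    exact Nat.eq_of_mul_eq_mul_left Nat.card_pos (h1.trans h2.symm)
  have hiff : ∀ k : K, ¬ p ∣ orderOf k ↔ k ∈ O := by
    intro k
    constructor
    · intro hk
      obtain ⟨⟨s, o⟩, he, -⟩ := Subgroup.IsComplement.existsUnique hO k
      have he' : (s : K) * (o : K) = k := he
      have hso : Commute (s : K) (o : K) := hScen s s.2 o
      have hor : ¬ p ∣ orderOf (o : K) := by
        intro h
        apply hidx
        rw [← hOcard]
        have h1 := orderOf_dvd_natCard o
        rw [Subgroup.orderOf_coe] at h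
        exact h.trans h1
      have hs1 : (s : K) = k * (o : K)⁻¹ := by
        rw [← he']
        group
      have hsreg : ¬ p ∣ orderOf (s : K) := by
        rw [hs1]
        apply regular_of_commute
        · rw [← he']
          exact ((hso.mul_left (Commute.refl _))).inv_right
        · exact hk
        · rwa [orderOf_inv]
      obtain ⟨j, hj⟩ := (IsPGroup.iff_orderOf).1 hS s
      rw [← Subgroup.orderOf_coe] at hj
      have hs2 := eq_one_of_regular_pelem hsreg hj
      rw [← he', hs2, one_mul]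
      exact o.2
    · intro hk h
      apply hidx
      rw [← hOcard]
      have h1 := orderOf_dvd_natCard (⟨k, hk⟩ : O)
      rw [Subgroup.orderOf_mk] at h1
      exact h.trans h1
  have hcard : Nat.card {k : K // ¬ p ∣ orderOf k} = Nat.card O :=
    Nat.card_congr (Equiv.subtypeEquivRight hiff)
  rw [hcard, hOcard]
  exact hidx

variable {G : Type u} [Group G] [Finite G]

/-- A `p`-element centralizing a Sylow `p`-subgroup lies in it. -/
theorem mem_sylow_of_centralizes (P : Sylow p G) {x : G} {k : ℕ} (hx : orderOf x = p ^ k)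
    (hc : x ∈ Subgroup.centralizer ((P : Subgroup G) : Set G)) : x ∈ (P : Subgroup G) := by
  have h1 : IsPGroup p (Subgroup.zpowers x) := by
    rw [IsPGroup.iff_card, Nat.card_zpowers]
    exact ⟨k, hx⟩
  have h2 := h1.inf_normalizer_sylow P
  have h3 := h2.le ⟨Subgroup.mem_zpowers x, Subgroup.centralizer_le_normalizer _ hc⟩
  exact h3.2

variable (P : Sylow p G) (H : Subgroup G) (hPH : (P : Subgroup G) ≤ H)

/-- The pairs counted by the idempotent of the principal block on `H`. -/
def PairX : Type u :=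
  {z : G × G // (∃ k : ℕ, orderOf z.1 = p ^ k) ∧ ¬ p ∣ orderOf z.2 ∧ z.1 * z.2 ∈ H ∧
    ¬ p ∣ orderOf (z.1 * z.2)}

instance : Finite (PairX (p := p) H) := Subtype.finite

include hPH in
/-- Conjugation action on the pairs. -/
@[instance_reducible] def pairAction : MulAction P (PairX (p := p) H) where
  smul g z := ⟨((g : G) * z.1.1 * (g : G)⁻¹, (g : G) * z.1.2 * (g : G)⁻¹), by
    refine ⟨?_, ?_, ?_, ?_⟩
    · obtain ⟨k, hk⟩ := z.2.1
      refine ⟨k, ?_⟩
      show orderOf ((g : G) * z.1.1 * (g : G)⁻¹) = _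
      rw [orderOf_conj']
      exact hk
    · show ¬ p ∣ orderOf ((g : G) * z.1.2 * (g : G)⁻¹)
      rw [orderOf_conj']
      exact z.2.2.1
    · have h1 : (g : G) * z.1.1 * (g : G)⁻¹ * ((g : G) * z.1.2 * (g : G)⁻¹) =
          (g : G) * (z.1.1 * z.1.2) * (g : G)⁻¹ := by group
      show (g : G) * z.1.1 * (g : G)⁻¹ * ((g : G) * z.1.2 * (g : G)⁻¹) ∈ H
      rw [h1]
      exact H.mul_mem (H.mul_mem (hPH g.2) z.2.2.2.1) (H.inv_mem (hPH g.2))
    · have h1 : (g : G) * z.1.1 * (g : G)⁻¹ * ((g : G) * z.1.2 * (g : G)⁻¹) =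
          (g : G) * (z.1.1 * z.1.2) * (g : G)⁻¹ := by group
      show ¬ p ∣ orderOf ((g : G) * z.1.1 * (g : G)⁻¹ * ((g : G) * z.1.2 * (g : G)⁻¹))
      rw [h1, orderOf_conj']
      exact z.2.2.2.2⟩
  one_smul z := by
    apply Subtype.ext
    show ((((1 : P) : G)) * z.1.1 * ((1 : P) : G)⁻¹, ((1 : P) : G) * z.1.2 * ((1 : P) : G)⁻¹) = z.1
    simp
  mul_smul a b z := by
    apply Subtype.ext
    show (((a * b : P) : G) * z.1.1 * ((a * b : P) : G)⁻¹, ((a * b : P) : G) * z.1.2 * ((a * b : P) : G)⁻¹) =
      ((a : G) * ((b : G) * z.1.1 * (b : G)⁻¹) * (a : G)⁻¹, (a : G) * ((b : G) * z.1.2 * (b : G)⁻¹) * (a : G)⁻¹)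
    simp only [Subgroup.coe_mul, Prod.mk.injEq]
    constructor <;> group

include hPH in
/-- The number of these pairs is prime to `p`. -/
theorem card_pairX_not_dvd : ¬ p ∣ Nat.card (PairX (p := p) H) := by
  classical
  letI := pairAction P H hPH
  have hP : IsPGroup p P := P.isPGroup'
  have h1 := hP.card_modEq_card_fixedPoints (PairX (p := p) H)
  -- the centralizer `K` in `H`
  let K : Subgroup G := H ⊓ Subgroup.centralizer ((P : Subgroup G) : Set G)
  have hreg : ¬ p ∣ Nat.card {k : K // ¬ p ∣ orderOf k} := by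
    let S : Subgroup K := (P : Subgroup G).subgroupOf K
    apply card_regular_of_central_sylow S
    · intro s hs k
      apply Subtype.ext
      have h2 : (s : G) ∈ (P : Subgroup G) := hs
      exact k.2.2 _ h2
    · intro s
      obtain ⟨j, hj⟩ := P.isPGroup' ⟨(s : K), s.2⟩
      refine ⟨j, ?_⟩
      apply Subtype.ext
      apply Subtype.ext
      have := congrArg Subtype.val hj
      simpa using this
    · -- the index of `P ∩ K` in `K` is prime to `p`
      intro hdvd
      obtain ⟨Q⟩ : Nonempty (Sylow p K) := inferInstance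
      have hQmap : ((Q : Subgroup K).map K.subtype) ≤ (P : Subgroup G) := by
        rintro _ ⟨q, hq, rfl⟩
        obtain ⟨j, hj⟩ := (IsPGroup.iff_orderOf).1 Q.isPGroup' ⟨q, hq⟩
        have hj' : orderOf (q : G) = p ^ j := by
          rw [Subgroup.orderOf_coe, ← hj]
          exact (Subgroup.orderOf_mk q hq).symm
        exact mem_sylow_of_centralizes P hj' q.2.2
      have hQS : (Q : Subgroup K) ≤ S := by
        intro q hq
        exact hQmap ⟨q, hq, rfl⟩
      have h3 := Q.not_dvd_index
      exact h3 (hdvd.trans (Subgroup.index_dvd_of_le hQS))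
  have key : ∀ z : PairX (p := p) H, z ∈ MulAction.fixedPoints P (PairX (p := p) H) →
      z.1.1 = 1 ∧ z.1.2 ∈ K := by
    intro z hz
    have hy : z.1.2 ∈ Subgroup.centralizer ((P : Subgroup G) : Set G) := by
      intro g hg
      have h3 := congrArg (fun w : PairX (p := p) H => w.1.2) (hz ⟨g, hg⟩)
      have h4 : g * z.1.2 * g⁻¹ = z.1.2 := h3
      rw [mul_inv_eq_iff_eq_mul] at h4
      exact h4
    have hx : z.1.1 ∈ Subgroup.centralizer ((P : Subgroup G) : Set G) := by
      intro g hg
      have h3 := congrArg (fun w : PairX (p := p) H => w.1.1) (hz ⟨g, hg⟩)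
      have h4 : g * z.1.1 * g⁻¹ = z.1.1 := h3
      rw [mul_inv_eq_iff_eq_mul] at h4
      exact h4
    obtain ⟨j, hj⟩ := z.2.1
    have hxP := mem_sylow_of_centralizes P hj hx
    have hyH : z.1.2 ∈ H := by
      have h3 := H.mul_mem (H.inv_mem (hPH hxP)) z.2.2.2.1
      simpa using h3
    have hcomm : Commute z.1.1 z.1.2 := hy _ hxP
    have hxreg : ¬ p ∣ orderOf z.1.1 := by
      have h3 : z.1.1 = (z.1.1 * z.1.2) * z.1.2⁻¹ := by group
      rw [h3]
      apply regular_of_commute
      · exact (hcomm.mul_left (Commute.refl _)).inv_right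
      · exact z.2.2.2.2
      · rw [orderOf_inv]
        exact z.2.2.1
    exact ⟨eq_one_of_regular_pelem hxreg hj, hyH, hy⟩
  have h2 : Nat.card (MulAction.fixedPoints P (PairX (p := p) H)) =
      Nat.card {k : K // ¬ p ∣ orderOf k} := by
    refine Nat.card_congr ⟨?_, ?_, ?_, ?_⟩
    · intro w
      refine ⟨⟨w.1.1.2, (key w.1 w.2).2⟩, ?_⟩
      have := w.1.2.2.1
      rwa [Subgroup.orderOf_mk]
    · rintro ⟨k, hk⟩
      refine ⟨⟨(1, (k : G)), ⟨⟨0, by simp⟩, ?_, ?_, ?_⟩⟩, ?_⟩
      · rwa [Subgroup.orderOf_coe]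
      · simpa using k.2.1
      · simpa [Subgroup.orderOf_coe] using hk
      · intro g
        apply Subtype.ext
        show (((g : G)) * 1 * (g : G)⁻¹, (g : G) * (k : G) * (g : G)⁻¹) = (1, (k : G))
        have h3 : (g : G) * (k : G) = (k : G) * (g : G) := k.2.2 _ g.2
        simp [h3]
    · rintro ⟨z, hz⟩
      apply Subtype.ext
      apply Subtype.ext
      show (1, z.1.2) = z.1
      exact Prod.ext (key z hz).1.symm rfl
    · rintro ⟨k, hk⟩
      rfl
  rw [h2] at h1
  intro h3
  apply hreg
  have h4 := h1.dvd_iff (dvd_refl p)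
  exact h4.1 h3

end Count

section Sum

variable {p : ℕ} [hp : Fact p.Prime] {G : Type u} [Group G] [Finite G] {M : Ideal AlgInt}
  [hMp : M.IsPrime]

theorem card_pairX_eq (H : Subgroup G) :
    (Nat.card (PairX (p := p) H) : ℂ) = ∑ h : H, if ¬ p ∣ orderOf (h : G) then
      (Nat.card {xy : G × G // (∃ k : ℕ, orderOf xy.1 = p ^ k) ∧ ¬ p ∣ orderOf xy.2 ∧
        xy.1 * xy.2 = (h : G)} : ℂ) else 0 := by
  classical
  let e : PairX (p := p) H ≃ Σ h : {h : H // ¬ p ∣ orderOf (h : G)},
      {xy : G × G // (∃ k : ℕ, orderOf xy.1 = p ^ k) ∧ ¬ p ∣ orderOf xy.2 ∧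
        xy.1 * xy.2 = ((h : H) : G)} :=
    { toFun := fun z => ⟨⟨⟨z.1.1 * z.1.2, z.2.2.2.1⟩, z.2.2.2.2⟩, ⟨z.1, z.2.1, z.2.2.1, rfl⟩⟩
      invFun := fun w => ⟨w.2.1, w.2.2.1, w.2.2.2.1, by
        rw [w.2.2.2.2]
        exact w.1.1.2, by
        rw [w.2.2.2.2]
        exact w.1.2⟩
      left_inv := fun z => rfl
      right_inv := by
        rintro ⟨⟨⟨h, hh⟩, hr⟩, ⟨z, hz1, hz2, hz3⟩⟩
        obtain rfl : h = z.1 * z.2 := hz3.symm
        rfl }
  rw [Nat.card_congr e, Nat.card_sigma]
  push_cast
  rw [← Finset.sum_filter]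
  exact (Finset.sum_subtype _ (by simp) (fun h : H => (Nat.card {xy : G × G // (∃ k : ℕ, orderOf xy.1 = p ^ k) ∧ ¬ p ∣ orderOf xy.2 ∧
        xy.1 * xy.2 = (h : G)} : ℂ))).symm

theorem card_regular_eq_sum : (Nat.card {y : G // ¬ p ∣ orderOf y} : ℂ) = ∑ x, regI p G x := by
  classical
  rw [Nat.card_eq_fintype_card, Fintype.card_subtype, Finset.card_filter]
  push_cast
  refine Finset.sum_congr rfl fun x _ => ?_
  unfold regI
  by_cases hx : p ∣ orderOf x
  · rw [rp_of_sing _ hx]
    simp [hx]
  · rw [rp_of_reg _ hx]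
    simp [hx]

/-- The coefficients of the principal block idempotent on a subgroup containing a Sylow subgroup
have unit sum. -/
theorem sum_principal_coeff_not_mli (hM : IsPModular p M) (P : Sylow p G) (H : Subgroup G)
    (hPH : (P : Subgroup G) ≤ H) :
    ¬ MemLocalIdeal M (∑ h : H, blockCoeff (principalBlock M G) h) := by
  classical
  set r : ℂ := (Nat.card {y : G // ¬ p ∣ orderOf y} : ℂ) with hr
  have hrne : ¬ MemLocalIdeal M r := by
    rw [hr, card_regular_eq_sum]
    exact sum_regI_not_mli hM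
  have hXne : ¬ MemLocalIdeal M (Nat.card (PairX (p := p) H) : ℂ) :=
    not_mli_natCast_of_odd hM (card_pairX_not_dvd P H hPH)
  let t : H → ℂ := fun h => if ¬ p ∣ orderOf (h : G) then
    (Nat.card {xy : G × G // (∃ k : ℕ, orderOf xy.1 = p ^ k) ∧ ¬ p ∣ orderOf xy.2 ∧
        xy.1 * xy.2 = (h : G)} : ℂ) / r else 0
  have ht : ∀ h : H, MemLocalIdeal M (blockCoeff (principalBlock M G) (h : G) - t h) := by
    intro h
    by_cases hh : p ∣ orderOf (h : G)
    · have h1 : t h = 0 := by
        show (if ¬ p ∣ orderOf (h : G) then _ else _) = _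
        rw [if_neg (not_not.2 hh)]
      rw [h1, blockCoeff_eq_zero_of_singular hM principalBlock_isBlock hh, sub_zero]
      exact (locI M).zero_mem
    · have h1 : t h = (Nat.card {xy : G × G // (∃ k : ℕ, orderOf xy.1 = p ^ k) ∧ ¬ p ∣ orderOf xy.2 ∧
        xy.1 * xy.2 = (h : G)} : ℂ) / r := by
        show (if ¬ p ∣ orderOf (h : G) then _ else _) = _
        rw [if_pos hh]
      rw [h1]
      exact principal_coeff hM (h : G) hh
  have hsum : ∑ h, t h = (Nat.card (PairX (p := p) H) : ℂ) / r := by
    rw [card_pairX_eq, Finset.sum_div]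
    refine Finset.sum_congr rfl fun h _ => ?_
    by_cases hh : p ∣ orderOf (h : G)
    · show (if ¬ p ∣ orderOf (h : G) then _ else _) = _
      rw [if_neg (not_not.2 hh), if_neg (not_not.2 hh), zero_div]
    · show (if ¬ p ∣ orderOf (h : G) then _ else _) = _
      rw [if_pos hh, if_pos hh]
  have hrne0 : r ≠ 0 := by
    intro h0
    apply hrne
    rw [h0]
    exact (locI M).zero_mem
  have hrloc : MemLocalRing M r := by
    rw [hr]
    exact mlr_natCast _
  intro hc
  have h1 : MemLocalIdeal M (∑ h, t h) := by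
    have h2 : ∑ h, t h = ∑ h : H, blockCoeff (principalBlock M G) h -
        ∑ h : H, (blockCoeff (principalBlock M G) (h : G) - t h) := by
      rw [← Finset.sum_sub_distrib]
      refine Finset.sum_congr rfl fun h _ => ?_
      ring
    rw [h2]
    exact mli_sub hc (mli_sum _ _ fun h _ => ht h)
  rw [hsum] at h1
  apply hXne
  have h3 : (Nat.card (PairX (p := p) H) : ℂ) = (Nat.card (PairX (p := p) H) : ℂ) / r * r := by
    field_simp
  rw [h3]
  exact mli_mul_right h1 hrloc

end Sum

section Main

variable {p : ℕ} [hp : Fact p.Prime] {G : Type u} [Group G] [Finite G] {M : Ideal AlgInt}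
  [hMp : M.IsPrime]

theorem exists_principal_over_aux (hM : IsPModular p M) (N : Subgroup G) [hN : N.Normal] (P : Sylow p G)
    (H : Subgroup G) (hNH : N ≤ H) (hPH : (P : Subgroup G) ≤ H) (hidx : ∃ k : ℕ, (N.subgroupOf H).index = p ^ k)
    (θ : IrrCharacter N) (hθ : θ ∈ principalBlock M N) (hdeg : ¬ p ∣ charDegree θ.1)
    (η : IrrCharacter H) (hη : ∀ n : N, η.1 ⟨n, hNH n.2⟩ = θ.1 n) :
    ∃ χ : IrrCharacter G, χ ∈ principalBlock M G ∧ ¬ p ∣ charDegree χ.1 ∧
      ∑ n : N, conj (θ.1 n) * χ.1 n ≠ 0 := by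
  classical
  let N₁ : Subgroup H := N.subgroupOf H
  haveI hN₁ : N₁.Normal := inferInstance
  let e : N₁ ≃* N := Subgroup.subgroupOfEquivOfLe hNH
  let θ₁ : IrrCharacter N₁ := irrMap e.symm θ
  have hθ₁v : ∀ m : N₁, θ₁.1 m = θ.1 (e m) := fun m => rfl
  have hηv : ∀ m : N₁, η.1 (m : H) = θ₁.1 m := by
    intro m
    rw [hθ₁v, ← hη]
    rfl
  have hθ₁ : θ₁ ∈ principalBlock M N₁ :=
    (image_principalBlock (M := M) e.symm).subset ⟨θ, hθ, rfl⟩
  have hone : ∑ n : N₁, conj ((oneIrr N₁).1 n) * (oneIrr H).1 n ≠ 0 := by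
    have h2 : ∀ n : N₁, conj ((oneIrr N₁).1 n) * (oneIrr H).1 n = 1 := by
      intro n
      unfold oneIrr
      simp
    simp only [h2]
    simp only [Finset.sum_const, Finset.card_univ, nsmul_eq_mul, mul_one]
    exact_mod_cast Fintype.card_ne_zero
  have hover : ∑ n : N₁, conj (θ₁.1 n) * η.1 n ≠ 0 := by
    have h2 : ∀ n : N₁, conj (θ₁.1 n) * η.1 n = ((‖θ₁.1 n‖ ^ 2 : ℝ) : ℂ) := by
      intro n
      rw [hηv, Complex.conj_mul']
      push_cast
      rfl
    simp only [h2]
    rw [← Complex.ofReal_sum, sum_norm_sq]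
    exact_mod_cast Nat.card_pos.ne'
  obtain ⟨B', -, huniq⟩ := existsUnique_cover_pIndex (G := H) (N := N₁) hM hidx
    (b := principalBlock M N₁) principalBlock_isBlock
  have hB1 := huniq (principalBlock M H) ⟨principalBlock_isBlock, oneIrr H, oneIrr_mem_principal,
    oneIrr N₁, oneIrr_mem_principal, hone⟩
  have hB2 := huniq (blockOf M η.1) ⟨isBlock_blockOf η, η, self_mem_blockOf η, θ₁, hθ₁, hover⟩
  have hηp : η ∈ principalBlock M H := by
    rw [hB1, ← hB2]
    exact self_mem_blockOf η
  -- the sum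
  let a₀ := blockCoeff (principalBlock M G)
  let b : H → ℂ := fun h => a₀ h
  have hbclass : IsClassFunction H b := by
    intro x y
    show a₀ ((y : G) * x * (y : G)⁻¹) = a₀ x
    exact blockCoeff_isClass _ _ _
  have hbloc : ∀ h, MemLocalRing M (b h) := fun h => blockCoeff_mlr principalBlock_isBlock _
  have hcong := ZR_congr (M := M) (om_mem_ZR hbclass hbloc) (χ := oneIrr H) (ψ := η) hηp
  have hom1 : om (oneIrr H) b = ∑ h : H, a₀ h := by
    unfold om
    show ((1 : ℂ))⁻¹ * ∑ g, b g * 1 = _
    simp [b]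
  have hsum := sum_principal_coeff_not_mli (M := M) hM P H hPH
  have hu : ¬ MemLocalIdeal M (om η b) := by
    intro h
    apply hsum
    have := mli_add hcong h
    rw [sub_add_cancel, hom1] at this
    exact this
  have hη1 : η.1 1 = (charDegree θ.1 : ℂ) := by
    have h2 := hη 1
    have h3 : (⟨((1 : N) : G), hNH (1 : N).2⟩ : H) = 1 := rfl
    rw [h3] at h2
    rw [h2]
    exact one_eq_charDegree (isCharacter_of_irr θ.2)
  have hpart : blockPart (principalBlock M G) (indFun H η.1) 1 =
      (H.index : ℂ) * ((charDegree θ.1 : ℂ) * om η b) := by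
    rw [blockPart_ind_one, ← hη1]
    congr 1
    unfold om
    have := irr_one_ne_zero' η
    field_simp
    rfl
  have hHidx : ¬ p ∣ H.index := fun h => P.not_dvd_index (h.trans (Subgroup.index_dvd_of_le hPH))
  have hpartne : ¬ MemLocalIdeal M (blockPart (principalBlock M G) (indFun H η.1) 1) := by
    rw [hpart]
    intro h
    apply hu
    have h1 : MemLocalRing M ((H.index : ℂ)⁻¹) :=
      (mlr_inv (mlr_natCast _) (not_mli_natCast_of_odd hM hHidx)).2
    have h2 : MemLocalRing M ((charDegree θ.1 : ℂ)⁻¹) :=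
      (mlr_inv (mlr_natCast _) (not_mli_natCast_of_odd hM hdeg)).2
    have h3 : om η b = (charDegree θ.1 : ℂ)⁻¹ * ((H.index : ℂ)⁻¹ *
        ((H.index : ℂ) * ((charDegree θ.1 : ℂ) * om η b))) := by
      have h4 : (H.index : ℂ) ≠ 0 := Nat.cast_ne_zero.2 Subgroup.index_ne_zero_of_finite
      have h5 : (charDegree θ.1 : ℂ) ≠ 0 := by
        intro h0
        apply hdeg
        have : charDegree θ.1 = 0 := by exact_mod_cast h0
        rw [this]
        exact dvd_zero p
      field_simp
    rw [h3]
    exact mli_mul_left (mli_mul_left h h1) h2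
  by_contra hcon
  push Not at hcon
  apply hpartne
  rw [blockPart_eq]
  refine mli_sum _ _ ?_
  intro χ _
  by_cases hχ : χ ∈ principalBlock M G
  · rw [eB_apply_mem hχ, one_mul]
    obtain ⟨m, hm⟩ := classInner_isNat (isCharacter_indFun H (isCharacter_of_irr η.2)) χ
    rw [hm, one_eq_charDegree (isCharacter_of_irr χ.2)]
    by_cases hp2 : p ∣ charDegree χ.1
    · exact mli_mul_left (mli_natCast_of_dvd hM hp2) (mlr_natCast _)
    · have hzero := hcon χ hχ hp2
      have hm0 : m = 0 := by
        by_contra hm0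
        have h1 : classInner (indFun H η.1) χ.1 = classInner η.1 (fun h : H => χ.1 h) :=
          frobenius_reciprocity H η.1 χ.1 (isClassFunction_of_isCharacter (isCharacter_of_irr χ.2))
        rw [hm] at h1
        have h2 : classInner (fun h : H => χ.1 h) η.1 = m := by
          rw [← classInner_comm_conj, ← h1]
          simp
        have hX : IsCharacter H (fun h : H => χ.1 h) :=
          isCharacter_restrict H (isCharacter_of_irr χ.2)
        let i : N →* H := Subgroup.inclusion hNH
        haveI : Fintype (IrrCharacter H) := Fintype.ofFinite _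
        have hθc : IsCharacter N θ.1 := isCharacter_of_irr θ.2
        choose a ha using fun ψ : IrrCharacter H => classInner_isNat hX ψ
        choose b hb using fun ψ : IrrCharacter H =>
          classInner_isCharacter_nat (isCharacter_comp i (isCharacter_of_irr ψ.2)) hθc
        obtain ⟨c, hc⟩ := classInner_isCharacter_nat (isCharacter_comp i hX) hθc
        have hle := H06.inner_comp_ge i hX hθc {η} a b c ha hb hc
        have ham : a η = m := by
          have := ha η
          rw [h2] at this
          exact_mod_cast this.symm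
        have hbη : b η = 1 := by
          have h3 := hb η
          have h4 : ((η : H → ℂ) ∘ i) = θ.1 := by
            funext n
            exact hη n
          rw [h4, H06.classInner_irr_self θ.2] at h3
          exact_mod_cast h3.symm
        rw [Finset.sum_singleton, ham, hbη, mul_one] at hle
        have hc0 : c ≠ 0 := by omega
        have hne : classInner ((fun h : H => χ.1 h) ∘ i) θ.1 ≠ 0 := by
          rw [hc]
          exact_mod_cast hc0
        have hne2 := (inner_ne_iff _ _).1 hne
        apply hne2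
        exact hzero
      rw [hm0]
      simp only [Nat.cast_zero, zero_mul]
      exact (locI M).zero_mem
  · rw [eB_apply_not_mem hχ, zero_mul]
    exact (locI M).zero_mem

end Main

end Cfsg.Agent.H21
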