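import Cfsg.Agent.Lib.H23.FSign

/-!
# A real irreducible character of odd degree has Frobenius-Schur indicator one
-/

set_option autoImplicit false
set_option linter.unusedSectionVars false
set_option linter.style.haveILetI false
set_option linter.unusedSimpArgs false

namespace Cfsg.Agent.H21

open Cfsg Cfsg.Agent.H23 Cfsg.Agent.H06
open scoped ComplexConjugate

universe u

variable {G : Type u} [Group G] [Fintype G]

/-- If the indicator is `-1`, the degree is even. -/
theorem even_of_fsInd_neg (χ : IrrCharacter G) (hχr : ∀ g, conj (χ.1 g) = χ.1 g)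
    (hneg : fsInd χ.1 = -1) : Even (charDegree χ.1) := by
  classical
  haveI : Fintype (IrrCharacter G) := Fintype.ofFinite _
  have hGne : (Nat.card G : ℂ) ≠ 0 := by exact_mod_cast Nat.card_pos.ne'
  have hχnorm : classInner χ.1 χ.1 = 1 := classInner_self_irr χ
  have hdeg := one_eq_charDegree (isCharacter_of_irr χ.2)
  obtain ⟨χ', n, ρ, hρ, rfl⟩ := χ
  simp only at hχr hneg hχnorm hdeg
  set A := repMat ρ with hA
  have hAmul : ∀ h k : G, A (h * k) = A h * A k := repMat_mul ρ
  let P : Module.End ℂ (Matrix (Fin n) (Fin n) ℂ) := mAvg A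
  let τ : Module.End ℂ (Matrix (Fin n) (Fin n) ℂ) := transposeL
  have hτ : τ * τ = 1 := transpose_transpose_L
  have hτP : τ * P = P * τ := mAvg_comm A
  have hPP : P * P = P := mAvg_idem hAmul
  let Q : Module.End ℂ (Matrix (Fin n) (Fin n) ℂ) := (1/2 : ℂ) • (P + (-1 : ℂ) • (τ * P))
  have hQ : IsIdempotentElem Q := idem_half_aux P τ hτ hτP hPP (-1) (by norm_num)
  have htP : LinearMap.trace ℂ _ P = 1 := by
    rw [trace_mAvg, ← hχnorm, classInner]
    congr 1
    refine Finset.sum_congr rfl fun g _ => ?_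
    rw [hχr g, repMat_trace, sq]
  have htτP : LinearMap.trace ℂ _ (τ * P) = -1 := by
    change LinearMap.trace ℂ _ ((transposeL : Module.End ℂ _) * mAvg A) = -1
    rw [trace_transpose_mAvg hAmul, ← hneg, fsInd]
    congr 1
    exact Finset.sum_congr rfl fun g _ => repMat_trace ρ _
  have htQ : LinearMap.trace ℂ _ Q = 1 := by
    simp only [Q]
    rw [map_smul, map_add, map_smul, htP, htτP, smul_eq_mul, smul_eq_mul]
    norm_num
  have hQne : Q ≠ 0 := by
    intro h0
    rw [h0, map_zero] at htQ
    exact zero_ne_one htQ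
  obtain ⟨X₀, hX₀⟩ : ∃ X₀, Q X₀ ≠ 0 := by
    by_contra hc
    push Not at hc
    exact hQne (LinearMap.ext hc)
  set X := Q X₀ with hX
  have hSP : ∀ g : G, (sandwichL (A g) : Module.End ℂ _) * P = P := sandwich_mAvg hAmul
  have hSQ : ∀ g : G, (sandwichL (A g) : Module.End ℂ _) * Q = Q := by
    intro g
    simp only [Q]
    rw [mul_smul_comm, mul_add, mul_smul_comm, hSP]
    congr 3
    have h1 : (sandwichL (A g) : Module.End ℂ _) * τ = τ * sandwichL (A g) :=
      (transpose_sandwich_comm (A g)).symm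
    rw [← mul_assoc, h1, mul_assoc, hSP]
  have hXinv : ∀ g : G, A g * X * (A g).transpose = X := by
    intro g
    have h1 := congrArg (fun f : Module.End ℂ _ => f X₀) (hSQ g)
    exact h1
  have hτQ : τ * Q = (-1 : ℂ) • Q := by
    simp only [Q]
    rw [mul_smul_comm, mul_add, mul_smul_comm, ← mul_assoc τ τ P, hτ, one_mul, smul_comm]
    congr 1
    rw [smul_add, smul_smul]
    norm_num
    rw [add_comm]
    exact congrArg (· + τ * P) (alg_neg_one_smul (R := Module.End ℂ (Matrix (Fin n) (Fin n) ℂ)) _)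
  have hXT : X.transpose = (-1 : ℂ) • X := by
    have h1 := congrArg (fun f : Module.End ℂ _ => f X₀) hτQ
    exact h1
  -- intertwining
  have hAX : ∀ g : G, A g * X = X * (A g⁻¹).transpose := by
    intro g
    have h1 : (A g).transpose * (A g⁻¹).transpose = 1 := by
      rw [← Matrix.transpose_mul, ← hAmul, inv_mul_cancel, hA, repMat_one, Matrix.transpose_one]
    calc A g * X = (A g * X * (A g).transpose) * (A g⁻¹).transpose := by
          rw [mul_assoc (A g * X), h1, mul_one]
      _ = X * (A g⁻¹).transpose := by rw [hXinv g]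
  have hinv : ∀ k : G, A k * A k⁻¹ = 1 := fun k => by
    rw [← hAmul, mul_inv_cancel, hA, repMat_one]
  have hinv' : ∀ k : G, A k⁻¹ * A k = 1 := fun k => by
    rw [← hAmul, inv_mul_cancel, hA, repMat_one]
  -- a nonzero entry
  obtain ⟨i, j, hij⟩ : ∃ i j, X i j ≠ 0 := by
    by_contra hc
    push Not at hc
    exact hX₀ (Matrix.ext hc)
  let Y : Matrix (Fin n) (Fin n) ℂ := Matrix.single j i 1
  have htrXY : (X * Y).trace = X i j := by
    simp only [Y, Matrix.trace, Matrix.mul_apply, Matrix.diag_apply, Matrix.single_apply]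
    rw [Finset.sum_eq_single i, Finset.sum_eq_single j]
    · simp
    · intro b _ hb
      simp [hb.symm]
    · intro h; exact absurd (Finset.mem_univ _) h
    · intro b _ hb
      refine Finset.sum_eq_zero fun c _ => ?_
      simp [hb.symm]
    · intro h; exact absurd (Finset.mem_univ _) h
  let T : Matrix (Fin n) (Fin n) ℂ := ∑ g : G, A g * (X * Y) * A g⁻¹
  have hT : ∀ k, T * repMat ρ k = repMat ρ k * T := by
    intro k
    simp only [T]
    rw [Finset.sum_mul, Finset.mul_sum]
    refine Fintype.sum_equiv (Equiv.mulLeft k⁻¹) _ _ fun g => ?_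
    simp only [Equiv.coe_mulLeft, ← hA]
    rw [show (k⁻¹ * g)⁻¹ = g⁻¹ * k by group, hAmul k⁻¹ g, hAmul g⁻¹ k]
    simp only [mul_assoc]
    rw [← mul_assoc (A k), hinv, one_mul]
  obtain ⟨κ, hκ⟩ := schur_matrix ρ hρ T hT
  have htrT : T.trace = (Nat.card G : ℂ) * X i j := by
    simp only [T]
    rw [Matrix.trace_sum]
    have h1 : ∀ g : G, (A g * (X * Y) * A g⁻¹).trace = X i j := by
      intro g
      rw [Matrix.trace_mul_comm, ← mul_assoc, hinv', one_mul, htrXY]
    simp only [h1, Finset.sum_const, Finset.card_univ, nsmul_eq_mul]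
    rw [Nat.card_eq_fintype_card]
  have hκ0 : κ ≠ 0 := by
    rintro rfl
    rw [hκ, zero_smul, Matrix.trace_zero] at htrT
    exact mul_ne_zero hGne hij htrT.symm
  -- `X` has a right inverse
  let Z : Matrix (Fin n) (Fin n) ℂ := ∑ g : G, (A g⁻¹).transpose * Y * A g⁻¹
  have hXZ : X * Z = κ • 1 := by
    rw [← hκ]
    simp only [T, Z]
    rw [Finset.mul_sum]
    refine Finset.sum_congr rfl fun g _ => ?_
    rw [← mul_assoc (A g) X Y, hAX]
    simp only [mul_assoc]
  have hdet : X.det ≠ 0 := by
    intro h0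
    have h1 := congrArg Matrix.det hXZ
    rw [Matrix.det_mul, h0, zero_mul, Matrix.det_smul, Matrix.det_one, mul_one] at h1
    exact pow_ne_zero _ hκ0 h1.symm
  have h2 : X.det = (-1) ^ Fintype.card (Fin n) * X.det := by
    conv_lhs => rw [← Matrix.det_transpose, hXT, Matrix.det_smul]
  have h3 : ((-1 : ℂ)) ^ n = 1 := by
    rw [Fintype.card_fin] at h2
    exact (mul_right_cancel₀ hdet (by rw [one_mul]; exact h2)).symm
  have h4 : Even n := by
    by_contra hodd
    rw [Nat.not_even_iff_odd] at hodd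
    rw [hodd.neg_one_pow] at h3
    norm_num at h3
  have h5 : (charDegree ρ.character : ℂ) = n := by
    rw [← hdeg]
    show ρ.character 1 = n
    have := repMat_trace ρ 1
    rw [← this, repMat_one]
    simp
  have h6 : charDegree ρ.character = n := by exact_mod_cast h5
  simp only
  rw [h6]
  exact h4

theorem fsInd_eq_one_of_odd (χ : IrrCharacter G) (hχr : ∀ g, conj (χ.1 g) = χ.1 g)
    (hodd : Odd (charDegree χ.1)) : fsInd χ.1 = 1 := by
  haveI : Fintype (IrrCharacter G) := Fintype.ofFinite _
  rcases fsInd_of_real χ hχr with h | h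
  · exact h
  · exact absurd (even_of_fsInd_neg χ hχr h) (Nat.not_even_iff_odd.mpr hodd)

end Cfsg.Agent.H21
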