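import Cfsg.Agent.Lib.H21.PairDefect

/-!
# Brauer's First Main Theorem
-/

set_option autoImplicit false
set_option linter.unusedSectionVars false
set_option linter.style.haveILetI false
set_option linter.unusedSimpArgs false

namespace Cfsg.Agent.H21

open scoped ComplexConjugate
open Cfsg Module Cfsg.Agent.H22

universe u

variable {G : Type u} [Group G] [Finite G]
variable {p : ℕ} [hp : Fact p.Prime] {M : Ideal AlgInt} [hMp : M.IsPrime]

/-- Characters covering the same block of a normal subgroup outside which all central characters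
vanish modulo the ideal lie in the same block. -/
theorem sameBlock_of_cover {K : Type*} [Group K] [Finite K] {N : Subgroup K} [hN : N.Normal]
    (hout : ∀ g, g ∉ N → ∀ χ : IrrCharacter K, MemLocalIdeal M (cc g χ))
    {χ χ' : IrrCharacter K} {θ θ' : IrrCharacter N}
    (h : ∑ n : N, conj (θ.1 n) * χ.1 n ≠ 0) (h' : ∑ n : N, conj (θ'.1 n) * χ'.1 n ≠ 0)
    (hs : SameBlock M θ.1 θ'.1) : SameBlock M χ.1 χ'.1 := by
  intro g
  by_cases hg : g ∈ N
  · have h1 := cc_eq_indCC χ θ h ⟨g, hg⟩
    have h2 := cc_eq_indCC χ' θ' h' ⟨g, hg⟩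
    have h3 := indCC_congr (M := M) hs g
    show MemLocalIdeal M (cc g χ - cc g χ')
    rw [show cc g χ = cc ((⟨g, hg⟩ : N) : K) χ from rfl, h1,
      show cc g χ' = cc ((⟨g, hg⟩ : N) : K) χ' from rfl, h2]
    exact h3
  · exact mli_sub (hout g hg χ) (hout g hg χ')

section Main

variable {D : Subgroup G}

/-- The top property for a defect class of a block of `N_G(D)` with defect group `D`. -/
theorem isTop_of_defect_normalizer {y : Subgroup.normalizer (D : Set G)}
    (T : Sylow p (Subgroup.centralizer ({y} : Set (Subgroup.normalizer (D : Set G)))))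
    (hT : D.subgroupOf (Subgroup.normalizer (D : Set G)) =
      (T : Subgroup (Subgroup.centralizer ({y} : Set (Subgroup.normalizer (D : Set G))))).map
        (Subgroup.centralizer ({y} : Set (Subgroup.normalizer (D : Set G)))).subtype) :
    IsTop p D (y : G) := by
  have hDN : D ≤ Subgroup.normalizer (D : Set G) := Subgroup.le_normalizer
  have hleC : D.subgroupOf (Subgroup.normalizer (D : Set G)) ≤
      Subgroup.centralizer ({y} : Set (Subgroup.normalizer (D : Set G))) := by
    rw [hT]
    rintro _ ⟨u, -, rfl⟩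
    exact u.2
  refine ⟨?_, fun S hS hDS hSC => ?_⟩
  · rw [Subgroup.mem_centralizer_iff]
    intro d hd
    have h1 : (⟨d, hDN hd⟩ : Subgroup.normalizer (D : Set G)) ∈ D.subgroupOf (Subgroup.normalizer (D : Set G)) := by
      rw [Subgroup.mem_subgroupOf]
      exact hd
    have h2 := hleC h1
    rw [Subgroup.mem_centralizer_singleton_iff] at h2
    exact (congrArg Subtype.val h2)
  · by_contra hne
    have hlt : D < S := lt_of_le_of_ne hDS (Ne.symm hne)
    have h1 : D < S ⊓ Subgroup.normalizer (D : Set G) := lt_inf_normalizer hS hlt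
    let U : Subgroup (Subgroup.normalizer (D : Set G)) :=
      (S ⊓ Subgroup.normalizer (D : Set G)).subgroupOf (Subgroup.normalizer (D : Set G))
    have hUp : IsPGroup p U := (hS.to_le inf_le_left).comap_subtype
    have hle1 : (T : Subgroup (Subgroup.centralizer ({y} : Set (Subgroup.normalizer (D : Set G))))).map
        (Subgroup.centralizer ({y} : Set (Subgroup.normalizer (D : Set G)))).subtype ≤ U := by
      rw [← hT]
      intro x hx
      rw [Subgroup.mem_subgroupOf] at hx
      simp only [U, Subgroup.mem_subgroupOf]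
      exact h1.le hx
    have hUC : U ≤ Subgroup.centralizer ({y} : Set (Subgroup.normalizer (D : Set G))) := by
      intro x hx
      simp only [U, Subgroup.mem_subgroupOf] at hx
      have h2 := hSC hx.1
      rw [Subgroup.mem_centralizer_singleton_iff] at h2 ⊢
      exact Subtype.ext h2
    have h3 := map_sylow_maximal _ T U hUp hle1 hUC
    rw [← hT] at h3
    obtain ⟨s, hs, hsD⟩ := SetLike.exists_of_lt h1
    have hsU : (⟨s, hs.2⟩ : Subgroup.normalizer (D : Set G)) ∈ U := by
      simp only [U, Subgroup.mem_subgroupOf]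
      exact hs
    rw [h3, Subgroup.mem_subgroupOf] at hsU
    exact hsD hsU

/-- The Brauer central character at a top element is the central character. -/
theorem brauerCC_top (hD : IsPGroup p D) (ξ : IrrCharacter (Subgroup.normalizer (D : Set G)))
    {y : Subgroup.normalizer (D : Set G)} (hy : IsTop p D (y : G)) :
    brauerCentralChar D (Subgroup.normalizer (D : Set G)) ξ.1 y = cc y ξ := by
  classical
  rw [brauerCC_eq_sum, ← om_classIndicator]
  unfold om
  rw [Finset.mul_sum]
  refine Finset.sum_congr rfl fun h _ => ?_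
  have hiff : (IsConj (y : G) (h : G) ∧ (h : G) ∈ Subgroup.centralizer (D : Set G)) ↔ IsConj h y := by
    constructor
    · rintro ⟨h1, h2⟩
      have h3 := top_of_conj hD hy h2 h1.symm
      obtain ⟨n, hn, hn2⟩ := top_conj hD hy h3 h1
      rw [isConj_comm, isConj_iff]
      refine ⟨⟨n, hn⟩, Subtype.ext ?_⟩
      exact hn2
    · intro h1
      have h2 : IsConj (y : G) (h : G) := by
        obtain ⟨n, hn⟩ := isConj_iff.mp h1
        rw [isConj_comm, isConj_iff]
        refine ⟨n, ?_⟩
        exact congrArg Subtype.val hn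
      refine ⟨h2, ?_⟩
      obtain ⟨n, hn⟩ := isConj_iff.mp h1.symm
      have h3 := (conj_mem_centralizer_iff (P := D) (H := Subgroup.normalizer (D : Set G)) le_rfl n y).mpr hy.1
      have h4 : (h : G) = (n : G) * (y : G) * (n : G)⁻¹ := (congrArg Subtype.val hn).symm
      rw [h4]
      exact h3
  unfold classIndicator
  by_cases h5 : IsConj h y
  · rw [if_pos (hiff.mpr h5), if_pos h5]
    ring
  · rw [if_neg (fun h6 => h5 (hiff.mp h6)), if_neg h5]
    ring

/-- **First Main Theorem, part (i).** -/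
theorem first_main_one (hM : IsPModular p M) (hD : IsPGroup p D)
    {b : Set (IrrCharacter (Subgroup.normalizer (D : Set G)))} (hb : IsPBlock M b)
    (hdb : IsDefectGroup p M b (D.subgroupOf (Subgroup.normalizer (D : Set G)))) :
    ∃ B : Set (IrrCharacter G), IsPBlock M B ∧ IsDefectGroup p M B D ∧
      IsInducedBlock M (Subgroup.normalizer (D : Set G)) b B := by
  classical
  have hDN : D ≤ Subgroup.normalizer (D : Set G) := Subgroup.le_normalizer
  have hCN : Subgroup.centralizer (D : Set G) ≤ Subgroup.normalizer (D : Set G) :=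
    Subgroup.centralizer_le_normalizer _
  obtain ⟨B, hind⟩ := exists_induced_between hCN hM hD hDN le_rfl hb
  refine ⟨B, hind.2.1, ?_, hind⟩
  have hB := hind.2.1
  obtain ⟨E, hE, hle⟩ := induced_defect_le hM hind hdb
  have hmapD : (D.subgroupOf (Subgroup.normalizer (D : Set G))).map
      (Subgroup.normalizer (D : Set G)).subtype = D := Subgroup.map_subgroupOf_eq_of_le hDN
  rw [hmapD] at hle
  obtain ⟨y, hy, T, hT⟩ := hdb
  have hTop := isTop_of_defect_normalizer T hT
  obtain ⟨ξ, hξ⟩ := block_nonempty hb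
  obtain ⟨χ, hχ⟩ := block_nonempty hB
  have h1 := hind.2.2 ξ hξ χ hχ (y : G)
  have h2 := brauerCC_congr hM hD hDN le_rfl ξ (y : G)
  rw [brauerCC_top hD ξ hTop] at h2
  have h3 : ¬ MemLocalIdeal M (cc (y : G) χ) := by
    intro h4
    apply hy.2.2 ξ hξ
    have h1' : MemLocalIdeal M (inducedCentralChar (Subgroup.normalizer (D : Set G)) ξ.1 (y : G) - cc (y : G) χ) := h1
    have h5 := mli_add (mli_sub h1' h2) h4
    have h7 : inducedCentralChar (Subgroup.normalizer (D : Set G)) ξ.1 (y : G) - cc (y : G) χ -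
        (inducedCentralChar (Subgroup.normalizer (D : Set G)) ξ.1 (y : G) - cc y ξ) + cc (y : G) χ = cc y ξ := by
      ring
    rwa [h7] at h5
  have hleC : D ≤ Subgroup.centralizer ({(y : G)} : Set G) :=
    le_centralizer_singleton_iff.mpr hTop.1
  have h4 := subConj_of_cc hM hB hE hχ h3 hD hleC (fun U hU hDU hUC => hTop.2 U hU hDU hUC)
  have hcard : Nat.card D = Nat.card E := le_antisymm (Subgroup.card_le_of_le hle) (by
    obtain ⟨x, hx⟩ := h4
    have h5 : E.map (MulAut.conj x).toMonoidHom ≤ D := by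
      rintro _ ⟨s, hs, rfl⟩
      exact hx s hs
    have h6 := Subgroup.card_le_of_le h5
    rwa [Subgroup.card_map_of_injective (MulEquiv.injective _)] at h6)
  have : E = D := (Subgroup.eq_of_le_of_card_ge hle hcard.ge).symm
  rw [← this]
  exact hE

/-- **First Main Theorem, part (ii): existence.** -/
theorem first_main_two (hM : IsPModular p M) {B : Set (IrrCharacter G)} (hB : IsPBlock M B)
    (hD : IsDefectGroup p M B D) :
    ∃! b : Set (IrrCharacter (Subgroup.normalizer (D : Set G))), IsPBlock M b ∧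
      IsDefectGroup p M b (D.subgroupOf (Subgroup.normalizer (D : Set G))) ∧
      IsInducedBlock M (Subgroup.normalizer (D : Set G)) b B := by
  classical
  have hDp : IsPGroup p D := defect_isPGroup hD
  have hDN : D ≤ Subgroup.normalizer (D : Set G) := Subgroup.le_normalizer
  have hCN : Subgroup.centralizer (D : Set G) ≤ Subgroup.normalizer (D : Set G) :=
    Subgroup.centralizer_le_normalizer _
  obtain ⟨e, hmax⟩ := exists_maximal_on_defect hM hD hB
  have hPb := isBrauerPairOf_iff.mp hmax.1
  obtain ⟨ξ₀, hξ₀⟩ := block_nonempty hPb.1.2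
  let φ := Subgroup.subgroupOfEquivOfLe hCN
  have hNn : ((Subgroup.centralizer (D : Set G)).subgroupOf (Subgroup.normalizer (D : Set G))).Normal := by
    constructor
    intro n hn g
    rw [Subgroup.mem_subgroupOf] at hn ⊢
    exact (conj_mem_centralizer_iff (P := D) le_rfl g n).mpr hn
  haveI := hNn
  obtain ⟨ξ, hξ⟩ := exists_above (irrMap φ.symm ξ₀)
  have hφ : irrMap φ (irrMap φ.symm ξ₀) ∈ brSet M D (blockCoeff B) := by
    rw [irrMap_irrMap_symm]
    exact hPb.2.2 hξ₀
  have hind := induced_of_above hCN hM hDp hDN le_rfl ξ (irrMap φ.symm ξ₀) hξ hB hφ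
  have hbb : IsPBlock M (blockOf M ξ.1) := isBlock_blockOf ξ
  -- a defect group
  have hdef : ∀ {b : Set (IrrCharacter (Subgroup.normalizer (D : Set G)))},
      IsInducedBlock M (Subgroup.normalizer (D : Set G)) b B →
      IsDefectGroup p M b (D.subgroupOf (Subgroup.normalizer (D : Set G))) := by
    intro b hindb
    obtain ⟨Db, hDb⟩ := isDefectGroup_exists (p := p) hindb.1
    obtain ⟨E, hE, hle⟩ := induced_defect_le hM hindb hDb
    haveI hn := normal_subgroupOf_of_le_normalizer (P := D) (H := Subgroup.normalizer (D : Set G)) le_rfl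
    have h1 : D.subgroupOf (Subgroup.normalizer (D : Set G)) ≤ Db :=
      (Cfsg.Agent.H01.le_pCore hn hDp.comap_subtype).trans (pCore_le_defect hM hindb.1 hDb)
    have hcE := card_defect_eq hM hB hE hD
    have hc1 : Nat.card Db ≤ Nat.card D := by
      have h2 := Subgroup.card_le_of_le hle
      rw [Subgroup.card_map_of_injective (Subgroup.subtype_injective _), hcE] at h2
      exact h2
    have hc2 : Nat.card (D.subgroupOf (Subgroup.normalizer (D : Set G))) = Nat.card D := by
      rw [← Subgroup.card_map_of_injective (Subgroup.subtype_injective (Subgroup.normalizer (D : Set G))),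
        Subgroup.map_subgroupOf_eq_of_le hDN]
    have h3 : D.subgroupOf (Subgroup.normalizer (D : Set G)) = Db :=
      Subgroup.eq_of_le_of_card_ge h1 (by rw [hc2]; exact hc1)
    rw [h3]
    exact hDb
  refine ⟨blockOf M ξ.1, ⟨hbb, hdef hind, hind⟩, ?_⟩
  rintro b' ⟨hb', -, hind'⟩
  -- uniqueness
  obtain ⟨ξ', hξ'⟩ := block_nonempty hb'
  obtain ⟨θ', hθ'⟩ := exists_constituent ((Subgroup.centralizer (D : Set G)).subgroupOf (Subgroup.normalizer (D : Set G))) ξ'
  obtain ⟨⟨B', hBF⟩, hB1, -⟩ := existsUnique_block_of_char hM hDp (irrMap φ θ')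
  have hB' : IsPBlock M B' := mem_blocksF.mp hBF
  have hind'' := induced_of_above hCN hM hDp hDN le_rfl ξ' θ' hθ' hB' hB1
  rw [← block_eq_of_mem hb' hξ'] at hind''
  have hBB : B' = B := induced_unique hind'' hind'
  subst hBB
  have he' : IsBrauerPairOf p M B' D (blockOf M (irrMap φ θ').1) := by
    rw [isBrauerPairOf_iff]
    refine ⟨⟨hDp, isBlock_blockOf _⟩, hB', ?_⟩
    exact block_subset_brSet (blockCoeff_Ad _ _) (blockCoeff_mlr hB') (isBlock_blockOf _)
      (self_mem_blockOf _) hB1
  obtain ⟨n, hn, hconj⟩ := exists_conj_of_maximal hM hmax he'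
  have hmem : irrMap φ θ' ∈ irrMap (phiK _ (normalizer_le_normalizer_centralizer D hn)) '' e := by
    rw [← hconj]
    exact self_mem_blockOf _
  obtain ⟨ξ₁, hξ₁, hξ₁2⟩ := hmem
  -- the conjugate constituent
  let t : Subgroup.normalizer (D : Set G) := ⟨n, hn⟩
  have hθ₁ := const_of_conj (χ := ξ') (θ := θ') t hθ'
  have hval : irrMap φ (conjIrr _ t θ') = ξ₁ := by
    apply Subtype.ext
    funext c
    have h1 : ∀ k, θ'.1 k = (irrMap φ θ').1 (φ k) := fun k => (irrMap_apply' φ θ' k).symm
    rw [irrMap_apply, conjIrr_apply, h1, ← hξ₁2, irrMap_apply]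
    refine congrArg ξ₁.1 (Subtype.ext ?_)
    show (n⁻¹ * (n * (c : G) * n⁻¹) * n) = c
    group
  have hsame : SameBlock M (irrMap φ.symm ξ₀).1 (conjIrr _ t θ').1 := by
    have h2 : SameBlock M ξ₀.1 ξ₁.1 := block_sameBlock hPb.1.2 hξ₀ hξ₁
    rw [← hval] at h2
    have h3 := sameBlock_irrMap (M := M) φ.symm h2
    rwa [irrMap_symm_irrMap] at h3
  have hfin : SameBlock M ξ.1 ξ'.1 := by
    refine sameBlock_of_cover (fun g hg χ => ?_) hξ hθ₁ hsame
    refine cc_mli_H hM hDp hDN le_rfl ?_ χ
    intro hc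
    apply hg
    rw [Subgroup.mem_subgroupOf]
    exact hc
  have hmem2 : ξ' ∈ blockOf M ξ.1 := hfin
  rw [block_eq_of_mem hb' hξ', ← block_eq_of_mem hbb hmem2]

end Main

section Between2

variable {P H : Subgroup G}

theorem normal_centralizer_subgroupOf (hHN : H ≤ Subgroup.normalizer (P : Set G)) :
    ((Subgroup.centralizer (P : Set G)).subgroupOf H).Normal := by
  constructor
  intro n hn g
  rw [Subgroup.mem_subgroupOf] at hn ⊢
  exact (conj_mem_centralizer_iff hHN g n).mpr hn

/-- A constituent on `C_G(P)` of a character in an inducing block lies in the Brauer set. -/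
theorem const_mem_brSet (hCH : Subgroup.centralizer (P : Set G) ≤ H) (hM : IsPModular p M)
    (hP : IsPGroup p P) (hPH : P ≤ H) (hHN : H ≤ Subgroup.normalizer (P : Set G))
    {b : Set (IrrCharacter H)} {B : Set (IrrCharacter G)} (hind : IsInducedBlock M H b B)
    {ξ : IrrCharacter H} (hξ : ξ ∈ b) {θ : IrrCharacter ((Subgroup.centralizer (P : Set G)).subgroupOf H)}
    (hne : ∑ n : (Subgroup.centralizer (P : Set G)).subgroupOf H, conj (θ.1 n) * ξ.1 n ≠ 0) :
    irrMap (Subgroup.subgroupOfEquivOfLe hCH) θ ∈ brSet M P (blockCoeff B) := by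
  classical
  obtain ⟨⟨B', hBF⟩, hB1, -⟩ := existsUnique_block_of_char hM hP (irrMap (Subgroup.subgroupOfEquivOfLe hCH) θ)
  have hB' : IsPBlock M B' := mem_blocksF.mp hBF
  have hind' := induced_of_above hCH hM hP hPH hHN ξ θ hne hB' hB1
  rw [← block_eq_of_mem hind.1 hξ] at hind'
  have hBB : B' = B := induced_unique hind' hind
  subst hBB
  exact hB1

/-- A block of `H` inducing `B` with defect group `P` has `P` as a defect group. -/
theorem defect_of_induced_between (hM : IsPModular p M) (hP : IsPGroup p P) (hPH : P ≤ H)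
    (hHN : H ≤ Subgroup.normalizer (P : Set G)) {b : Set (IrrCharacter H)} {B : Set (IrrCharacter G)}
    (hind : IsInducedBlock M H b B) (hD : IsDefectGroup p M B P) :
    IsDefectGroup p M b (P.subgroupOf H) := by
  classical
  obtain ⟨Db, hDb⟩ := isDefectGroup_exists (p := p) hind.1
  obtain ⟨E, hE, hle⟩ := induced_defect_le hM hind hDb
  haveI hn := normal_subgroupOf_of_le_normalizer (P := P) (H := H) hHN
  have h1 : P.subgroupOf H ≤ Db :=
    (Cfsg.Agent.H01.le_pCore hn hP.comap_subtype).trans (pCore_le_defect hM hind.1 hDb)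
  have hcE := card_defect_eq hM hind.2.1 hE hD
  have hc1 : Nat.card Db ≤ Nat.card P := by
    have h2 := Subgroup.card_le_of_le hle
    rw [Subgroup.card_map_of_injective (Subgroup.subtype_injective _), hcE] at h2
    exact h2
  have hc2 : Nat.card (P.subgroupOf H) = Nat.card P := by
    rw [← Subgroup.card_map_of_injective (Subgroup.subtype_injective H),
      Subgroup.map_subgroupOf_eq_of_le hPH]
  have h3 : P.subgroupOf H = Db :=
    Subgroup.eq_of_le_of_card_ge h1 (by rw [hc2]; exact hc1)
  rw [h3]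
  exact hDb

/-- Existence of a block of `H` inducing `B` with defect group `P`. -/
theorem exists_block_between (hCH : Subgroup.centralizer (P : Set G) ≤ H) (hM : IsPModular p M)
    (hP : IsPGroup p P) (hPH : P ≤ H) (hHN : H ≤ Subgroup.normalizer (P : Set G))
    {B : Set (IrrCharacter G)} (hB : IsPBlock M B) (hD : IsDefectGroup p M B P) :
    ∃ b : Set (IrrCharacter H), IsDefectGroup p M b (P.subgroupOf H) ∧ IsInducedBlock M H b B := by
  have h1 : ∃ b : Set (IrrCharacter H), IsInducedBlock M H b B :=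
    (induced_between_iff hCH hM hP hPH hHN hB).mpr ⟨P, hD, 1, by
      rintro _ ⟨s, hs, rfl⟩
      simpa using hs⟩
  obtain ⟨b, hb⟩ := h1
  exact ⟨b, defect_of_induced_between hM hP hPH hHN hb hD, hb⟩

/-- Conjugating a character of `H` and a constituent on the centralizer. -/
theorem conj_const (hCH : Subgroup.centralizer (P : Set G) ≤ H)
    {m : G} (hmH : m ∈ Subgroup.normalizer (H : Set G)) (hmP : m ∈ Subgroup.normalizer (P : Set G))
    (hNn : ((Subgroup.centralizer (P : Set G)).subgroupOf H).Normal)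
    (ξ : IrrCharacter H) (θ : IrrCharacter ((Subgroup.centralizer (P : Set G)).subgroupOf H))
    (hne : ∑ n : (Subgroup.centralizer (P : Set G)).subgroupOf H, conj (θ.1 n) * ξ.1 n ≠ 0) :
    ∑ n : (Subgroup.centralizer (P : Set G)).subgroupOf H,
      conj ((irrMap (Subgroup.subgroupOfEquivOfLe hCH).symm
        (irrMap (phiK _ (normalizer_le_normalizer_centralizer P hmP))
          (irrMap (Subgroup.subgroupOfEquivOfLe hCH) θ))).1 n) *
        (irrMap (phiK H hmH) ξ).1 n ≠ 0 := by
  classical
  -- conjugation by `m` on the normal subgroup of `H`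
  let C := Subgroup.centralizer (P : Set G)
  have hC : ∀ n : C.subgroupOf H, m * (((n : H) : G)) * m⁻¹ ∈ H ∧ m * (((n : H) : G)) * m⁻¹ ∈ C := by
    intro n
    refine ⟨(Subgroup.mem_normalizer_iff.mp hmH _).mp (n : H).2, ?_⟩
    exact (Subgroup.mem_normalizer_iff.mp (normalizer_le_normalizer_centralizer P hmP) _).mp
      (Subgroup.mem_subgroupOf.mp n.2)
  have hCi : ∀ n : C.subgroupOf H, m⁻¹ * (((n : H) : G)) * m ∈ H ∧ m⁻¹ * (((n : H) : G)) * m ∈ C := by
    intro n
    have hm1 : m⁻¹ ∈ Subgroup.normalizer (H : Set G) := inv_mem hmH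
    have hm2 : m⁻¹ ∈ Subgroup.normalizer (P : Set G) := inv_mem hmP
    have h1 := (Subgroup.mem_normalizer_iff.mp hm1 ((n : H) : G)).mp (n : H).2
    have h2 := (Subgroup.mem_normalizer_iff.mp (normalizer_le_normalizer_centralizer P hm2) ((n : H) : G)).mp
      (Subgroup.mem_subgroupOf.mp n.2)
    simp only [inv_inv] at h1 h2
    exact ⟨h1, h2⟩
  let e : C.subgroupOf H ≃ C.subgroupOf H :=
    { toFun := fun n => ⟨⟨m * ((n : H) : G) * m⁻¹, (hC n).1⟩, Subgroup.mem_subgroupOf.mpr (hC n).2⟩
      invFun := fun n => ⟨⟨m⁻¹ * ((n : H) : G) * m, (hCi n).1⟩, Subgroup.mem_subgroupOf.mpr (hCi n).2⟩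
      left_inv := fun n => by
        apply Subtype.ext
        apply Subtype.ext
        show m⁻¹ * (m * ((n : H) : G) * m⁻¹) * m = _
        group
      right_inv := fun n => by
        apply Subtype.ext
        apply Subtype.ext
        show m * (m⁻¹ * ((n : H) : G) * m) * m⁻¹ = _
        group }
  rw [← Equiv.sum_comp e]
  have h3 : ∀ n : C.subgroupOf H,
      conj ((irrMap (Subgroup.subgroupOfEquivOfLe hCH).symm
        (irrMap (phiK _ (normalizer_le_normalizer_centralizer P hmP))
          (irrMap (Subgroup.subgroupOfEquivOfLe hCH) θ))).1 (e n)) *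
        (irrMap (phiK H hmH) ξ).1 (e n : H) = conj (θ.1 n) * ξ.1 n := by
    intro n
    congr 1
    · congr 1
      rw [irrMap_apply, irrMap_apply, irrMap_apply]
      refine congrArg θ.1 ?_
      apply Subtype.ext
      apply Subtype.ext
      show m⁻¹ * (m * ((n : H) : G) * m⁻¹) * m = _
      group
    · rw [irrMap_apply]
      refine congrArg ξ.1 ?_
      apply Subtype.ext
      show m⁻¹ * (m * ((n : H) : G) * m⁻¹) * m = _
      group
  simp only [h3]
  exact hne

/-- Two blocks of `H` inducing the same block with defect group `P` are conjugate by `N_G(P)`. -/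
theorem blocks_between_conj (hCH : Subgroup.centralizer (P : Set G) ≤ H) (hM : IsPModular p M)
    (hP : IsPGroup p P) (hPH : P ≤ H) (hHN : H ≤ Subgroup.normalizer (P : Set G))
    (hNH : Subgroup.normalizer (P : Set G) ≤ Subgroup.normalizer (H : Set G))
    {B : Set (IrrCharacter G)} (hD : IsDefectGroup p M B P) {b b' : Set (IrrCharacter H)}
    (hind : IsInducedBlock M H b B) (hind' : IsInducedBlock M H b' B) :
    ∃ n ∈ Subgroup.normalizer (P : Set G), ∀ θ ∈ b, ∃ θ' ∈ b', ∀ (x : H) (hx : n * (x : G) * n⁻¹ ∈ H),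
      θ'.1 x = θ.1 ⟨n * (x : G) * n⁻¹, hx⟩ := by
  classical
  have hB := hind.2.1
  haveI hNn := normal_centralizer_subgroupOf hHN
  obtain ⟨ξ₁, hξ₁⟩ := block_nonempty hind.1
  obtain ⟨ξ₁', hξ₁'⟩ := block_nonempty hind'.1
  obtain ⟨ψ, hψ⟩ := exists_constituent ((Subgroup.centralizer (P : Set G)).subgroupOf H) ξ₁
  obtain ⟨ψ', hψ'⟩ := exists_constituent ((Subgroup.centralizer (P : Set G)).subgroupOf H) ξ₁'
  set φ := Subgroup.subgroupOfEquivOfLe hCH with hφ
  have h1 := const_mem_brSet hCH hM hP hPH hHN hind hξ₁ hψ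
  have h1' := const_mem_brSet hCH hM hP hPH hHN hind' hξ₁' hψ'
  have hpair : ∀ ξ₀ : IrrCharacter (Subgroup.centralizer (P : Set G)), ξ₀ ∈ brSet M P (blockCoeff B) →
      IsBrauerPairOf p M B P (blockOf M ξ₀.1) := by
    intro ξ₀ h0
    rw [isBrauerPairOf_iff]
    refine ⟨⟨hP, isBlock_blockOf _⟩, hB, ?_⟩
    exact block_subset_brSet (blockCoeff_Ad _ _) (blockCoeff_mlr hB) (isBlock_blockOf _)
      (self_mem_blockOf _) h0
  have hmax := maximal_of_defect hM (hpair _ h1) hD
  obtain ⟨m, hm, hconj⟩ := exists_conj_of_maximal hM hmax (hpair _ h1')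
  have hmem : irrMap φ ψ' ∈ irrMap (phiK _ (normalizer_le_normalizer_centralizer P hm)) '' blockOf M (irrMap φ ψ).1 := by
    rw [← hconj]
    exact self_mem_blockOf _
  obtain ⟨ψ₂, hψ₂, hψ₂'⟩ := hmem
  have hmH := hNH hm
  refine ⟨m⁻¹, inv_mem hm, fun θ hθ => ⟨irrMap (phiK H hmH) θ, ?_, fun x hx => ?_⟩⟩
  · have hc := conj_const hCH hmH hm hNn ξ₁ ψ hψ
    have hsψ : SameBlock M (irrMap φ.symm (irrMap (phiK _ (normalizer_le_normalizer_centralizer P hm))
        (irrMap φ ψ))).1 ψ'.1 := by
      rw [← sameBlock_irrMap_iff φ, irrMap_irrMap_symm, ← hψ₂']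
      exact sameBlock_irrMap _ hψ₂
    have h2 : SameBlock M (irrMap (phiK H hmH) ξ₁).1 ξ₁'.1 := by
      refine sameBlock_of_cover (fun g hg χ => ?_) hc hψ' hsψ
      refine cc_mli_H hM hP hPH hHN ?_ χ
      intro hcc
      apply hg
      rw [Subgroup.mem_subgroupOf]
      exact hcc
    have h3 : SameBlock M (irrMap (phiK H hmH) ξ₁).1 (irrMap (phiK H hmH) θ).1 :=
      sameBlock_irrMap _ (block_sameBlock hind.1 hξ₁ hθ)
    rw [block_eq_of_mem hind'.1 hξ₁']
    show SameBlock M ξ₁'.1 (irrMap (phiK H hmH) θ).1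
    exact sameBlock_trans (sameBlock_symm h2) h3
  · rw [irrMap_apply]
    refine congrArg θ.1 (Subtype.ext ?_)
    show m⁻¹ * (x : G) * m = m⁻¹ * (x : G) * m⁻¹⁻¹
    rw [inv_inv]

end Between2

end Cfsg.Agent.H21
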