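import Cfsg.Agent.Lib.H21.Reynolds
import Cfsg.Agent.Lib.H06.CharClifford2

/-!
# The Fong-Reynolds correspondence
-/

set_option autoImplicit false
set_option linter.unusedSectionVars false
set_option linter.style.haveILetI false
set_option linter.unusedSimpArgs false

namespace Cfsg.Agent.H21

open scoped ComplexConjugate
open Cfsg Module Cfsg.Agent.H22

universe u

variable {G : Type u} [Group G] [Finite G]
variable {p : ℕ} [hp : Fact p.Prime] {M : Ideal AlgInt} [hMp : M.IsPrime]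

section FR

variable {N T : Subgroup G} [hN : N.Normal] (hNT : N ≤ T)

/-- `|N|` times the multiplicity of `θ` in the restriction of `ψ` to `N`. -/
noncomputable def cvr (ψ : IrrCharacter T) (θ : IrrCharacter N) : ℂ :=
  ∑ n : N, conj (θ.1 n) * ψ.1 ⟨n, hNT n.2⟩

theorem irr_class_T (ψ : IrrCharacter T) (t : T) (x : T) : ψ.1 (t * x * t⁻¹) = ψ.1 x := by
  have := isClassFunction_of_isCharacter (isCharacter_of_irr ψ.2) x t
  simpa using this

theorem cvr_conj (ψ : IrrCharacter T) (θ : IrrCharacter N) {t : G} (ht : t ∈ T) :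
    cvr hNT ψ (conjIrr N t θ) = cvr hNT ψ θ := by
  unfold cvr
  refine Fintype.sum_equiv (MulAut.conjNormal t).toEquiv _ _ fun n => ?_
  rw [conjIrr_apply]
  have h1 : (((MulAut.conjNormal t).toEquiv n : N) : G) = t * n * t⁻¹ := by
    simp [MulAut.conjNormal_apply]
  have h2 : (⟨t * n * t⁻¹, hN.conj_mem _ n.2 t⟩ : N) = (MulAut.conjNormal t).toEquiv n :=
    Subtype.ext h1.symm
  rw [h2]
  congr 1
  have := irr_class_T ψ ⟨t, ht⟩ ⟨n, hNT n.2⟩
  rw [← this]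
  exact congrArg ψ.1 (Subtype.ext h1.symm)

/-- The copy of `N` in `T`. -/
noncomputable abbrev phiN : N.subgroupOf T ≃* N := Subgroup.subgroupOfEquivOfLe hNT

/-- `θ` as a character of the copy of `N` in `T`. -/
noncomputable abbrev thetaT (θ : IrrCharacter N) : IrrCharacter (N.subgroupOf T) :=
  irrMap (phiN hNT).symm θ

theorem thetaT_apply (θ : IrrCharacter N) (n : N.subgroupOf T) :
    (thetaT hNT θ).1 n = θ.1 ⟨(n : T), Subgroup.mem_subgroupOf.mp n.2⟩ := by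
  unfold thetaT
  rw [irrMap_apply, MulEquiv.symm_symm]
  rfl

theorem sum_thetaT (ψ : IrrCharacter T) (θ : IrrCharacter N) :
    ∑ n : N.subgroupOf T, conj ((thetaT hNT θ).1 n) * ψ.1 n = cvr hNT ψ θ := by
  unfold cvr
  refine Fintype.sum_equiv (phiN hNT).toEquiv _ _ fun n => ?_
  rw [thetaT_apply]
  rfl

theorem thetaT_conj (θ : IrrCharacter N) (t : T) :
    haveI : (N.subgroupOf T).Normal := Subgroup.normal_subgroupOf
    conjIrr (N.subgroupOf T) t (thetaT hNT θ) = thetaT hNT (conjIrr N t θ) := by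
  haveI : (N.subgroupOf T).Normal := Subgroup.normal_subgroupOf
  apply Subtype.ext
  funext n
  rw [conjIrr_apply, thetaT_apply, thetaT_apply, conjIrr_apply]
  rfl

theorem thetaT_injective : Function.Injective (thetaT hNT : IrrCharacter N → _) := by
  intro a b h
  have := congrArg (irrMap (phiN hNT)) h
  unfold thetaT at this
  have h1 := irrMap_symm_irrMap (phiN hNT).symm a
  have h2 := irrMap_symm_irrMap (phiN hNT).symm b
  rw [MulEquiv.symm_symm] at h1 h2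
  rwa [h1, h2] at this

/-- Clifford in `T`: two constituents on `N` are `T`-conjugate. -/
theorem exists_conj_of_cvr {ψ : IrrCharacter T} {θ θ₁ : IrrCharacter N}
    (h : cvr hNT ψ θ ≠ 0) (h₁ : cvr hNT ψ θ₁ ≠ 0) : ∃ t ∈ T, conjIrr N t θ = θ₁ := by
  haveI : (N.subgroupOf T).Normal := Subgroup.normal_subgroupOf
  rw [← sum_thetaT] at h h₁
  have e1 := (const_iff ψ (thetaT hNT θ)).mp h
  have e2 := (const_iff ψ (thetaT hNT θ₁)).mp h₁
  obtain ⟨t, ht⟩ := exists_conj_of_eq (θ₀ := thetaT hNT θ₁) (θ₂ := thetaT hNT θ)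
    (fun n => by rw [← e1 n, ← e2 n])
  refine ⟨t, t.2, thetaT_injective hNT ?_⟩
  rw [← thetaT_conj, ht]

/-- Blocks above `b`: same block. -/
theorem exists_cvr_of_sameBlock {b : Set (IrrCharacter N)} (hb : IsPBlock M b)
    {ψ ψ₂ : IrrCharacter T} (hs : SameBlock M ψ.1 ψ₂.1) {θ : IrrCharacter N} (hθ : θ ∈ b)
    (h : cvr hNT ψ θ ≠ 0) : ∃ θ₂ ∈ b, cvr hNT ψ₂ θ₂ ≠ 0 := by
  haveI : (N.subgroupOf T).Normal := Subgroup.normal_subgroupOf
  rw [← sum_thetaT] at h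
  obtain ⟨θ₂', hθ₂'⟩ := exists_constituent (N.subgroupOf T) ψ₂
  have e1 := (const_iff ψ (thetaT hNT θ)).mp h
  have e2 := (const_iff ψ₂ θ₂').mp hθ₂'
  have hb' : IsPBlock M (irrMap (phiN hNT).symm '' b) := by
    rw [block_eq_of_mem hb hθ, ← blockOf_irrMap]
    exact isBlock_blockOf _
  obtain ⟨t, ht⟩ := exists_conj_mem_of_congr hb' (θ₀ := thetaT hNT θ) (θ₂ := θ₂')
    ⟨θ, hθ, rfl⟩ (fun n => by
      rw [← e1 n, ← e2 n]
      have := hs (n : T)
      have h3 := mli_neg this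
      rwa [neg_sub] at h3)
  obtain ⟨θ₃, hθ₃, hθ₃'⟩ := ht
  refine ⟨θ₃, hθ₃, ?_⟩
  rw [← sum_thetaT]
  have : thetaT hNT θ₃ = conjIrr (N.subgroupOf T) t θ₂' := hθ₃'
  rw [this]
  exact const_of_conj t hθ₂'

variable {b : Set (IrrCharacter N)}

theorem conj_not_mem (hb : IsPBlock M b) (hT : ∀ g : G, g ∈ T ↔ ∀ θ ∈ b, conjIrr N g θ ∈ b)
    {x : G} (hx : x ∉ T) {θ : IrrCharacter N} (hθ : θ ∈ b) : conjIrr N x θ ∉ b := by
  intro h
  apply hx
  rw [hT]
  intro θ' hθ'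
  have h1 : SameBlock M (conjIrr N x θ').1 (conjIrr N x θ).1 :=
    sameBlock_irrMap _ (block_sameBlock hb hθ' hθ)
  rw [block_eq_of_mem hb h]
  exact sameBlock_symm h1

theorem cvr_zero_of_not_mem (hT : ∀ g : G, g ∈ T ↔ ∀ θ ∈ b, conjIrr N g θ ∈ b)
    {ψ : IrrCharacter T} {θ₀ θ₁ : IrrCharacter N} (h0 : θ₀ ∈ b) (hc : cvr hNT ψ θ₀ ≠ 0)
    (h1 : θ₁ ∉ b) : cvr hNT ψ θ₁ = 0 := by
  by_contra h
  obtain ⟨t, ht, rfl⟩ := exists_conj_of_cvr hNT hc h
  exact h1 ((hT t).mp ht θ₀ h0)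

/-- The restriction of `ψ^G` to `N`, on `b`. -/
theorem sum_ind (hb : IsPBlock M b) (hT : ∀ g : G, g ∈ T ↔ ∀ θ ∈ b, conjIrr N g θ ∈ b)
    {ψ : IrrCharacter T} {θ₀ θ : IrrCharacter N} (h0 : θ₀ ∈ b) (hc : cvr hNT ψ θ₀ ≠ 0)
    (hθ : θ ∈ b) : ∑ n : N, conj (θ.1 n) * indFun T ψ.1 (n : G) = cvr hNT ψ θ := by
  classical
  have hTc : (Nat.card T : ℂ) ≠ 0 := card_ne_zero_C
  have hx : ∀ x : G, ∑ n : N, conj (θ.1 n) * extendByZero T ψ.1 (x⁻¹ * (n : G) * x) =
      if x ∈ T then cvr hNT ψ θ else 0 := by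
    intro x
    have hx' : ∑ n : N, conj (θ.1 n) * extendByZero T ψ.1 (x⁻¹ * (n : G) * x) =
        cvr hNT ψ (conjIrr N x θ) := by
      unfold cvr
      symm
      refine Fintype.sum_equiv (MulAut.conjNormal x).toEquiv _ _ fun n => ?_
      rw [conjIrr_apply]
      have h1 : (((MulAut.conjNormal x).toEquiv n : N) : G) = x * n * x⁻¹ := by
        simp [MulAut.conjNormal_apply]
      have h2 : (⟨x * n * x⁻¹, hN.conj_mem _ n.2 x⟩ : N) = (MulAut.conjNormal x).toEquiv n :=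
        Subtype.ext h1.symm
      rw [h2]
      congr 1
      have h3 : x⁻¹ * (((MulAut.conjNormal x).toEquiv n : N) : G) * x = n := by
        rw [h1]; group
      rw [h3]
      exact (extendByZero_coe T ψ.1 ⟨n, hNT n.2⟩).symm
    rw [hx']
    by_cases hxT : x ∈ T
    · rw [if_pos hxT, cvr_conj hNT ψ θ hxT]
    · rw [if_neg hxT]
      exact cvr_zero_of_not_mem hNT hT h0 hc (conj_not_mem hb hT hxT hθ)
  calc ∑ n : N, conj (θ.1 n) * indFun T ψ.1 (n : G)
      = (Nat.card T : ℂ)⁻¹ * ∑ x : G, ∑ n : N, conj (θ.1 n) * extendByZero T ψ.1 (x⁻¹ * (n : G) * x) := by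
        unfold indFun
        rw [Finset.sum_comm, Finset.mul_sum]
        refine Finset.sum_congr rfl fun n _ => ?_
        rw [mul_left_comm, Finset.mul_sum]
    _ = (Nat.card T : ℂ)⁻¹ * ∑ x : G, if x ∈ T then cvr hNT ψ θ else 0 := by
        simp only [hx]
    _ = cvr hNT ψ θ := by
        rw [Finset.sum_ite, Finset.sum_const_zero, add_zero, Finset.sum_const, nsmul_eq_mul]
        have : ((Finset.univ.filter (· ∈ T)).card : ℂ) = (Nat.card T : ℂ) := by
          rw [Nat.card_eq_fintype_card, Fintype.card_subtype]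
        rw [this, inv_mul_cancel_left₀ hTc]

/-- Naturality of the multiplicity on `T`. -/
theorem cvr_nat (ψ : IrrCharacter T) (θ : IrrCharacter N) :
    ∃ e : ℕ, cvr hNT ψ θ = (Nat.card N : ℂ) * e := by
  obtain ⟨e, he⟩ := classInner_isNat (isCharacter_restrict (N.subgroupOf T) (isCharacter_of_irr ψ.2))
    (thetaT hNT θ)
  refine ⟨e, ?_⟩
  rw [← sum_thetaT, ← he]
  unfold classInner
  have hc : Nat.card (N.subgroupOf T) = Nat.card N := Nat.card_congr (phiN hNT).toEquiv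
  rw [hc, ← mul_assoc, mul_inv_cancel₀ card_ne_zero_C, one_mul]
  exact Finset.sum_congr rfl fun _ _ => mul_comm _ _

theorem res_nat (χ : IrrCharacter G) (θ : IrrCharacter N) :
    ∃ m : ℕ, ∑ n : N, conj (θ.1 n) * χ.1 n = (Nat.card N : ℂ) * m := by
  obtain ⟨e, he⟩ := classInner_isNat (isCharacter_restrict N (isCharacter_of_irr χ.2)) θ
  refine ⟨e, ?_⟩
  rw [← he]
  unfold classInner
  rw [← mul_assoc, mul_inv_cancel₀ card_ne_zero_C, one_mul]
  exact Finset.sum_congr rfl fun _ _ => mul_comm _ _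

/-- Expanding the restriction of `χ` to `T`. -/
theorem sum_res_expand (χ : IrrCharacter G) (θ : IrrCharacter N) :
    ∑ n : N, conj (θ.1 n) * χ.1 n =
      ∑ ψ : IrrCharacter T, classInner (fun t : T => χ.1 t) ψ.1 * cvr hNT ψ θ := by
  have hexp := classFunction_expansion (fun t : T => χ.1 t)
    (isClassFunction_of_isCharacter (isCharacter_restrict T (isCharacter_of_irr χ.2)))
  have h1 : ∀ n : N, χ.1 n = ∑ ψ : IrrCharacter T,
      classInner (fun t : T => χ.1 t) ψ.1 * ψ.1 ⟨n, hNT n.2⟩ := by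
    intro n
    have := congrFun hexp ⟨n, hNT n.2⟩
    simpa only [Finset.sum_apply, Pi.smul_apply, smul_eq_mul] using this
  simp only [h1, Finset.mul_sum, cvr]
  rw [Finset.sum_comm]
  exact Finset.sum_congr rfl fun ψ _ => Finset.sum_congr rfl fun n _ => by ring

/-- The multiplicities add up. -/
theorem sum_le_res (χ : IrrCharacter G) (θ : IrrCharacter N) {m : ℕ}
    (hm : ∑ n : N, conj (θ.1 n) * χ.1 n = (Nat.card N : ℂ) * m) {e : IrrCharacter T → ℕ}
    (he : ∀ ψ, cvr hNT ψ θ = (Nat.card N : ℂ) * e ψ) (s : Finset (IrrCharacter T))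
    (hs : ∀ ψ ∈ s, classInner (fun t : T => χ.1 t) ψ.1 ≠ 0) : ∑ ψ ∈ s, e ψ ≤ m := by
  classical
  choose c hc using fun ψ : IrrCharacter T =>
    classInner_isNat (isCharacter_restrict T (isCharacter_of_irr χ.2)) ψ
  have h1 := sum_res_expand hNT χ θ
  simp only [hm, he, hc] at h1
  have hN0 : (Nat.card N : ℂ) ≠ 0 := card_ne_zero_C
  have h2 : (m : ℂ) = ((∑ ψ : IrrCharacter T, c ψ * e ψ : ℕ) : ℂ) := by
    apply mul_left_cancel₀ hN0
    rw [h1]
    push_cast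
    rw [Finset.mul_sum]
    exact Finset.sum_congr rfl fun _ _ => by ring
  have h3 : m = ∑ ψ : IrrCharacter T, c ψ * e ψ := by exact_mod_cast h2
  rw [h3]
  calc ∑ ψ ∈ s, e ψ ≤ ∑ ψ ∈ s, c ψ * e ψ := by
        refine Finset.sum_le_sum fun ψ hψ => ?_
        have : c ψ ≠ 0 := by
          intro h0
          apply hs ψ hψ
          rw [hc, h0]
          simp
        exact Nat.le_mul_of_pos_left _ (Nat.pos_of_ne_zero this)
    _ ≤ _ := Finset.sum_le_sum_of_subset (Finset.subset_univ _)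

/-- `⟨χ|_T, ψ⟩ ≠ 0` from `⟨ψ^G, χ⟩ ≠ 0`. -/
theorem inner_res_of_ind {ψ : IrrCharacter T} {χ : IrrCharacter G}
    (h : classInner (indFun T ψ.1) χ.1 ≠ 0) : classInner (fun t : T => χ.1 t) ψ.1 ≠ 0 := by
  rw [frobenius_reciprocity T _ _ (isClassFunction_of_isCharacter (isCharacter_of_irr χ.2))] at h
  obtain ⟨m, h1, h2⟩ := H06.classInner_char_conj_nat
    (isCharacter_restrict T (isCharacter_of_irr χ.2)) ψ
  rw [h2] at h
  rwa [h1]

theorem inner_ind_of_res {ψ : IrrCharacter T} {χ : IrrCharacter G}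
    (h : classInner (fun t : T => χ.1 t) ψ.1 ≠ 0) : classInner (indFun T ψ.1) χ.1 ≠ 0 := by
  rw [frobenius_reciprocity T _ _ (isClassFunction_of_isCharacter (isCharacter_of_irr χ.2))]
  obtain ⟨m, h1, h2⟩ := H06.classInner_char_conj_nat
    (isCharacter_restrict T (isCharacter_of_irr χ.2)) ψ
  rw [h1] at h
  rwa [h2]

/-- **Irreducibility of induction from the stabilizer.** -/
theorem isIrr_ind (hb : IsPBlock M b) (hT : ∀ g : G, g ∈ T ↔ ∀ θ ∈ b, conjIrr N g θ ∈ b)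
    {ψ : IrrCharacter T} {θ : IrrCharacter N} (hθ : θ ∈ b) (hc : cvr hNT ψ θ ≠ 0) :
    IsIrrCharacter G (indFun T ψ.1) := by
  classical
  have hX : IsCharacter G (indFun T ψ.1) := isCharacter_indFun T (isCharacter_of_irr ψ.2)
  have hexp := classFunction_expansion (indFun T ψ.1) (isClassFunction_of_isCharacter hX)
  choose a ha using fun χ : IrrCharacter G => classInner_isNat hX χ
  choose m hm using fun χ : IrrCharacter G => res_nat χ θ
  choose e he using fun ψ' : IrrCharacter T => cvr_nat hNT ψ' θ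
  have hN0 : (Nat.card N : ℂ) ≠ 0 := card_ne_zero_C
  have hs := sum_ind hNT hb hT hθ hc hθ
  have hval : ∀ n : N, indFun T ψ.1 n = ∑ χ : IrrCharacter G, (a χ : ℂ) * χ.1 n := by
    intro n
    have := congrFun hexp n
    simpa only [Finset.sum_apply, Pi.smul_apply, smul_eq_mul, ha] using this
  have hsum : (e ψ : ℂ) = ((∑ χ : IrrCharacter G, a χ * m χ : ℕ) : ℂ) := by
    apply mul_left_cancel₀ hN0
    rw [← he ψ, ← hs]
    simp only [hval, Finset.mul_sum]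
    rw [Finset.sum_comm]
    push_cast
    rw [Finset.mul_sum]
    refine Finset.sum_congr rfl fun χ _ => ?_
    rw [mul_left_comm, ← hm χ, Finset.mul_sum]
    exact Finset.sum_congr rfl fun _ _ => by ring
  have hsumN : e ψ = ∑ χ : IrrCharacter G, a χ * m χ := by exact_mod_cast hsum
  have he0 : e ψ ≠ 0 := by
    intro h0
    apply hc
    rw [he ψ, h0]
    simp
  have hge : ∀ χ : IrrCharacter G, a χ ≠ 0 → e ψ ≤ m χ := by
    intro χ hχ
    have h1 : classInner (fun t : T => χ.1 t) ψ.1 ≠ 0 := by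
      apply inner_res_of_ind
      rw [ha]
      exact_mod_cast hχ
    have := sum_le_res hNT χ θ (hm χ) he {ψ} (by simpa using h1)
    simpa using this
  have hle : (∑ χ : IrrCharacter G, a χ) * e ψ ≤ e ψ := by
    conv_rhs => rw [hsumN]
    rw [Finset.sum_mul]
    refine Finset.sum_le_sum fun χ _ => ?_
    by_cases h0 : a χ = 0
    · rw [h0]; simp
    · exact Nat.mul_le_mul_left _ (hge χ h0)
  have hle1 : ∑ χ : IrrCharacter G, a χ ≤ 1 := by
    by_contra hcon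
    push Not at hcon
    have : 2 * e ψ ≤ (∑ χ : IrrCharacter G, a χ) * e ψ := Nat.mul_le_mul_right _ hcon
    omega
  have hex : ∃ χ, a χ ≠ 0 := by
    by_contra hcon
    push Not at hcon
    apply H06.indFun_one_ne_zero ψ.2
    have := congrFun hexp 1
    simp only [Finset.sum_apply, Pi.smul_apply, smul_eq_mul, ha, hcon] at this
    simpa using this
  obtain ⟨χ₀, hχ₀⟩ := hex
  have hother : ∀ χ, χ ≠ χ₀ → a χ = 0 := by
    intro χ hχ
    by_contra h0
    have h2 : a χ₀ + a χ ≤ ∑ χ : IrrCharacter G, a χ := by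
      have := Finset.sum_le_sum_of_subset (f := a) (Finset.subset_univ ({χ₀, χ} : Finset (IrrCharacter G)))
      rwa [Finset.sum_pair (Ne.symm hχ)] at this
    omega
  have hone : a χ₀ = 1 := by
    have h2 : a χ₀ ≤ ∑ χ : IrrCharacter G, a χ := Finset.single_le_sum (fun _ _ => Nat.zero_le _) (Finset.mem_univ _)
    omega
  have hXeq : indFun T ψ.1 = χ₀.1 := by
    conv_lhs => rw [hexp]
    rw [Finset.sum_eq_single χ₀]
    · rw [ha, hone]; simp
    · intro χ _ hχ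
      rw [ha, hother χ hχ]; simp
    · simp
  rw [hXeq]
  exact χ₀.2

/-- **Clifford correspondence above `b`.** -/
theorem exists_ind_of_over (hb : IsPBlock M b) (hT : ∀ g : G, g ∈ T ↔ ∀ θ ∈ b, conjIrr N g θ ∈ b)
    {χ : IrrCharacter G} {θ : IrrCharacter N} (hθ : θ ∈ b)
    (hc : ∑ n : N, conj (θ.1 n) * χ.1 n ≠ 0) :
    ∃ ψ : IrrCharacter T, cvr hNT ψ θ ≠ 0 ∧ χ.1 = indFun T ψ.1 := by
  classical
  rw [sum_res_expand hNT] at hc
  obtain ⟨ψ, -, hψ⟩ := Finset.exists_ne_zero_of_sum_ne_zero hc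
  have h1 := left_ne_zero_of_mul hψ
  have h2 := right_ne_zero_of_mul hψ
  refine ⟨ψ, h2, ?_⟩
  by_contra hne
  exact inner_ind_of_res h1 (H06.classInner_irr_ne (isIrr_ind hNT hb hT hθ h2) χ.2 (Ne.symm hne))

/-- Injectivity of induction above `b`. -/
theorem ind_injective (hb : IsPBlock M b) (hT : ∀ g : G, g ∈ T ↔ ∀ θ ∈ b, conjIrr N g θ ∈ b)
    {ψ₁ ψ₂ : IrrCharacter T} {θ₁ θ₂ : IrrCharacter N} (h₁ : θ₁ ∈ b) (hc₁ : cvr hNT ψ₁ θ₁ ≠ 0)
    (h₂ : θ₂ ∈ b) (hc₂ : cvr hNT ψ₂ θ₂ ≠ 0) (h : indFun T ψ₁.1 = indFun T ψ₂.1) : ψ₁ = ψ₂ := by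
  classical
  by_contra hne
  have hirr := isIrr_ind hNT hb hT h₁ hc₁
  have hs1 := sum_ind hNT hb hT h₁ hc₁ h₁
  have hs2 := sum_ind hNT hb hT h₂ hc₂ h₁
  rw [← h, hs1] at hs2
  choose e he using fun ψ' : IrrCharacter T => cvr_nat hNT ψ' θ₁
  set χ : IrrCharacter G := ⟨indFun T ψ₁.1, hirr⟩ with hχ
  have h1 : classInner (fun t : T => χ.1 t) ψ₁.1 ≠ 0 := by
    apply inner_res_of_ind
    show classInner χ.1 χ.1 ≠ 0
    rw [H06.classInner_irr_self χ.2]
    exact one_ne_zero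
  have h2 : classInner (fun t : T => χ.1 t) ψ₂.1 ≠ 0 := by
    apply inner_res_of_ind
    rw [← h]
    show classInner χ.1 χ.1 ≠ 0
    rw [H06.classInner_irr_self χ.2]
    exact one_ne_zero
  have hm : ∑ n : N, conj (θ₁.1 n) * χ.1 n = (Nat.card N : ℂ) * (e ψ₁) := by
    rw [← he ψ₁]
    exact sum_ind hNT hb hT h₁ hc₁ h₁
  have := sum_le_res hNT χ θ₁ hm he {ψ₁, ψ₂} (by
    intro ψ hψ
    rcases Finset.mem_insert.mp hψ with rfl | hψ
    · exact h1
    · rw [Finset.mem_singleton.mp hψ]; exact h2)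
  rw [Finset.sum_pair hne] at this
  have h0 : e ψ₂ = 0 := by omega
  have h3 : cvr hNT ψ₂ θ₁ = 0 := by rw [he, h0]; simp
  rw [← hs2] at h3
  exact hc₁ h3

/-- Summing over cosets. -/
theorem sum_eq_card_mul_quot (T : Subgroup G) [Fintype (G ⧸ T)] (f : G → ℂ)
    (hf : ∀ x, ∀ t ∈ T, f (x * t) = f x) :
    ∑ x, f x = (Nat.card T : ℂ) * ∑ q : G ⧸ T, f q.out := by
  classical
  let F : (G ⧸ T) × T → G := fun x => x.1.out * x.2
  have hF : Function.Bijective F := by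
    constructor
    · rintro ⟨q, t⟩ ⟨q', t'⟩ h
      have h1 : ((q.out * t : G) : G ⧸ T) = ((q'.out * t' : G) : G ⧸ T) := congrArg _ h
      have h2 : q = q' := by
        simpa [QuotientGroup.mk_mul_of_mem] using h1
      subst h2
      have h3 : t = t' := by
        apply Subtype.ext
        exact mul_left_cancel h
      rw [h3]
    · intro x
      refine ⟨(((x : G ⧸ T)), ⟨(x : G ⧸ T).out⁻¹ * x, ?_⟩), ?_⟩
      · exact QuotientGroup.eq.mp (QuotientGroup.out_eq' _)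
      · simp [F]
  have h1 : ∑ x, f x = ∑ y : (G ⧸ T) × T, f (F y) :=
    (Fintype.sum_equiv (Equiv.ofBijective F hF) _ _ fun _ => rfl).symm
  have h1' : ∑ y : (G ⧸ T) × T, f (F y) = ∑ q : G ⧸ T, ∑ t : T, f (F (q, t)) := by
    convert Fintype.sum_prod_type (fun y => f (F y))
  rw [h1, h1', Finset.mul_sum]
  refine Finset.sum_congr rfl fun q _ => ?_
  simp only [F]
  have h2 : ∀ t : T, f (q.out * t) = f q.out := fun t => hf _ _ t.2
  simp only [h2, Finset.sum_const, Finset.card_univ, nsmul_eq_mul, Nat.card_eq_fintype_card]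

/-- Induction preserves local integrality of class functions. -/
theorem indFun_mlr {a : T → ℂ} (hcl : IsClassFunction T a) (hR : ∀ t, MemLocalRing M (a t)) (g : G) :
    MemLocalRing M (indFun T a g) := by
  classical
  haveI : Fintype (G ⧸ T) := Fintype.ofFinite _
  have hext : ∀ y : G, MemLocalRing M (extendByZero T a y) := by
    intro y
    by_cases hy : y ∈ T
    · have := extendByZero_coe T a ⟨y, hy⟩
      simp only at this
      rw [this]
      exact hR _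
    · rw [extendByZero_of_not_mem T _ hy]
      exact mlr_zero
  have hinv : ∀ x, ∀ t ∈ T, extendByZero T a ((x * t)⁻¹ * g * (x * t)) = extendByZero T a (x⁻¹ * g * x) := by
    intro x t ht
    have he : (x * t)⁻¹ * g * (x * t) = t⁻¹ * (x⁻¹ * g * x) * t := by group
    rw [he]
    by_cases hy : x⁻¹ * g * x ∈ T
    · have hy' : t⁻¹ * (x⁻¹ * g * x) * t ∈ T := T.mul_mem (T.mul_mem (T.inv_mem ht) hy) ht
      have h1 := extendByZero_coe T a ⟨_, hy⟩
      have h2 := extendByZero_coe T a ⟨_, hy'⟩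
      simp only at h1 h2
      rw [h1, h2]
      have := hcl ⟨_, hy⟩ ⟨t, ht⟩⁻¹
      rw [← this]
      refine congrArg a (Subtype.ext ?_)
      simp
    · have hy' : t⁻¹ * (x⁻¹ * g * x) * t ∉ T := by
        intro h
        apply hy
        have := T.mul_mem (T.mul_mem ht h) (T.inv_mem ht)
        have he : t * (t⁻¹ * (x⁻¹ * g * x) * t) * t⁻¹ = x⁻¹ * g * x := by group
        rwa [he] at this
      rw [extendByZero_of_not_mem T _ hy, extendByZero_of_not_mem T _ hy']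
  unfold indFun
  rw [sum_eq_card_mul_quot T _ hinv, inv_mul_cancel_left₀ card_ne_zero_C]
  exact mlr_sum _ _ fun q _ => hext _

/-- The central character of `ψ^G` on the trace of the block idempotent of a block above `b`. -/
theorem om_ind_trace (hb : IsPBlock M b) (hT : ∀ g : G, g ∈ T ↔ ∀ θ ∈ b, conjIrr N g θ ∈ b)
    {B' : Set (IrrCharacter T)} (hB' : ∀ ψ ∈ B', ∃ θ ∈ b, cvr hNT ψ θ ≠ 0)
    {ψ₀ : IrrCharacter T} {θ₀ : IrrCharacter N} (h0 : θ₀ ∈ b) (hc : cvr hNT ψ₀ θ₀ ≠ 0) :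
    om (⟨indFun T ψ₀.1, isIrr_ind hNT hb hT h0 hc⟩ : IrrCharacter G) (indFun T (blockCoeff B')) =
      eB B' ψ₀ := by
  classical
  set χ : IrrCharacter G := ⟨indFun T ψ₀.1, isIrr_ind hNT hb hT h0 hc⟩ with hχ
  have hne : (T.index : ℂ) ≠ 0 := by exact_mod_cast Subgroup.index_ne_zero_of_finite
  have hψ := irr_one_ne_zero' ψ₀
  have hχ1 : χ.1 1 = (T.index : ℂ) * ψ₀.1 1 := indFun_one T ψ₀.1
  have hTc : (Nat.card T : ℂ) ≠ 0 := card_ne_zero_C
  have hself : classInner (fun t : T => χ.1 t) ψ₀.1 = 1 := by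
    obtain ⟨m, h1, h2⟩ := H06.classInner_char_conj_nat
      (isCharacter_restrict T (isCharacter_of_irr χ.2)) ψ₀
    rw [h1, ← h2, ← frobenius_reciprocity T _ _ (isClassFunction_of_isCharacter (isCharacter_of_irr χ.2))]
    exact H06.classInner_irr_self χ.2
  have hmain : ∑ t : T, χ.1 t * blockCoeff B' t = eB B' ψ₀ * ψ₀.1 1 := by
    have h1 : ∀ t : T, χ.1 t * blockCoeff B' t = (Nat.card T : ℂ)⁻¹ *
        ∑ ψ : IrrCharacter T, eB B' ψ * (ψ.1 1 * (χ.1 t * conj (ψ.1 t))) := by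
      intro t
      rw [blockCoeff_eq_ofOm]
      unfold ofOm
      rw [mul_left_comm, Finset.mul_sum]
      congr 1
      exact Finset.sum_congr rfl fun _ _ => by ring
    simp only [h1]
    rw [← Finset.mul_sum, Finset.sum_comm]
    have h2 : ∀ ψ : IrrCharacter T, ∑ t : T, eB B' ψ * (ψ.1 1 * (χ.1 t * conj (ψ.1 t))) =
        eB B' ψ * (ψ.1 1 * ((Nat.card T : ℂ) * classInner (fun t : T => χ.1 t) ψ.1)) := by
      intro ψ
      unfold classInner
      rw [mul_inv_cancel_left₀ hTc, Finset.mul_sum, Finset.mul_sum]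
    simp only [h2]
    rw [Finset.sum_eq_single ψ₀]
    · rw [hself]
      field_simp
    · intro ψ _ hψne
      by_cases hψB : ψ ∈ B'
      · obtain ⟨θ, hθ, hcψ⟩ := hB' ψ hψB
        have : classInner (fun t : T => χ.1 t) ψ.1 = 0 := by
          by_contra hcon
          have h3 := inner_ind_of_res hcon
          have h4 : indFun T ψ.1 = χ.1 := by
            by_contra hc5
            exact h3 (H06.classInner_irr_ne (isIrr_ind hNT hb hT hθ hcψ) χ.2 hc5)
          exact hψne (ind_injective hNT hb hT hθ hcψ h0 hc h4)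
        rw [this]
        simp
      · rw [eB_apply_not_mem hψB, zero_mul]
    · simp
  unfold om
  have h3 := sum_mul_indFun T (blockCoeff B') (isClassFunction_of_isCharacter (isCharacter_of_irr χ.2))
  have h4 : ∑ g, indFun T (blockCoeff B') g * χ.1 g = (T.index : ℂ) * (eB B' ψ₀ * ψ₀.1 1) := by
    rw [← hmain, ← h3]
    exact Finset.sum_congr rfl fun _ _ => mul_comm _ _
  rw [h4, hχ1]
  field_simp

/-- **Same block of `G` implies same block of `T`, above `b`.** -/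
theorem sameBlock_of_ind (hb : IsPBlock M b) (hT : ∀ g : G, g ∈ T ↔ ∀ θ ∈ b, conjIrr N g θ ∈ b)
    {ψ₁ ψ₂ : IrrCharacter T} {θ₁ θ₂ : IrrCharacter N} (h₁ : θ₁ ∈ b) (hc₁ : cvr hNT ψ₁ θ₁ ≠ 0)
    (h₂ : θ₂ ∈ b) (hc₂ : cvr hNT ψ₂ θ₂ ≠ 0)
    (h : SameBlock M (indFun T ψ₁.1) (indFun T ψ₂.1)) : SameBlock M ψ₁.1 ψ₂.1 := by
  classical
  set B' : Set (IrrCharacter T) := blockOf M ψ₁.1 with hB'
  have hB'b : IsPBlock M B' := isBlock_blockOf ψ₁
  have hall : ∀ ψ ∈ B', ∃ θ ∈ b, cvr hNT ψ θ ≠ 0 := fun ψ hψ =>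
    exists_cvr_of_sameBlock hNT hb hψ h₁ hc₁
  have hcl : IsClassFunction G (indFun T (blockCoeff B')) := indFun_isClass T _
  have hR : ∀ g, MemLocalRing M (indFun T (blockCoeff B') g) :=
    indFun_mlr (blockCoeff_isClass B') (blockCoeff_mlr hB'b)
  have hcong := ZR_congr (om_mem_ZR hcl hR) (χ := ⟨indFun T ψ₁.1, isIrr_ind hNT hb hT h₁ hc₁⟩)
    (ψ := ⟨indFun T ψ₂.1, isIrr_ind hNT hb hT h₂ hc₂⟩) h
  rw [om_ind_trace hNT hb hT hall h₁ hc₁, om_ind_trace hNT hb hT hall h₂ hc₂,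
    eB_apply_mem (self_mem_blockOf ψ₁)] at hcong
  by_contra hcon
  have hnot : ψ₂ ∉ B' := hcon
  rw [eB_apply_not_mem hnot, sub_zero] at hcong
  exact not_mli_one hcong

end FR

section Main

variable {N T : Subgroup G} [hN : N.Normal] (hNT : N ≤ T) {b : Set (IrrCharacter N)}

theorem hT_conj_form
    (hT : ∀ g : G, g ∈ T ↔ ∀ θ ∈ b, ∀ θ' : IrrCharacter N,
      (∀ n : N, (θ' : N → ℂ) n = (θ : N → ℂ) ⟨g * n * g⁻¹, hN.conj_mem n n.2 g⟩) → θ' ∈ b) :
    ∀ g : G, g ∈ T ↔ ∀ θ ∈ b, conjIrr N g θ ∈ b := by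
  intro g
  rw [hT]
  constructor
  · intro h θ hθ
    exact h θ hθ _ (conjIrr_apply N g θ)
  · intro h θ hθ θ' hθ'
    have : θ' = conjIrr N g θ := by
      apply Subtype.ext
      funext n
      rw [conjIrr_apply]
      exact hθ' n
    rw [this]
    exact h θ hθ

/-- The members of a block of `G` covering `b`, from a block of `T`. -/
theorem block_char (hb : IsPBlock M b) (hT : ∀ g : G, g ∈ T ↔ ∀ θ ∈ b, conjIrr N g θ ∈ b)
    {B' : Set (IrrCharacter T)} {B : Set (IrrCharacter G)} (hB' : IsPBlock M B') (hB : IsPBlock M B)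
    {ψ₀ : IrrCharacter T} {θ₀ : IrrCharacter N} (hψ₀ : ψ₀ ∈ B') (h0 : θ₀ ∈ b)
    (hc : cvr hNT ψ₀ θ₀ ≠ 0)
    (hX : (⟨indFun T ψ₀.1, isIrr_ind hNT hb hT h0 hc⟩ : IrrCharacter G) ∈ B) (χ : IrrCharacter G) :
    χ ∈ B ↔ ∃ ψ ∈ B', χ.1 = indFun T ψ.1 := by
  classical
  set X : IrrCharacter G := ⟨indFun T ψ₀.1, isIrr_ind hNT hb hT h0 hc⟩ with hXdef
  have hXc : ∑ n : N, conj (θ₀.1 n) * X.1 n ≠ 0 := by
    have := sum_ind hNT hb hT h0 hc h0
    intro h1
    apply hc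
    rw [← this]
    exact h1
  constructor
  · intro hχ
    have hs : SameBlock M χ.1 X.1 := block_sameBlock hB hχ hX
    obtain ⟨θ₁, hθ₁⟩ := exists_constituent N χ
    have e1 := (const_iff χ θ₁).mp hθ₁
    have e2 := (const_iff X θ₀).mp hXc
    obtain ⟨t, ht⟩ := exists_conj_mem_of_congr hb (θ₀ := θ₀) (θ₂ := θ₁) h0 (fun n => by
      rw [← e1 n, ← e2 n]
      exact hs (n : G))
    obtain ⟨ψ, hψ1, hψ2⟩ := exists_ind_of_over hNT hb hT ht (const_of_conj t hθ₁)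
    refine ⟨ψ, ?_, hψ2⟩
    rw [block_eq_of_mem hB' hψ₀]
    apply sameBlock_symm
    apply sameBlock_of_ind hNT hb hT ht hψ1 h0 hc
    rw [← hψ2]
    exact hs
  · rintro ⟨ψ, hψ, hχψ⟩
    rw [block_eq_of_mem hB hX]
    obtain ⟨θ, hθ, hcψ⟩ := exists_cvr_of_sameBlock hNT hb (block_sameBlock hB' hψ₀ hψ) h0 hc
    have hχeq : χ = ⟨indFun T ψ.1, isIrr_ind hNT hb hT hθ hcψ⟩ := Subtype.ext hχψ
    intro g
    have h1 := indCC_congr (M := M) (block_sameBlock hB' hψ₀ hψ) g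
    have h2 := cc_induced_irr T ψ₀ (isIrr_ind hNT hb hT h0 hc) g
    have h3 := cc_induced_irr T ψ (isIrr_ind hNT hb hT hθ hcψ) g
    rw [← h2, ← h3, ← hχeq] at h1
    exact h1

end Main

/-- **Fong-Reynolds, the correspondence.** -/
theorem fong_reynolds_main [instG : Fintype G] (hM : IsPModular p M) (N : Subgroup G) [hN : N.Normal]
    [instN : Fintype N] (b : Set (IrrCharacter N)) (hb : IsPBlock M b) (T : Subgroup G)
    [instT : Fintype T]
    (hT : ∀ g : G, g ∈ T ↔ ∀ θ ∈ b, ∀ θ' : IrrCharacter N,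
      (∀ n : N, (θ' : N → ℂ) n = (θ : N → ℂ) ⟨g * n * g⁻¹, hN.conj_mem n n.2 g⟩) → θ' ∈ b)
    (hNT : N ≤ T) :
    (∀ B' : Set (IrrCharacter T), IsPBlock M B' →
      (∃ ψ ∈ B', ∃ θ ∈ b, classInner (fun n : N => (ψ : T → ℂ) ⟨(n : G), hNT n.2⟩) (θ : N → ℂ) ≠ 0) →
      ∃ B : Set (IrrCharacter G), IsInducedBlock M T B' B ∧
        (∃ χ ∈ B, ∃ θ ∈ b, classInner (fun n : N => (χ : G → ℂ) n) (θ : N → ℂ) ≠ 0) ∧
        (∀ ψ ∈ B', IsIrrCharacter G (indFun T (ψ : T → ℂ))) ∧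
        ∀ χ : IrrCharacter G, χ ∈ B ↔ ∃ ψ ∈ B', (χ : G → ℂ) = indFun T (ψ : T → ℂ)) ∧
    (∀ B'₁ B'₂ : Set (IrrCharacter T), IsPBlock M B'₁ → IsPBlock M B'₂ →
      (∃ ψ ∈ B'₁, ∃ θ ∈ b, classInner (fun n : N => (ψ : T → ℂ) ⟨(n : G), hNT n.2⟩) (θ : N → ℂ) ≠ 0) →
      (∃ ψ ∈ B'₂, ∃ θ ∈ b, classInner (fun n : N => (ψ : T → ℂ) ⟨(n : G), hNT n.2⟩) (θ : N → ℂ) ≠ 0) →
      ∀ B : Set (IrrCharacter G), IsInducedBlock M T B'₁ B → IsInducedBlock M T B'₂ B → B'₁ = B'₂) ∧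
    (∀ B : Set (IrrCharacter G), IsPBlock M B →
      (∃ χ ∈ B, ∃ θ ∈ b, classInner (fun n : N => (χ : G → ℂ) n) (θ : N → ℂ) ≠ 0) →
      ∃ B' : Set (IrrCharacter T), IsPBlock M B' ∧
        (∃ ψ ∈ B', ∃ θ ∈ b, classInner (fun n : N => (ψ : T → ℂ) ⟨(n : G), hNT n.2⟩) (θ : N → ℂ) ≠ 0) ∧
        IsInducedBlock M T B' B) := by
  classical
  obtain rfl : instG = fintypeOfFiniteH22 := Subsingleton.elim _ _
  obtain rfl : instN = fintypeOfFiniteH22 := Subsingleton.elim _ _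
  obtain rfl : instT = fintypeOfFiniteH22 := Subsingleton.elim _ _
  have hT' := hT_conj_form hT
  have cov : ∀ (ψ : IrrCharacter T) (θ : IrrCharacter N),
      classInner (fun n : N => (ψ : T → ℂ) ⟨(n : G), hNT n.2⟩) (θ : N → ℂ) ≠ 0 ↔ cvr hNT ψ θ ≠ 0 :=
    fun ψ θ => inner_ne_iff _ _
  have covG : ∀ (χ : IrrCharacter G) (θ : IrrCharacter N),
      classInner (fun n : N => (χ : G → ℂ) n) (θ : N → ℂ) ≠ 0 ↔ ∑ n : N, conj (θ.1 n) * χ.1 n ≠ 0 :=
    fun χ θ => inner_ne_iff _ _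
  refine ⟨?_, ?_, ?_⟩
  · rintro B' hB' ⟨ψ₀, hψ₀, θ₀, h0, hc⟩
    rw [cov] at hc
    have hirr := isIrr_ind hNT hb hT' h0 hc
    set X : IrrCharacter G := ⟨indFun T ψ₀.1, hirr⟩ with hXdef
    refine ⟨blockOf M X.1, ?_, ⟨X, self_mem_blockOf X, θ₀, h0, ?_⟩, ?_, ?_⟩
    · rw [block_eq_of_mem hB' hψ₀]
      exact induced_block_of_irr T ψ₀ hirr
    · rw [covG]
      have := sum_ind hNT hb hT' h0 hc h0
      intro h1
      apply hc
      rw [← this]
      exact h1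
    · intro ψ hψ
      obtain ⟨θ, hθ, hcψ⟩ := exists_cvr_of_sameBlock hNT hb (block_sameBlock hB' hψ₀ hψ) h0 hc
      exact isIrr_ind hNT hb hT' hθ hcψ
    · exact block_char hNT hb hT' hB' (isBlock_blockOf X) hψ₀ h0 hc (self_mem_blockOf X)
  · rintro B₁ B₂ hB₁ hB₂ ⟨ψ₁, hψ₁, θ₁, h₁, hc₁⟩ ⟨ψ₂, hψ₂, θ₂, h₂, hc₂⟩ B hind₁ hind₂
    rw [cov] at hc₁ hc₂
    obtain ⟨χ, hχ⟩ := block_nonempty hind₁.2.1
    have hs : SameBlock M (indFun T ψ₁.1) (indFun T ψ₂.1) := by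
      intro g
      have e1 := cc_induced_irr T ψ₁ (isIrr_ind hNT hb hT' h₁ hc₁) g
      have e2 := cc_induced_irr T ψ₂ (isIrr_ind hNT hb hT' h₂ hc₂) g
      have m1 := hind₁.2.2 ψ₁ hψ₁ χ hχ g
      have m2 := hind₂.2.2 ψ₂ hψ₂ χ hχ g
      have := mli_sub m1 m2
      rw [sub_sub_sub_cancel_right, ← e1, ← e2] at this
      exact this
    have := sameBlock_of_ind hNT hb hT' h₁ hc₁ h₂ hc₂ hs
    rw [block_eq_of_mem hB₁ hψ₁, block_eq_of_mem hB₂ hψ₂]
    exact (blockOf_eq_of_mem this).symm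
  · rintro B hB ⟨χ, hχ, θ, hθ, hc⟩
    rw [covG] at hc
    obtain ⟨ψ, hψ1, hψ2⟩ := exists_ind_of_over hNT hb hT' hθ hc
    refine ⟨blockOf M ψ.1, isBlock_blockOf ψ, ⟨ψ, self_mem_blockOf ψ, θ, hθ, (cov ψ θ).mpr hψ1⟩, ?_⟩
    rw [block_eq_of_mem hB hχ, hψ2]
    exact induced_block_of_irr T ψ (isIrr_ind hNT hb hT' hθ hψ1)

/-- **Fong-Reynolds: defect groups and heights.** -/
theorem fong_reynolds_defect [instG : Fintype G] (hM : IsPModular p M) (N : Subgroup G) [hN : N.Normal]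
    [instN : Fintype N] (b : Set (IrrCharacter N)) (hb : IsPBlock M b) (T : Subgroup G)
    [instT : Fintype T]
    (hT : ∀ g : G, g ∈ T ↔ ∀ θ ∈ b, ∀ θ' : IrrCharacter N,
      (∀ n : N, (θ' : N → ℂ) n = (θ : N → ℂ) ⟨g * n * g⁻¹, hN.conj_mem n n.2 g⟩) → θ' ∈ b)
    (hNT : N ≤ T) (B' : Set (IrrCharacter T)) (hB' : IsPBlock M B')
    (hcov : ∃ ψ ∈ B', ∃ θ ∈ b, classInner (fun n : N => (ψ : T → ℂ) ⟨(n : G), hNT n.2⟩) (θ : N → ℂ) ≠ 0)
    (B : Set (IrrCharacter G)) (hind : IsInducedBlock M T B' B) :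
    (∀ D : Subgroup T, IsDefectGroup p M B' D → IsDefectGroup p M B (D.map T.subtype)) ∧
    ∀ ψ ∈ B', ∃ χ ∈ B, (χ : G → ℂ) = indFun T (ψ : T → ℂ) ∧
      blockHeight p B (χ : G → ℂ) = blockHeight p B' (ψ : T → ℂ) := by
  classical
  obtain rfl : instG = fintypeOfFiniteH22 := Subsingleton.elim _ _
  obtain rfl : instN = fintypeOfFiniteH22 := Subsingleton.elim _ _
  obtain rfl : instT = fintypeOfFiniteH22 := Subsingleton.elim _ _
  have hT' := hT_conj_form hT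
  obtain ⟨ψ₀, hψ₀, θ₀, h0, hc⟩ := hcov
  have hc : cvr hNT ψ₀ θ₀ ≠ 0 := (inner_ne_iff _ _).mp hc
  have hB := hind.2.1
  obtain ⟨χ', hχ'⟩ := block_nonempty hB
  have hover : ∀ ψ ∈ B', ∃ θ ∈ b, cvr hNT ψ θ ≠ 0 := fun ψ hψ =>
    exists_cvr_of_sameBlock hNT hb (block_sameBlock hB' hψ₀ hψ) h0 hc
  have hirr : ∀ ψ ∈ B', IsIrrCharacter G (indFun T ψ.1) := fun ψ hψ => by
    obtain ⟨θ, hθ, hcψ⟩ := hover ψ hψ
    exact isIrr_ind hNT hb hT' hθ hcψ
  have hmem : ∀ (ψ) (hψ : ψ ∈ B'), (⟨indFun T ψ.1, hirr ψ hψ⟩ : IrrCharacter G) ∈ B := by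
    intro ψ hψ
    rw [block_eq_of_mem hB hχ']
    intro g
    have e1 := cc_induced_irr T ψ (hirr ψ hψ) g
    have m1 := hind.2.2 ψ hψ χ' hχ' g
    have m2 := mli_neg m1
    rw [neg_sub, ← e1] at m2
    exact m2
  have hchar := block_char hNT hb hT' hB' hB hψ₀ h0 hc (hmem ψ₀ hψ₀)
  have hidx : T.index ≠ 0 := Subgroup.index_ne_zero_of_finite
  have hdeg : ∀ (ψ) (hψ : ψ ∈ B'), charDegree (indFun T ψ.1) = T.index * charDegree ψ.1 := by
    intro ψ hψ
    have h1 := irr_one_eq (⟨indFun T ψ.1, hirr ψ hψ⟩ : IrrCharacter G)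
    have h2 : indFun T ψ.1 1 = (T.index : ℂ) * ψ.1 1 := indFun_one T ψ.1
    rw [irr_one_eq ψ] at h2
    have h3 : (charDegree (indFun T ψ.1) : ℂ) = (T.index : ℂ) * charDegree ψ.1 := by
      rw [← h2]
      exact h1.symm
    exact_mod_cast h3
  have hval : ∀ (ψ) (hψ : ψ ∈ B'), (charDegree (indFun T ψ.1)).factorization p =
      T.index.factorization p + (charDegree ψ.1).factorization p := by
    intro ψ hψ
    rw [hdeg ψ hψ, Nat.factorization_mul hidx (irr_charDegree_pos ψ.2).ne']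
    rfl
  have hmin : minExp p B = T.index.factorization p + minExp p B' := by
    apply le_antisymm
    · obtain ⟨ψ₂, h1, h2⟩ := exists_min_height (p := p) hB'
      have := minExp_le (p := p) (hmem ψ₂ h1)
      rw [hval ψ₂ h1, h2] at this
      exact this
    · obtain ⟨χ₁, h1, h2⟩ := exists_min_height (p := p) hB
      obtain ⟨ψ₁, hψ₁, hχ₁⟩ := (hchar χ₁).mp h1
      rw [← h2, hχ₁, hval ψ₁ hψ₁]
      exact Nat.add_le_add_left (minExp_le hψ₁) _
  constructor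
  · intro D hD
    obtain ⟨E, hE, hle⟩ := induced_defect_le hM hind hD
    have h1 := card_defect hM hB hE
    have h2 := card_defect hM hB' hD
    have hcard : (Nat.card G).factorization p = (Nat.card T).factorization p + T.index.factorization p := by
      rw [← T.card_mul_index, Nat.factorization_mul Nat.card_pos.ne' hidx]
      rfl
    have hd : blockDefect p B = blockDefect p B' := by
      rw [blockDefect_eq, blockDefect_eq, hmin, hcard]
      omega
    have h3 : Nat.card (D.map T.subtype) = Nat.card D :=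
      Nat.card_congr (Subgroup.equivMapOfInjective D T.subtype (Subgroup.subtype_injective T)).toEquiv.symm
    have h4 : D.map T.subtype = E := Subgroup.eq_of_le_of_card_ge hle (by
      rw [h1, h3, h2, hd])
    rw [h4]
    exact hE
  · intro ψ hψ
    refine ⟨⟨indFun T ψ.1, hirr ψ hψ⟩, hmem ψ hψ, rfl, ?_⟩
    show (charDegree (indFun T ψ.1)).factorization p - minExp p B =
      (charDegree ψ.1).factorization p - minExp p B'
    rw [hval ψ hψ, hmin]
    omega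

end Cfsg.Agent.H21
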