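import Cfsg.Agent.Lib.H21.InflateBlocks

/-!
# Knörr's theorem on blocks covering an invariant block
-/

set_option autoImplicit false
set_option linter.unusedSectionVars false
set_option linter.style.haveILetI false
set_option linter.unusedSimpArgs false

namespace Cfsg.Agent.H21

open scoped ComplexConjugate
open Cfsg Module Cfsg.Agent.H22

universe u

variable {G : Type u} [Group G] [Finite G]
variable {p : ℕ} [hp : Fact p.Prime] {M : Ideal AlgInt} [hMp : M.IsPrime]
variable {N : Subgroup G} [hN : N.Normal]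

theorem cc_conjIrr (t : G) (θ : IrrCharacter N) (l : N) :
    cc l (conjIrr N t θ) = cc (⟨t * l * t⁻¹, hN.conj_mem _ l.2 t⟩ : N) θ := by
  unfold cc conjIrr
  rw [centralChar_irrMap]
  congr 1
  apply Subtype.ext
  show (t⁻¹)⁻¹ * (l : G) * t⁻¹ = t * l * t⁻¹
  simp

theorem conjIrr_oneIrr (t : G) : conjIrr N t (oneIrr N) = oneIrr N := rfl

open scoped Classical in
theorem indCC_eq_sum_classes (θ : IrrCharacter N) (y : G) :
    inducedCentralChar N θ.1 y =
      ∑ c : ConjClasses N, if IsConj ((c.out : N) : G) y then cc c.out θ else 0 := by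
  classical
  rw [← om_indicator_eq, om_eq_sum_classes _ (indicator_isClass y)]
  refine Finset.sum_congr rfl fun c _ => ?_
  unfold classIndicator
  split_ifs <;> simp

open scoped Classical in
/-- The number of `N`-classes in a `G`-class. -/
noncomputable def classCount (N : Subgroup G) (y : G) : ℕ :=
  (Finset.filter (fun c : ConjClasses N => IsConj ((c.out : N) : G) y) Finset.univ).card

theorem conj_out_form (y : N) {c : ConjClasses N} (h : IsConj ((c.out : N) : G) (y : G)) :
    ∃ u : G, c.out = (⟨u * y * u⁻¹, hN.conj_mem _ y.2 u⟩ : N) := by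
  obtain ⟨u, hu⟩ := isConj_iff.mp h.symm
  exact ⟨u, Subtype.ext hu.symm⟩

theorem indCC_congr_count {b : Set (IrrCharacter N)} (hb : IsPBlock M b)
    (hinv : ∀ t : G, ∀ θ ∈ b, conjIrr N t θ ∈ b) (y : N) {θ : IrrCharacter N} (hθ : θ ∈ b) :
    MemLocalIdeal M (inducedCentralChar N θ.1 y - (classCount N y : ℂ) * cc y θ) := by
  classical
  rw [indCC_eq_sum_classes]
  unfold classCount
  rw [Finset.card_filter]
  push_cast
  rw [Finset.sum_mul, ← Finset.sum_sub_distrib]
  refine mli_sum _ _ fun c _ => ?_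
  by_cases hc : IsConj ((c.out : N) : G) (y : G)
  · rw [if_pos hc, if_pos hc, one_mul]
    obtain ⟨u, hu⟩ := conj_out_form y hc
    rw [hu, ← cc_conjIrr]
    exact block_sameBlock hb (hinv u θ hθ) hθ y
  · rw [if_neg hc, if_neg hc]
    simp [mli_zero]

theorem index_eq_count (y : N) :
    (Subgroup.centralizer ({(y : G)} : Set G)).index =
      classCount N y * (Subgroup.centralizer ({y} : Set N)).index := by
  classical
  have hne : ∑ n : N, conj ((oneIrr N).1 n) * (oneIrr G).1 n ≠ 0 := by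
    simp only [oneIrr, map_one, mul_one, Finset.sum_const, Finset.card_univ, nsmul_eq_mul]
    exact_mod_cast Fintype.card_ne_zero
  have h1 := cc_eq_indCC (oneIrr G) (oneIrr N) hne y
  rw [indCC_eq_sum_classes] at h1
  have hcc : ∀ (K : Type _) [Group K] (g : K), cc g (oneIrr K) =
      ((Subgroup.centralizer ({g} : Set K)).index : ℂ) := by
    intro K _ g
    unfold cc centralChar oneIrr
    simp
  rw [hcc] at h1
  have h2 : (∑ c : ConjClasses N, if IsConj ((c.out : N) : G) (y : G) then cc c.out (oneIrr N) else 0)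
      = (classCount N y : ℂ) * ((Subgroup.centralizer ({y} : Set N)).index : ℂ) := by
    unfold classCount
    rw [Finset.card_filter]
    push_cast
    rw [Finset.sum_mul]
    refine Finset.sum_congr rfl fun c _ => ?_
    by_cases hc : IsConj ((c.out : N) : G) (y : G)
    · rw [if_pos hc, if_pos hc, one_mul]
      obtain ⟨u, hu⟩ := conj_out_form y hc
      rw [hu, ← cc_conjIrr, conjIrr_oneIrr, hcc]
    · rw [if_neg hc, if_neg hc, zero_mul]
  rw [h2] at h1
  exact_mod_cast h1

theorem stable_of_inv {b : Set (IrrCharacter N)} (hinv : ∀ t : G, ∀ θ ∈ b, conjIrr N t θ ∈ b) (x : G) :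
    StabilizesBlock N b x := by
  rw [stabilizesBlock_iff (normalizer_eq_top x)]
  rintro _ ⟨θ, hθ, rfl⟩
  have h1 := hinv x⁻¹ θ hθ
  convert h1 using 1
  apply Subtype.ext
  funext l
  rw [irrMap_apply, conjIrr_apply]
  refine congrArg θ.1 (Subtype.ext ?_)
  simp

theorem sbc_isClass {b : Set (IrrCharacter N)} (hinv : ∀ t : G, ∀ θ ∈ b, conjIrr N t θ ∈ b) :
    IsClassFunction G (subgroupBlockCoeff N b) := by
  intro g k
  exact sbc_Ad_of_stable (A := ⊤) (fun q _ => stable_of_inv hinv q) k (Subgroup.mem_top k) g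

theorem om_blockCoeff_self {K : Type*} [Group K] [Finite K] (S : Set (IrrCharacter K))
    (θ : IrrCharacter K) : om θ (blockCoeff S) = eB S θ := by
  rw [blockCoeff_fun_eq, om_ofOm]

/-- The key element: a class sum in `N` with a nonzero coefficient in `e_b`, nonzero central
character on `χ₀`, and with the number of `N`-classes prime to `p`. -/
theorem exists_key_element (hM : IsPModular p M) {b : Set (IrrCharacter N)} (hb : IsPBlock M b)
    (hinv : ∀ t : G, ∀ θ ∈ b, conjIrr N t θ ∈ b) {χ₀ : IrrCharacter G} {θ₀ : IrrCharacter N}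
    (hθ₀ : θ₀ ∈ b) (hne : ∑ n : N, conj (θ₀.1 n) * χ₀.1 n ≠ 0) :
    ∃ y : N, IsDefectClass M b y ∧ ¬ MemLocalIdeal M (cc (y : G) χ₀) ∧
      (Subgroup.centralizer ({(y : G)} : Set G)).index.factorization p = minExp p b := by
  classical
  have hcl := sbc_isClass hinv
  have hone : om χ₀ (subgroupBlockCoeff N b) = 1 := by
    rw [subgroupBlockCoeff_eq_extK]
    rw [om_restrict χ₀ θ₀ hne _ (by rw [← subgroupBlockCoeff_eq_extK]; exact hcl), om_blockCoeff_self,
      eB_apply_mem hθ₀]
  have hsat := blockSat_of_isBlock hb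
  rw [om_eq_sum_classes _ hcl] at hone
  have hex : ∃ K : ConjClasses G, ¬ MemLocalIdeal M
      (subgroupBlockCoeff N b K.out * cc K.out χ₀) := by
    by_contra hcon
    push Not at hcon
    apply not_mli_one (M := M)
    rw [← hone]
    exact mli_sum _ _ fun K _ => hcon K
  obtain ⟨K, hK⟩ := hex
  have hK1 : ¬ MemLocalIdeal M (subgroupBlockCoeff N b K.out) := fun h =>
    hK (mli_mul_right h (cc_mlr _ _))
  have hK2 : ¬ MemLocalIdeal M (cc K.out χ₀) := fun h =>
    hK (mli_mul_left h (sbc_mlr N hsat _))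
  have hKN : K.out ∈ N := by
    by_contra hn
    apply hK1
    rw [subgroupBlockCoeff_eq_extK, extK_of_not_mem N _ hn]
    exact mli_zero
  let y : N := ⟨K.out, hKN⟩
  have hy1 : ¬ MemLocalIdeal M (blockCoeff b y) := by
    rw [← sbc_of_coe]
    exact hK1
  have h3 : cc (y : G) χ₀ = inducedCentralChar N θ₀.1 y := cc_eq_indCC χ₀ θ₀ hne y
  have hy2 : ¬ MemLocalIdeal M (cc (y : G) χ₀) := hK2
  have h4 := indCC_congr_count hb hinv y hθ₀
  rw [← h3] at h4
  have h5 : ¬ MemLocalIdeal M ((classCount N y : ℂ) * cc y θ₀) := fun h => by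
    apply hy2
    have := mli_add h4 h
    simpa using this
  have h6 : ¬ p ∣ classCount N y := fun h => by
    apply h5
    exact mli_mul_right ((mli_natCast_iff hM _).mpr h) (cc_mlr _ _)
  have h7 : ¬ MemLocalIdeal M (cc y θ₀) := fun h => h5 (mli_mul_left h (mlr_natCast _))
  have hdef : IsDefectClass M b y := by
    refine ⟨blockCoeff_mlr hb y, hy1, fun ξ hξ => ?_⟩
    exact not_mli_of_congr (block_sameBlock hb hξ hθ₀ y) h7
  refine ⟨y, hdef, hy2, ?_⟩
  have h8 := index_factorization_of_defect hM hb hdef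
  rw [index_eq_count, Nat.factorization_mul
    (fun h => h6 (by rw [h]; exact dvd_zero p)) Subgroup.index_ne_zero_of_finite]
  simp only [Finsupp.coe_add, Pi.add_apply, h8]
  rw [Nat.factorization_eq_zero_of_not_dvd h6, zero_add]

/-- The characters of `G` above `b`. -/
def coverSet (b : Set (IrrCharacter N)) : Set (IrrCharacter G) :=
  {χ | ∃ θ ∈ b, ∑ n : N, conj (θ.1 n) * χ.1 n ≠ 0}

theorem coverSet_sat {b : Set (IrrCharacter N)} (hb : IsPBlock M b) : BlockSat M (coverSet (G := G) b) := by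
  rintro χ ψ hs ⟨θ, hθ, hne⟩
  obtain ⟨ψ₀, hψ₀⟩ := exists_constituent N ψ
  have hB : IsPBlock M (blockOf M χ.1) := isBlock_blockOf χ
  have h1 : χ ∈ blockOf M χ.1 := self_mem_blockOf χ
  have h2 : ψ ∈ blockOf M χ.1 := hs
  obtain ⟨t, ht⟩ := exists_conj_of_cover hB hb h1 h2 hθ hne hψ₀
  exact ⟨_, ht, const_of_conj t hψ₀⟩

theorem sbc_eq_cover {b : Set (IrrCharacter N)} (hinv : ∀ t : G, ∀ θ ∈ b, conjIrr N t θ ∈ b) :
    subgroupBlockCoeff N b = blockCoeff (coverSet (G := G) b) := by
  classical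
  have hcl := sbc_isClass hinv
  rw [blockCoeff_fun_eq, ← ofOm_om _ hcl]
  congr 1
  funext χ
  have hclz : IsClassFunction G (extK N (blockCoeff b)) := by
    rw [← subgroupBlockCoeff_eq_extK]
    exact hcl
  rw [subgroupBlockCoeff_eq_extK]
  by_cases hχ : χ ∈ coverSet (G := G) b
  · obtain ⟨θ, hθ, hne⟩ := hχ
    rw [om_restrict χ θ hne _ hclz, om_blockCoeff_self, eB_apply_mem hθ,
      eB_apply_mem (show χ ∈ coverSet (G := G) b from ⟨θ, hθ, hne⟩)]
  · obtain ⟨θ, hθ⟩ := exists_constituent N χ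
    have hθb : θ ∉ b := fun h => hχ ⟨θ, h, hθ⟩
    rw [om_restrict χ θ hθ _ hclz, om_blockCoeff_self, eB_apply_not_mem hθb, eB_apply_not_mem hχ]

open scoped Classical in
/-- Blocks of a saturated set. -/
theorem blockCoeff_sat_eq_sum {S : Set (IrrCharacter G)} (hS : BlockSat M S) (g : G) :
    blockCoeff S g = ∑ B' ∈ (blocksF M G).filter (fun B' => B' ⊆ S), blockCoeff B' g := by
  classical
  have h1 : ∀ χ : IrrCharacter G, eB S χ = ∑ B' ∈ (blocksF M G).filter (fun B' => B' ⊆ S), eB B' χ := by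
    intro χ
    by_cases hχ : χ ∈ S
    · rw [eB_apply_mem hχ, Finset.sum_eq_single (blockOf M χ.1)]
      · rw [eB_apply_mem (self_mem_blockOf χ)]
      · intro B' hB' hne
        have hB'b := mem_blocksF.mp (Finset.mem_filter.mp hB').1
        apply eB_apply_not_mem
        intro hm
        exact hne (block_eq_of_mem hB'b hm)
      · intro hc
        exfalso
        apply hc
        refine Finset.mem_filter.mpr ⟨mem_blocksF.mpr (isBlock_blockOf χ), ?_⟩
        intro ψ hψ
        exact hS χ ψ hψ hχ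
    · rw [eB_apply_not_mem hχ, Finset.sum_eq_zero]
      intro B' hB'
      apply eB_apply_not_mem
      exact fun hm => hχ ((Finset.mem_filter.mp hB').2 hm)
  rw [blockCoeff_eq_ofOm]
  simp only [blockCoeff_eq_ofOm]
  unfold ofOm
  rw [← Finset.mul_sum]
  congr 1
  rw [Finset.sum_comm]
  refine Finset.sum_congr rfl fun χ _ => ?_
  rw [h1 χ, Finset.sum_mul]

theorem exists_cover_coeff {b : Set (IrrCharacter N)} (hb : IsPBlock M b)
    (hinv : ∀ t : G, ∀ θ ∈ b, conjIrr N t θ ∈ b) {y : N}
    (hy : ¬ MemLocalIdeal M (blockCoeff b y)) :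
    ∃ B' : Set (IrrCharacter G), IsPBlock M B' ∧
      (∃ χ ∈ B', ∃ θ ∈ b, ∑ n : N, conj (θ.1 n) * χ.1 n ≠ 0) ∧
      ¬ MemLocalIdeal M (blockCoeff B' (y : G)) := by
  classical
  rw [← sbc_of_coe, sbc_eq_cover hinv, blockCoeff_sat_eq_sum (coverSet_sat hb)] at hy
  by_contra hcon
  push Not at hcon
  apply hy
  refine mli_sum _ _ fun B' hB' => ?_
  have hB'b := mem_blocksF.mp (Finset.mem_filter.mp hB').1
  obtain ⟨χ, hχ⟩ := block_nonempty hB'b
  obtain ⟨θ, hθ, hne⟩ := (Finset.mem_filter.mp hB').2 hχ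
  exact hcon B' hB'b ⟨χ, hχ, θ, hθ, hne⟩

theorem card_le_of_subConj {K : Type*} [Group K] [Finite K] {A B : Subgroup K} (h : SubConj A B) :
    Nat.card A ≤ Nat.card B := by
  obtain ⟨x, hx⟩ := h
  have h1 : A.map (MulAut.conj x).toMonoidHom ≤ B := by
    rintro _ ⟨s, hs, rfl⟩
    exact hx s hs
  calc Nat.card A = Nat.card (A.map (MulAut.conj x).toMonoidHom) :=
        (Subgroup.card_map_of_injective (MulEquiv.injective _)).symm
    _ ≤ Nat.card B := Subgroup.card_le_of_le h1

/-- **Knörr's theorem** -/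
theorem knorr_main (hM : IsPModular p M) {b : Set (IrrCharacter N)} (hb : IsPBlock M b)
    (hinv : ∀ t : G, ∀ θ ∈ b, conjIrr N t θ ∈ b) {B : Set (IrrCharacter G)} (hB : IsPBlock M B)
    (hcov : ∃ χ ∈ B, ∃ θ ∈ b, ∑ n : N, conj (θ.1 n) * χ.1 n ≠ 0)
    (hmax : ∀ B' : Set (IrrCharacter G), IsPBlock M B' →
      (∃ χ ∈ B', ∃ θ ∈ b, ∑ n : N, conj (θ.1 n) * χ.1 n ≠ 0) → blockDefect p B' ≤ blockDefect p B)
    {P : Subgroup G} (hP : IsDefectGroup p M B P) :
    ¬ p ∣ (P ⊔ N).index ∧ IsDefectGroup p M b ((P ⊓ N).subgroupOf N) ∧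
      blockDefect p B = blockDefect p b + N.index.factorization p := by
  classical
  have hpp := hp.out
  obtain ⟨χ₀, hχ₀, θ₀, hθ₀, hne⟩ := hcov
  obtain ⟨y, hydef, hyχ, hyfac⟩ := exists_key_element hM hb hinv hθ₀ hne
  obtain ⟨B', hB', hcov', hcoef⟩ := exists_cover_coeff hb hinv hydef.2.1
  obtain ⟨D', hD'⟩ := isDefectGroup_exists (p := p) hB'
  set C := Subgroup.centralizer ({(y : G)} : Set G) with hC
  obtain ⟨S⟩ : Nonempty (Sylow p C) := inferInstance
  set S' : Subgroup G := (S : Subgroup C).map C.subtype with hS'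
  have hS'p : IsPGroup p S' := S.2.map _
  have hS'le : S' ≤ C := by
    rintro _ ⟨u, _, rfl⟩
    exact u.2
  have hcardS' : Nat.card S' = p ^ ((Nat.card G).factorization p - minExp p b) := by
    have h1 : Nat.card S' = Nat.card S :=
      Subgroup.card_map_of_injective (Subgroup.subtype_injective C)
    rw [h1, Sylow.card_eq_multiplicity]
    have h2 := C.card_mul_index
    have h3 : (Nat.card G).factorization p = (Nat.card C).factorization p + C.index.factorization p := by
      rw [← h2, Nat.factorization_mul Nat.card_pos.ne' Subgroup.index_ne_zero_of_finite]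
      rfl
    rw [hyfac] at h3
    congr 1
    omega
  -- the lower bound
  have hlow : (Nat.card G).factorization p - minExp p b ≤ blockDefect p B := by
    have h1 := card_le_of_subConj (subConj_defect_of_coeff hM hB' hD' hcoef hS'p hS'le)
    rw [hcardS', card_defect hM hB' hD'] at h1
    have h2 := (Nat.pow_le_pow_iff_right hpp.one_lt).mp h1
    exact h2.trans (hmax B' hB' hcov')
  -- the upper bound
  obtain ⟨Q, hQ⟩ := isDefectGroup_exists (p := p) hb
  have hPp : IsPGroup p P := defect_isPGroup hP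
  obtain ⟨g, hg⟩ := subConj_of_cc hM hB hP hχ₀ hyχ hS'p hS'le
    (fun U hU hle hUC => map_sylow_maximal C S U hU hle hUC)
  have hy₃N : g⁻¹ * (y : G) * g ∈ N := by
    have := hN.conj_mem _ y.2 g⁻¹
    simpa using this
  let y₃ : N := ⟨g⁻¹ * y * g, hy₃N⟩
  have hcoef₃ : ¬ MemLocalIdeal M (blockCoeff b y₃) := by
    intro h
    apply hydef.2.1
    have h1 := sbc_isClass hinv (y : G) g⁻¹
    rw [inv_inv] at h1
    rw [← sbc_of_coe, ← h1]
    rw [← sbc_of_coe] at h
    exact h
  let S₀ : Subgroup N := (P ⊓ N).subgroupOf N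
  have hcardS₀ : Nat.card S₀ = Nat.card (P ⊓ N : Subgroup G) :=
    Nat.card_congr (Subgroup.subgroupOfEquivOfLe inf_le_right).toEquiv
  have hS₀p : IsPGroup p S₀ := by
    intro x
    have hx : ((x : N) : G) ∈ P := (Subgroup.mem_subgroupOf.mp x.2).1
    obtain ⟨k, hk⟩ := hPp ⟨((x : N) : G), hx⟩
    refine ⟨k, ?_⟩
    apply Subtype.ext
    apply Subtype.ext
    simpa using congrArg Subtype.val hk
  have hS₀le : S₀ ≤ Subgroup.centralizer ({y₃} : Set N) := by
    intro x hx
    have hxP : ((x : N) : G) ∈ P := (Subgroup.mem_subgroupOf.mp hx).1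
    have h1 := hS'le (hg _ hxP)
    have h2 : (g * (x : G) * g⁻¹) * (y : G) = (y : G) * (g * (x : G) * g⁻¹) :=
      Subgroup.mem_centralizer_singleton_iff.mp h1
    rw [Subgroup.mem_centralizer_singleton_iff]
    apply Subtype.ext
    show (x : G) * (g⁻¹ * y * g) = (g⁻¹ * y * g) * (x : G)
    have h3 : (x : G) * (g⁻¹ * y * g) = g⁻¹ * ((g * (x : G) * g⁻¹) * (y : G)) * g := by group
    have h4 : (g⁻¹ * y * g) * (x : G) = g⁻¹ * ((y : G) * (g * (x : G) * g⁻¹)) * g := by group
    rw [h3, h4, h2]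
  have hsub := subConj_defect_of_coeff hM hb hQ hcoef₃ hS₀p hS₀le
  have hcardle := card_le_of_subConj hsub
  rw [card_defect hM hb hQ, hcardS₀] at hcardle
  -- arithmetic
  obtain ⟨i, hi⟩ : ∃ i, Nat.card (P ⊓ N : Subgroup G) = p ^ i :=
    IsPGroup.iff_card.mp (hPp.to_le inf_le_left)
  have hile : i ≤ blockDefect p b := by
    rw [hi] at hcardle
    exact (Nat.pow_le_pow_iff_right hpp.one_lt).mp hcardle
  have hcardP := card_defect hM hB hP
  have hrel1 : Nat.card (P ⊓ N : Subgroup G) * N.relIndex P = Nat.card P := by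
    rw [← Subgroup.inf_relIndex_left]
    have h1 := ((P ⊓ N).subgroupOf P).card_mul_index
    rw [Nat.card_congr (Subgroup.subgroupOfEquivOfLe (inf_le_left : P ⊓ N ≤ P)).toEquiv] at h1
    exact h1
  obtain ⟨j, hj⟩ : ∃ j, N.relIndex P = p ^ j := by
    have h1 : N.relIndex P ∣ p ^ blockDefect p B := by
      rw [← hcardP]
      exact Subgroup.relIndex_dvd_card _ _
    obtain ⟨j, -, hj⟩ := (Nat.dvd_prime_pow hpp).mp h1
    exact ⟨j, hj⟩
  have hdB : blockDefect p B = i + j := by
    rw [hi, hj, ← pow_add, hcardP] at hrel1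
    exact (Nat.pow_right_injective hpp.two_le hrel1).symm
  have hrel2 : N.relIndex P * (P ⊔ N).index = N.index := by
    rw [← Subgroup.relIndex_sup_right P N]
    exact Subgroup.relIndex_mul_index le_sup_right
  have hn2 : (P ⊔ N).index ≠ 0 := Subgroup.index_ne_zero_of_finite
  have hidx : N.index.factorization p = j + (P ⊔ N).index.factorization p := by
    rw [← hrel2, hj, Nat.factorization_mul (pow_pos hpp.pos j).ne' hn2]
    simp [Nat.Prime.factorization_pow hpp]
  have hνG : (Nat.card G).factorization p = (Nat.card N).factorization p + N.index.factorization p := by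
    rw [← N.card_mul_index, Nat.factorization_mul Nat.card_pos.ne' Subgroup.index_ne_zero_of_finite]
    rfl
  have hmin := minExp_le_card (p := p) hb
  have hdb : blockDefect p b = (Nat.card N).factorization p - minExp p b := blockDefect_eq p b
  have hfinal : i = blockDefect p b ∧ (P ⊔ N).index.factorization p = 0 := by
    omega
  refine ⟨?_, ?_, ?_⟩
  · intro hdvd
    have := (hpp.dvd_iff_one_le_factorization hn2).mp hdvd
    omega
  · have hc : Nat.card S₀ = Nat.card Q := by
      rw [hcardS₀, hi, card_defect hM hb hQ, hfinal.1]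
    obtain ⟨x, hx⟩ := hsub
    have hmap := map_conj_eq_of_card hx hc
    have hcq := isDefectGroup_cq x⁻¹ hQ
    have hS₀eq : cq x⁻¹ Q = S₀ := by
      rw [← hmap]
      ext z
      rw [mem_cq]
      constructor
      · rintro ⟨s, hs, hs2⟩
        have h1 : (x⁻¹)⁻¹ * z * x⁻¹ = x * s * x⁻¹ := hs2.symm
        rw [inv_inv] at h1
        have h2 : z = s := by
          have := mul_left_cancel (mul_right_cancel h1)
          exact this
        rwa [h2]
      · intro hz
        exact ⟨z, hz, by simp⟩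
    rw [hS₀eq] at hcq
    exact hcq
  · omega

end Cfsg.Agent.H21
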