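import Cfsg.Agent.Lib.H21.FongReynolds
import Cfsg.Agent.Lib.H21.KnorrCover

/-!
# Graded structure of the centralizer of `RN` in `RG`, and a unit lemma
-/

set_option autoImplicit false
set_option linter.unusedSectionVars false
set_option linter.style.haveILetI false
set_option linter.unusedSimpArgs false
set_option linter.unusedVariables false

namespace Cfsg.Agent.H21

open scoped ComplexConjugate
open Cfsg Module Cfsg.Agent.H22

universe u

variable {G : Type u} [Group G] [Finite G]
variable {p : ℕ} [hp : Fact p.Prime] {M : Ideal AlgInt} [hMp : M.IsPrime]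

section Generic

variable {R X : Type*} [CommRing R] [AddCommGroup X] [Module R X]

/-- `I N` as a span. -/
def smulSpan (I : Ideal R) (L : Submodule R X) : Submodule R X :=
  Submodule.span R {y | ∃ c ∈ I, ∃ n ∈ L, y = c • n}

theorem smul_mem_smulSpan {I : Ideal R} {L : Submodule R X} {c : R} (hc : c ∈ I) {n : X} (hn : n ∈ L) :
    c • n ∈ smulSpan I L := Submodule.subset_span ⟨c, hc, n, hn, rfl⟩

theorem smulSpan_induction' {I : Ideal R} {L : Submodule R X} {P : X → Prop} {x : X}
    (hx : x ∈ smulSpan I L) (h0 : P 0) (hadd : ∀ a b, P a → P b → P (a + b))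
    (hsmul : ∀ c ∈ I, ∀ n ∈ L, P (c • n)) : P x := by
  refine Submodule.span_induction (p := fun y _ => P y) ?_ h0 (fun a b _ _ ha hb => hadd a b ha hb) ?_ hx
  · rintro _ ⟨c, hc, n, hn, rfl⟩
    exact hsmul c hc n hn
  · intro r y hy hPy
    -- every element of the span is a sum of generators
    have key : ∀ z ∈ Submodule.span R {y | ∃ c ∈ I, ∃ n ∈ L, y = c • n}, P z ∧ ∀ r : R, P (r • z) := by
      intro z hz
      induction hz using Submodule.span_induction with
      | mem y hy =>
        obtain ⟨c, hc, n, hn, rfl⟩ := hy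
        refine ⟨hsmul c hc n hn, fun r => ?_⟩
        rw [smul_smul]
        exact hsmul _ (I.mul_mem_left r hc) n hn
      | zero => exact ⟨h0, fun r => by rw [smul_zero]; exact h0⟩
      | add a b _ _ iha ihb =>
        exact ⟨hadd _ _ iha.1 ihb.1, fun r => by rw [smul_add]; exact hadd _ _ (iha.2 r) (ihb.2 r)⟩
      | smul r' a _ iha =>
        exact ⟨iha.2 r', fun r => by rw [smul_smul]; exact iha.2 _⟩
    exact (key y hy).2 r

/-- Nakayama, in the form used below. -/
theorem nakayama_smulSpan (I : Ideal R) (L : Submodule R X) (hfg : L.FG) (hle : L ≤ smulSpan I L) :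
    ∃ r : R, r - 1 ∈ I ∧ ∀ n ∈ L, r • n = 0 := by
  apply Submodule.exists_sub_one_mem_and_smul_eq_zero_of_fg_of_le_smul I L hfg
  refine hle.trans (Submodule.span_le.mpr ?_)
  rintro _ ⟨c, hc, n, hn, rfl⟩
  exact Submodule.smul_mem_smul hc hn

end Generic

section ConvAlg

theorem conv_assoc' (a b c : G → ℂ) : conv (conv a b) c = conv a (conv b c) := by
  funext g
  unfold conv
  simp only [Finset.sum_mul, Finset.mul_sum]
  rw [Finset.sum_comm]
  refine Finset.sum_congr rfl fun x _ => ?_
  refine Fintype.sum_equiv (Equiv.mulLeft x⁻¹) _ _ fun h => ?_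
  simp only [Equiv.coe_mulLeft]
  have : (x⁻¹ * h)⁻¹ * (x⁻¹ * g) = h⁻¹ * g := by group
  rw [this, mul_assoc]

theorem conv_add_left' (a b c : G → ℂ) : conv (a + b) c = conv a c + conv b c := by
  funext g
  simp only [conv, Pi.add_apply, add_mul, Finset.sum_add_distrib]

theorem conv_add_right' (a b c : G → ℂ) : conv a (b + c) = conv a b + conv a c := by
  funext g
  simp only [conv, Pi.add_apply, mul_add, Finset.sum_add_distrib]

theorem conv_zero_left' (c : G → ℂ) : conv 0 c = 0 := by
  funext g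
  simp [conv]

theorem conv_zero_right' (c : G → ℂ) : conv c 0 = 0 := by
  funext g
  simp [conv]

theorem conv_sum_right' {ι : Type*} (s : Finset ι) (a : G → ℂ) (b : ι → G → ℂ) :
    conv a (∑ i ∈ s, b i) = ∑ i ∈ s, conv a (b i) := by
  classical
  induction s using Finset.induction_on with
  | empty => simp [conv_zero_right']
  | insert i s hi ih => rw [Finset.sum_insert hi, Finset.sum_insert hi, conv_add_right', ih]

theorem conv_smul_right' (r : ℂ) (a b : G → ℂ) : conv a (r • b) = r • conv a b := by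
  funext g
  simp only [conv, Pi.smul_apply, smul_eq_mul, Finset.mul_sum]
  exact Finset.sum_congr rfl fun _ _ => by ring

/-- The identity of convolution. -/
noncomputable def delta1 (G : Type u) [Group G] : G → ℂ := by
  classical exact fun g => if g = 1 then 1 else 0

theorem delta1_apply_one : delta1 G 1 = 1 := by
  classical
  simp [delta1]

theorem delta1_apply_ne {g : G} (h : g ≠ 1) : delta1 G g = 0 := by
  classical
  simp [delta1, h]

theorem conv_delta1_right (a : G → ℂ) : conv a (delta1 G) = a := by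
  classical
  funext g
  unfold conv
  rw [Finset.sum_eq_single g]
  · rw [inv_mul_cancel, delta1_apply_one, mul_one]
  · intro h _ hne
    rw [delta1_apply_ne, mul_zero]
    intro h1
    apply hne
    rw [inv_mul_eq_one] at h1
    exact h1
  · simp

theorem conv_delta1_left (a : G → ℂ) : conv (delta1 G) a = a := by
  classical
  funext g
  unfold conv
  rw [Finset.sum_eq_single 1]
  · rw [delta1_apply_one, one_mul, inv_one, one_mul]
  · intro h _ hne
    rw [delta1_apply_ne hne, zero_mul]
  · simp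

/-- A class function commutes under convolution. -/
theorem conv_class_comm {f : G → ℂ} (hf : IsClassFunction G f) (a : G → ℂ) : conv f a = conv a f := by
  funext g
  unfold conv
  -- `∑ h, f h * a (h⁻¹ g) = ∑ h, a h * f (h⁻¹ g)`
  refine Fintype.sum_equiv ((Equiv.inv G).trans (Equiv.mulRight g)) _ _ fun h => ?_
  simp only [Equiv.trans_apply, Equiv.inv_apply, Equiv.coe_mulRight]
  have h1 : f ((h⁻¹ * g)⁻¹ * g) = f h := by
    have := hf h (h⁻¹ * g)⁻¹
    rw [← this]
    congr 1
    group
  rw [h1, mul_comm]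

end ConvAlg

section Graded

variable {N : Subgroup G} [hN : N.Normal]

/-- Functions commuting with `N`. -/
def CfN (N : Subgroup G) (x : G → ℂ) : Prop := ∀ n ∈ N, ∀ g, x (n * g * n⁻¹) = x g

theorem cfN_conv {a b : G → ℂ} (ha : CfN N a) (hb : CfN N b) : CfN N (conv a b) := by
  intro n hn g
  unfold conv
  refine (Fintype.sum_equiv (MulAut.conj n).toEquiv (fun h => a h * b (h⁻¹ * g)) _ fun h => ?_).symm
  simp only [MulEquiv.toEquiv_eq_coe, EquivLike.coe_coe, MulAut.conj_apply]
  rw [ha n hn h]
  congr 1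
  rw [← hb n hn (h⁻¹ * g)]
  congr 1
  group

/-- Functions supported on one coset of `N`. -/
def Homog (N : Subgroup G) (d : G ⧸ N) (x : G → ℂ) : Prop := ∀ g : G, (g : G ⧸ N) ≠ d → x g = 0

theorem homog_conv {a b : G → ℂ} {s t : G ⧸ N} (ha : Homog N s a) (hb : Homog N t b) :
    Homog N (s * t) (conv a b) := by
  intro g hg
  unfold conv
  refine Finset.sum_eq_zero fun h _ => ?_
  by_cases h1 : (h : G ⧸ N) = s
  · by_cases h2 : ((h⁻¹ * g : G) : G ⧸ N) = t
    · exfalso
      apply hg
      rw [← h1, ← h2, ← QuotientGroup.mk_mul, mul_inv_cancel_left]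
    · rw [hb _ h2, mul_zero]
  · rw [ha _ h1, zero_mul]

/-- The part of a function on one coset. -/
noncomputable def partN (N : Subgroup G) (s : G ⧸ N) (x : G → ℂ) : G → ℂ := by
  classical exact fun g : G => if (g : G ⧸ N) = s then x g else 0

theorem partN_of_eq {s : G ⧸ N} {g : G} (x : G → ℂ) (h : (g : G ⧸ N) = s) : partN N s x g = x g := by
  classical
  simp [partN, h]

theorem partN_of_ne {s : G ⧸ N} {g : G} (x : G → ℂ) (h : (g : G ⧸ N) ≠ s) : partN N s x g = 0 := by
  classical
  simp [partN, h]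

theorem homog_partN (s : G ⧸ N) (x : G → ℂ) : Homog N s (partN N s x) := fun _ h => partN_of_ne x h

theorem mk_conj_of_mem {n : G} (hn : n ∈ N) (g : G) : ((n * g * n⁻¹ : G) : G ⧸ N) = (g : G ⧸ N) := by
  have h1 : (n : G ⧸ N) = 1 := (QuotientGroup.eq_one_iff n).mpr hn
  rw [QuotientGroup.mk_mul, QuotientGroup.mk_mul, QuotientGroup.mk_inv, h1]
  simp

theorem cfN_partN (s : G ⧸ N) {x : G → ℂ} (hx : CfN N x) : CfN N (partN N s x) := by
  intro n hn g
  by_cases h : (g : G ⧸ N) = s
  · rw [partN_of_eq x h, partN_of_eq x ((mk_conj_of_mem hn g).trans h), hx n hn g]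
  · rw [partN_of_ne x h, partN_of_ne x (fun h2 => h ((mk_conj_of_mem hn g).symm.trans h2))]

theorem mlr_partN (s : G ⧸ N) {x : G → ℂ} (hx : ∀ g, MemLocalRing M (x g)) (g : G) :
    MemLocalRing M (partN N s x g) := by
  by_cases h : (g : G ⧸ N) = s
  · rw [partN_of_eq x h]; exact hx g
  · rw [partN_of_ne x h]; exact mlr_zero

theorem sum_partN [Fintype (G ⧸ N)] (x : G → ℂ) : ∑ s : G ⧸ N, partN N s x = x := by
  classical
  funext g
  rw [Finset.sum_apply, Finset.sum_eq_single (g : G ⧸ N)]
  · exact partN_of_eq x rfl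
  · intro s _ hs
    exact partN_of_ne x (Ne.symm hs)
  · simp

theorem homog_delta1 : Homog N (1 : G ⧸ N) (delta1 G) := by
  intro g hg
  apply delta1_apply_ne
  rintro rfl
  exact hg rfl

theorem cfN_delta1 : CfN N (delta1 G) := by
  intro n _ g
  by_cases h : g = 1
  · subst h
    simp [delta1_apply_one]
  · rw [delta1_apply_ne h, delta1_apply_ne]
    intro h2
    apply h
    have : g = n⁻¹ * (n * g * n⁻¹) * n := by group
    rw [this, h2]
    group

theorem mlr_delta1 (g : G) : MemLocalRing M (delta1 G g) := by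
  by_cases h : g = 1
  · subst h
    rw [delta1_apply_one]
    exact mlr_one
  · rw [delta1_apply_ne h]
    exact mlr_zero

/-- The ring of central elements of `RN`. -/
abbrev ZRing (M : Ideal AlgInt) [M.IsPrime] (N : Subgroup G) := ↥(ZR M : Subalgebra (locR M) (IrrCharacter N → ℂ))

/-- The action of the centre of `RN` from the right. -/
@[reducible] noncomputable def lamModule : Module (ZRing M N) (G → ℂ) where
  smul c x := conv x (extK N (ofOm c.1))
  one_smul x := by
    show conv x (extK N (ofOm (1 : IrrCharacter N → ℂ))) = x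
    have h1 : extK N (ofOm (1 : IrrCharacter N → ℂ)) = delta1 G := by
      classical
      funext g
      by_cases hg : g ∈ N
      · rw [extK_of_mem N _ hg, ofOm_one]
        by_cases h1 : g = 1
        · subst h1
          have : (⟨1, hg⟩ : N) = 1 := rfl
          simp [this, delta1_apply_one]
        · have : (⟨g, hg⟩ : N) ≠ 1 := fun h => h1 (congrArg Subtype.val h)
          simp [this, delta1_apply_ne h1]
      · rw [extK_of_not_mem N _ hg, delta1_apply_ne]
        rintro rfl
        exact hg N.one_mem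
    rw [h1, conv_delta1_right]
  mul_smul c d x := by
    show conv x (extK N (ofOm (c.1 * d.1))) = conv (conv x (extK N (ofOm d.1))) (extK N (ofOm c.1))
    rw [conv_assoc', conv_extK, mul_comm, ofOm_mul]
  smul_zero c := conv_zero_left' _
  smul_add c x y := conv_add_left' _ _ _
  add_smul c d x := by
    show conv x (extK N (ofOm (c.1 + d.1))) = conv x (extK N (ofOm c.1)) + conv x (extK N (ofOm d.1))
    rw [← conv_add_right']
    congr 1
    rw [ofOm_add]
    funext g
    by_cases hg : g ∈ N
    · simp only [Pi.add_apply, extK_of_mem N _ hg]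
    · simp only [Pi.add_apply, extK_of_not_mem N _ hg, add_zero]
  zero_smul x := by
    show conv x (extK N (ofOm (0 : IrrCharacter N → ℂ))) = 0
    have : extK N (ofOm (0 : IrrCharacter N → ℂ)) = 0 := by
      funext g
      by_cases hg : g ∈ N
      · rw [extK_of_mem N _ hg, ofOm_zero]
        rfl
      · rw [extK_of_not_mem N _ hg]
        rfl
    rw [this, conv_zero_right']

attribute [local instance] lamModule

theorem smul_def (c : ZRing M N) (x : G → ℂ) : c • x = conv x (extK N (ofOm c.1)) := rfl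

theorem extK_mlr {a : N → ℂ} (ha : ∀ n, MemLocalRing M (a n)) (g : G) :
    MemLocalRing M (extK N a g) := by
  by_cases hg : g ∈ N
  · rw [extK_of_mem N _ hg]; exact ha _
  · rw [extK_of_not_mem N _ hg]; exact mlr_zero

theorem cfN_extK {a : N → ℂ} (ha : IsClassFunction N a) : CfN N (extK N a) := by
  intro n hn g
  by_cases hg : g ∈ N
  · have hg' : n * g * n⁻¹ ∈ N := N.mul_mem (N.mul_mem hn hg) (N.inv_mem hn)
    rw [extK_of_mem N _ hg, extK_of_mem N _ hg']
    exact ha ⟨g, hg⟩ ⟨n, hn⟩
  · have hg' : n * g * n⁻¹ ∉ N := by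
      intro h
      apply hg
      have := N.mul_mem (N.mul_mem (N.inv_mem hn) h) hn
      have e : n⁻¹ * (n * g * n⁻¹) * n = g := by group
      rwa [e] at this
    rw [extK_of_not_mem N _ hg, extK_of_not_mem N _ hg']

/-- The `R`-form `Λ` of the centralizer of `RN` in `RG`. -/
def lamSub (M : Ideal AlgInt) [M.IsPrime] (N : Subgroup G) [N.Normal] : Submodule (ZRing M N) (G → ℂ) where
  carrier := {x | (∀ g, MemLocalRing M (x g)) ∧ CfN N x}
  add_mem' := by
    rintro a b ⟨h1, h2⟩ ⟨h3, h4⟩
    refine ⟨fun g => mlr_add (h1 g) (h3 g), fun n hn g => ?_⟩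
    show a _ + b _ = a _ + b _
    rw [h2 n hn g, h4 n hn g]
  zero_mem' := ⟨fun _ => mlr_zero, fun _ _ _ => rfl⟩
  smul_mem' := by
    rintro c x ⟨h1, h2⟩
    refine ⟨conv_mlr h1 (extK_mlr c.2), cfN_conv h2 (cfN_extK (ofOm_isClass _))⟩

theorem mem_lamSub {x : G → ℂ} :
    x ∈ lamSub M N ↔ (∀ g, MemLocalRing M (x g)) ∧ CfN N x := Iff.rfl

theorem conv_mem_lam {a b : G → ℂ} (ha : a ∈ lamSub M N) (hb : b ∈ lamSub M N) :
    conv a b ∈ lamSub M N :=
  ⟨conv_mlr ha.1 hb.1, cfN_conv ha.2 hb.2⟩

/-- The ideal of the centre of `RN` of the elements vanishing on `b` modulo `M`. -/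
def idealOfBlock (M : Ideal AlgInt) [M.IsPrime] (b : Set (IrrCharacter N)) : Ideal (ZRing M N) where
  carrier := {c | ∀ θ ∈ b, MemLocalIdeal M (c.1 θ)}
  add_mem' := by
    intro c d hc hd θ hθ
    exact mli_add (hc θ hθ) (hd θ hθ)
  zero_mem' := fun θ _ => mli_zero
  smul_mem' := by
    intro c d hd θ hθ
    exact mli_mul_left (hd θ hθ) (ZR_values c.2 θ)

/-- The restriction to `N`. -/
def resN (N : Subgroup G) (x : G → ℂ) : N → ℂ := fun n => x n

theorem resN_isClass {x : G → ℂ} (hx : CfN N x) : IsClassFunction N (resN N x) := by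
  intro g k
  exact hx k k.2 g

theorem extK_resN {x : G → ℂ} (hx : Homog N (1 : G ⧸ N) x) : extK N (resN N x) = x := by
  funext g
  by_cases hg : g ∈ N
  · rw [extK_of_mem N _ hg]
    rfl
  · rw [extK_of_not_mem N _ hg, hx g]
    intro h
    exact hg ((QuotientGroup.eq_one_iff g).mp h)

/-- An element of degree one in `Λ`, as an element of the centre of `RN`. -/
noncomputable def toZ {x : G → ℂ} (hx : x ∈ lamSub M N) : ZRing M N :=
  ⟨fun θ => om θ (resN N x), om_mem_ZR (resN_isClass hx.2) fun n => hx.1 n⟩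

theorem extK_toZ {x : G → ℂ} (hx : x ∈ lamSub M N) (h1 : Homog N (1 : G ⧸ N) x) :
    extK N (ofOm (toZ hx).1) = x := by
  show extK N (ofOm fun θ => om θ (resN N x)) = x
  have : (ofOm fun θ => om θ (resN N x)) = resN N x := ofOm_om _ (resN_isClass hx.2)
  rw [this, extK_resN h1]

section Walk

variable {f : G → ℂ} {b : Set (IrrCharacter N)}

/-- The walk along the cosets: if no element `u f_s` of degree one is a unit on `b`, then
`f` lies in `I Λ`. -/
theorem walk (hfc : IsClassFunction G f) (hfR : ∀ g, MemLocalRing M (f g))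
    (hff : conv f f = f)
    (hH : ∀ (s : G ⧸ N) (u : G → ℂ), u ∈ lamSub M N → Homog N s⁻¹ u →
      ∀ θ ∈ b, MemLocalIdeal M (om θ (resN N (conv u (partN N s f))))) :
    ∀ (n : ℕ) (V : Finset (G ⧸ N)) (d : G ⧸ N) (y : G → ℂ), N.index ≤ V.card + n → y ∈ lamSub M N →
      Homog N d y → d ∈ V →
      (∀ v ∈ V, ∃ A B : G → ℂ, A ∈ lamSub M N ∧ Homog N v A ∧ B ∈ lamSub M N ∧ Homog N (v⁻¹ * d) B ∧
        y = conv A B) →
      conv y f ∈ smulSpan (idealOfBlock M b) (lamSub M N) := by
  classical
  haveI : Fintype (G ⧸ N) := Fintype.ofFinite _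
  have hfL : f ∈ lamSub M N := ⟨hfR, fun n hn g => hfc g n⟩
  have hright : ∀ x, x ∈ smulSpan (idealOfBlock M b) (lamSub M N) →
      conv x f ∈ smulSpan (idealOfBlock M b) (lamSub M N) := by
    intro x hx
    refine smulSpan_induction' (P := fun x => conv x f ∈ smulSpan (idealOfBlock M b) (lamSub M N)) hx ?_ ?_ ?_
    · rw [conv_zero_left']
      exact Submodule.zero_mem _
    · intro a c ha hc
      rw [conv_add_left']
      exact Submodule.add_mem _ ha hc
    · intro r hr n hn
      have : conv (r • n) f = r • (conv n f) := by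
        rw [smul_def, smul_def, conv_assoc', ← conv_class_comm hfc (extK N (ofOm r.1)), conv_assoc']
      rw [this]
      exact smul_mem_smulSpan hr (conv_mem_lam hn hfL)
  intro n
  induction n using Nat.strong_induction_on with
  | _ n ih =>
    intro V d y hV hy hyd hdV hdec
    have h1 : conv y f = ∑ s : G ⧸ N, conv (conv y (partN N s f)) f := by
      have h2 : conv y f = conv (conv y f) f := by rw [conv_assoc', hff]
      have h3 : conv y f = ∑ s : G ⧸ N, conv y (partN N s f) := by
        rw [← conv_sum_right', sum_partN]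
      rw [h2]
      conv_lhs => rw [h3]
      have : ∀ (t : Finset (G ⧸ N)) (F : G ⧸ N → G → ℂ), conv (∑ s ∈ t, F s) f = ∑ s ∈ t, conv (F s) f := by
        intro t F
        induction t using Finset.induction_on with
        | empty => simp [conv_zero_left']
        | insert i s hi ih2 => rw [Finset.sum_insert hi, Finset.sum_insert hi, conv_add_left', ih2]
      rw [this]
    rw [h1]
    refine Submodule.sum_mem _ fun s _ => ?_
    have hpart : partN N s f ∈ lamSub M N := ⟨mlr_partN s hfR, cfN_partN s hfL.2⟩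
    set y' := conv y (partN N s f) with hy'
    have hy'L : y' ∈ lamSub M N := conv_mem_lam hy hpart
    have hy'd : Homog N (d * s) y' := homog_conv hyd (homog_partN s f)
    by_cases hd' : d * s ∈ V
    · apply hright
      obtain ⟨A, B, hA, hAd, hB, hBd, hyAB⟩ := hdec _ hd'
      have hBs : Homog N s⁻¹ B := by
        have : (d * s)⁻¹ * d = s⁻¹ := by group
        rwa [this] at hBd
      set j := conv B (partN N s f) with hj
      have hjL : j ∈ lamSub M N := conv_mem_lam hB hpart
      have hjd : Homog N (1 : G ⧸ N) j := by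
        have := homog_conv hBs (homog_partN s f)
        rwa [inv_mul_cancel] at this
      have hmem : toZ hjL ∈ idealOfBlock M b := fun θ hθ => hH s B hB hBs θ hθ
      have he : y' = toZ hjL • A := by
        rw [smul_def, extK_toZ hjL hjd, hy', hyAB, conv_assoc']
      rw [he]
      exact smul_mem_smulSpan hmem hA
    · have hcard : V.card < N.index := by
        have h2 : (insert (d * s) V).card ≤ Fintype.card (G ⧸ N) := Finset.card_le_univ _
        rw [Finset.card_insert_of_notMem hd'] at h2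
        have h3 : Fintype.card (G ⧸ N) = N.index := by
          rw [Subgroup.index, Nat.card_eq_fintype_card]
        omega
      have hn : n ≠ 0 := by
        rintro rfl
        omega
      refine ih (n - 1) (by omega) (insert (d * s) V) (d * s) y' ?_ hy'L hy'd
        (Finset.mem_insert_self _ _) ?_
      · rw [Finset.card_insert_of_notMem hd']
        omega
      · intro v hv
        rcases Finset.mem_insert.mp hv with rfl | hv
        · refine ⟨y', delta1 G, hy'L, hy'd, ⟨mlr_delta1, cfN_delta1⟩, ?_, (conv_delta1_right _).symm⟩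
          rw [inv_mul_cancel]
          exact homog_delta1
        · obtain ⟨A, B, hA, hAd, hB, hBd, hyAB⟩ := hdec v hv
          refine ⟨A, conv B (partN N s f), hA, hAd, conv_mem_lam hB hpart, ?_, ?_⟩
          · have := homog_conv hBd (homog_partN s f)
            rwa [mul_assoc] at this
          · rw [hy', hyAB, conv_assoc']

end Walk

section Orbits

/-- Indicator of an `N`-orbit. -/
noncomputable def orbN (N : Subgroup G) (g : G) : G → ℂ := by
  classical exact fun y => if ∃ n ∈ N, y = n * g * n⁻¹ then 1 else 0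

theorem orbN_of_mem {g y : G} (h : ∃ n ∈ N, y = n * g * n⁻¹) : orbN N g y = 1 := by
  classical
  exact if_pos h

theorem orbN_of_not_mem {g y : G} (h : ¬ ∃ n ∈ N, y = n * g * n⁻¹) : orbN N g y = 0 := by
  classical
  exact if_neg h

theorem orbN_self (g : G) : orbN N g g = 1 := orbN_of_mem ⟨1, N.one_mem, by simp⟩

theorem orbN_rel_iff {g y n₀ : G} (hn₀ : n₀ ∈ N) :
    (∃ n ∈ N, n₀ * y * n₀⁻¹ = n * g * n⁻¹) ↔ ∃ n ∈ N, y = n * g * n⁻¹ := by
  constructor
  · rintro ⟨n, hn, h⟩
    refine ⟨n₀⁻¹ * n, N.mul_mem (N.inv_mem hn₀) hn, ?_⟩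
    have : y = n₀⁻¹ * (n₀ * y * n₀⁻¹) * n₀ := by group
    rw [this, h]
    group
  · rintro ⟨n, hn, rfl⟩
    refine ⟨n₀ * n, N.mul_mem hn₀ hn, ?_⟩
    group

theorem cfN_orbN (g : G) : CfN N (orbN N g) := by
  intro n hn y
  by_cases h : ∃ n' ∈ N, y = n' * g * n'⁻¹
  · rw [orbN_of_mem h, orbN_of_mem ((orbN_rel_iff hn).mpr h)]
  · rw [orbN_of_not_mem h, orbN_of_not_mem (fun h2 => h ((orbN_rel_iff hn).mp h2))]

theorem orbN_mem_lam (g : G) : orbN N g ∈ lamSub M N := by
  refine ⟨fun y => ?_, cfN_orbN g⟩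
  by_cases h : ∃ n' ∈ N, y = n' * g * n'⁻¹
  · rw [orbN_of_mem h]; exact mlr_one
  · rw [orbN_of_not_mem h]; exact mlr_zero

theorem orbN_eq_of_mem {g y : G} (h : ∃ n ∈ N, y = n * g * n⁻¹) : orbN N y = orbN N g := by
  obtain ⟨n, hn, rfl⟩ := h
  funext z
  have key : (∃ m ∈ N, z = m * (n * g * n⁻¹) * m⁻¹) ↔ ∃ m ∈ N, z = m * g * m⁻¹ := by
    constructor
    · rintro ⟨m, hm, rfl⟩
      exact ⟨m * n, N.mul_mem hm hn, by group⟩
    · rintro ⟨m, hm, rfl⟩
      exact ⟨m * n⁻¹, N.mul_mem hm (N.inv_mem hn), by group⟩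
  by_cases h : ∃ m ∈ N, z = m * g * m⁻¹
  · rw [orbN_of_mem h, orbN_of_mem (key.mpr h)]
  · rw [orbN_of_not_mem h, orbN_of_not_mem (fun h2 => h (key.mp h2))]

/-- Expansion along orbits. -/
theorem exists_orbit_expansion : ∃ (𝓞 : Finset G), ∀ x : G → ℂ, CfN N x →
    x = ∑ o ∈ 𝓞, x o • orbN N o := by
  classical
  -- choose a transversal through `Finset.image`
  let rep : G → G := fun g => Classical.epsilon fun y => orbN N y = orbN N g
  have hrep : ∀ g, orbN N (rep g) = orbN N g := fun g =>
    Classical.epsilon_spec (p := fun y => orbN N y = orbN N g) ⟨g, rfl⟩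
  have hrep2 : ∀ g h, orbN N g = orbN N h → rep g = rep h := by
    intro g h e
    simp only [rep, e]
  refine ⟨Finset.univ.image rep, fun x hx => ?_⟩
  funext y
  rw [Finset.sum_apply, Finset.sum_eq_single (rep y)]
  · have h1 : orbN N (rep y) y = 1 := by
      rw [hrep]
      exact orbN_self y
    have h2 : ∃ n ∈ N, y = n * rep y * n⁻¹ := by
      by_contra hc
      rw [orbN_of_not_mem hc] at h1
      exact zero_ne_one h1
    obtain ⟨n, hn, he⟩ := h2
    simp only [Pi.smul_apply, smul_eq_mul, h1, mul_one]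
    conv_lhs => rw [he]
    exact hx n hn _
  · intro o ho hne
    obtain ⟨g, -, rfl⟩ := Finset.mem_image.mp ho
    have h1 : orbN N (rep g) y = 0 := by
      by_contra hc
      have h2 : ∃ n ∈ N, y = n * rep g * n⁻¹ := by
        by_contra hc2
        exact hc (orbN_of_not_mem hc2)
      have h3 := orbN_eq_of_mem h2
      apply hne
      have h4 := hrep g
      exact (hrep2 _ _ (h3.trans h4)).symm
    simp [h1]
  · intro h
    exact absurd (Finset.mem_image.mpr ⟨y, Finset.mem_univ _, rfl⟩) h

end Orbits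

section Unit

variable {B : Set (IrrCharacter G)} {b : Set (IrrCharacter N)}

theorem extK_smul (r : ℂ) (a : N → ℂ) : extK N (r • a) = r • extK N a := by
  funext g
  by_cases hg : g ∈ N
  · simp only [Pi.smul_apply, extK_of_mem N _ hg]
  · simp only [Pi.smul_apply, extK_of_not_mem N _ hg, smul_zero]

theorem extK_ofOm_one : extK N (ofOm (1 : IrrCharacter N → ℂ)) = delta1 G := by
  classical
  funext g
  by_cases hg : g ∈ N
  · rw [extK_of_mem N _ hg, ofOm_one]
    by_cases h1 : g = 1
    · subst h1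
      have : (⟨1, hg⟩ : N) = 1 := rfl
      simp [this, delta1_apply_one]
    · have : (⟨g, hg⟩ : N) ≠ 1 := fun h => h1 (congrArg Subtype.val h)
      simp [this, delta1_apply_ne h1]
  · rw [extK_of_not_mem N _ hg, delta1_apply_ne]
    rintro rfl
    exact hg N.one_mem

/-- Scalars from the local ring. -/
noncomputable def constZ {r : ℂ} (hr : MemLocalRing M r) : ZRing M N :=
  ⟨fun _ => r, const_mem_ZR hr⟩

theorem constZ_smul {r : ℂ} (hr : MemLocalRing M r) (x : G → ℂ) :
    (constZ hr : ZRing M N) • x = r • x := by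
  rw [smul_def]
  show conv x (extK N (ofOm (fun _ => r))) = r • x
  have h1 : (fun _ => r : IrrCharacter N → ℂ) = r • (1 : IrrCharacter N → ℂ) := by
    funext θ
    simp
  rw [h1, ofOm_smul, extK_smul, extK_ofOm_one, conv_smul_right', conv_delta1_right]

/-- The central idempotent of `θ`, as a function on `G`. -/
noncomputable def deltaTheta (θ : IrrCharacter N) : G → ℂ :=
  extK N (ofOm (eB ({θ} : Set (IrrCharacter N))))

theorem ofOm_eB_single (θ : IrrCharacter N) (n : N) :
    ofOm (eB ({θ} : Set (IrrCharacter N))) n = (Nat.card N : ℂ)⁻¹ * (θ.1 1 * conj (θ.1 n)) := by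
  classical
  unfold ofOm
  congr 1
  rw [Finset.sum_eq_single θ]
  · rw [eB_apply_mem (Set.mem_singleton θ), one_mul]
  · intro ψ _ hψ
    rw [eB_apply_not_mem (fun h => hψ (Set.mem_singleton_iff.mp h)), zero_mul]
  · simp

theorem om_deltaTheta (χ : IrrCharacter G) (θ : IrrCharacter N) :
    om χ (deltaTheta θ) = (χ.1 1)⁻¹ * ((Nat.card N : ℂ)⁻¹ * θ.1 1 * ∑ n : N, conj (θ.1 n) * χ.1 n) := by
  classical
  unfold om
  congr 1
  rw [sum_eq_sum_subgroup N _ (fun g hg => by
    unfold deltaTheta
    rw [extK_of_not_mem N _ hg, zero_mul])]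
  rw [Finset.mul_sum]
  refine Finset.sum_congr rfl fun n _ => ?_
  unfold deltaTheta
  rw [extK_of_mem N _ n.2]
  have : (⟨(n : G), n.2⟩ : N) = n := rfl
  rw [this, ofOm_eB_single]
  ring

theorem deltaTheta_idem (θ : IrrCharacter N) :
    conv (deltaTheta (G := G) θ) (deltaTheta θ) = deltaTheta θ := by
  unfold deltaTheta
  rw [conv_extK, ← ofOm_mul]
  congr 2
  funext ψ
  by_cases h : ψ ∈ ({θ} : Set (IrrCharacter N))
  · simp [eB_apply_mem h]
  · simp [eB_apply_not_mem h]

/-- Multiplying by `δ_θ` extracts the value at `θ`. -/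
theorem conv_ofOm_deltaTheta (c : IrrCharacter N → ℂ) (θ : IrrCharacter N) (x : G → ℂ) :
    conv (conv x (extK N (ofOm c))) (deltaTheta θ) = c θ • conv x (deltaTheta θ) := by
  unfold deltaTheta
  rw [conv_assoc', conv_extK, ← ofOm_mul]
  have h1 : c * eB ({θ} : Set (IrrCharacter N)) = c θ • eB ({θ} : Set (IrrCharacter N)) := by
    funext ψ
    by_cases h : ψ ∈ ({θ} : Set (IrrCharacter N))
    · have h2 : ψ = θ := h
      subst h2
      simp
    · simp [eB_apply_not_mem h]
  rw [h1, ofOm_smul, extK_smul, conv_smul_right']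

/-- **If no component of `f` is a unit on `b` then `B` does not cover `b`.** -/
theorem no_unit_contra (hB : IsPBlock M B) {χ : IrrCharacter G} (hχ : χ ∈ B) {θ : IrrCharacter N}
    (hθ : θ ∈ b) (hne : ∑ n : N, conj (θ.1 n) * χ.1 n ≠ 0)
    (hH : ∀ (s : G ⧸ N) (u : G → ℂ), u ∈ lamSub M N → Homog N s⁻¹ u →
      ∀ θ ∈ b, MemLocalIdeal M (om θ (resN N (conv u (partN N s (blockCoeff B)))))) : False := by
  classical
  set f := blockCoeff B with hf
  have hfc : IsClassFunction G f := blockCoeff_isClass B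
  have hfR : ∀ g, MemLocalRing M (f g) := blockCoeff_mlr hB
  have hff : conv f f = f := blockCoeff_conv_self B
  have hfL : f ∈ lamSub M N := ⟨hfR, fun n hn g => hfc g n⟩
  have hmem : f ∈ smulSpan (idealOfBlock M b) (lamSub M N) := by
    have h1 := walk hfc hfR hff hH N.index {1} 1 (delta1 G) (by omega) ⟨mlr_delta1, cfN_delta1⟩
      homog_delta1 (Finset.mem_singleton_self _) (by
        intro v hv
        rw [Finset.mem_singleton.mp hv]
        refine ⟨delta1 G, delta1 G, ⟨mlr_delta1, cfN_delta1⟩, homog_delta1, ⟨mlr_delta1, cfN_delta1⟩, ?_,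
          (conv_delta1_right _).symm⟩
        rw [inv_mul_cancel]
        exact homog_delta1)
    rwa [conv_delta1_left] at h1
  obtain ⟨𝓞, hexp⟩ := exists_orbit_expansion (N := N)
  set L : Submodule (ZRing M N) (G → ℂ) :=
    Submodule.span (ZRing M N) (Set.range fun g : G => conv f (orbN N g)) with hL
  have hfg : L.FG := Submodule.fg_span (Set.finite_range _)
  have hconvL : ∀ x, x ∈ lamSub M N → conv f x ∈ L := by
    intro x hx
    rw [hexp x hx.2, conv_sum_right']
    refine Submodule.sum_mem _ fun o _ => ?_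
    rw [conv_smul_right', ← constZ_smul (N := N) (hx.1 o)]
    exact Submodule.smul_mem _ _ (Submodule.subset_span ⟨o, rfl⟩)
  have hle : L ≤ smulSpan (idealOfBlock M b) L := by
    refine Submodule.span_le.mpr ?_
    rintro _ ⟨g, rfl⟩
    have h1 : conv f (conv (orbN N g) f) ∈ smulSpan (idealOfBlock M b) L := by
      refine smulSpan_induction' (P := fun x => conv f (conv (orbN N g) x) ∈ smulSpan (idealOfBlock M b) L)
        hmem ?_ ?_ ?_
      · simp only [conv_zero_right']
        exact Submodule.zero_mem _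
      · intro a c ha hc
        simp only [conv_add_right']
        exact Submodule.add_mem _ ha hc
      · intro r hr n hn
        have : conv f (conv (orbN N g) (r • n)) = r • conv f (conv (orbN N g) n) := by
          rw [smul_def, smul_def]
          simp only [← conv_assoc']
        rw [this]
        exact smul_mem_smulSpan hr (hconvL _ (conv_mem_lam (orbN_mem_lam g) hn))
    have h2 : conv f (conv (orbN N g) f) = conv f (orbN N g) := by
      rw [← conv_class_comm hfc (orbN N g), ← conv_assoc', hff]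
    rw [h2] at h1
    exact h1
  obtain ⟨r, hr1, hr2⟩ := nakayama_smulSpan (idealOfBlock M b) L hfg hle
  have hfLL : f ∈ L := by
    have := hconvL f hfL
    rwa [hff] at this
  have h0 := hr2 f hfLL
  rw [smul_def] at h0
  have h1 := conv_ofOm_deltaTheta (G := G) (N := N) r.1 θ f
  rw [h0, conv_zero_left'] at h1
  have hrθ : r.1 θ ≠ 0 := by
    intro h
    have h2 : MemLocalIdeal M ((r - 1).1 θ) := hr1 θ hθ
    have h3 : (r - 1).1 θ = r.1 θ - 1 := rfl
    rw [h3, h, zero_sub] at h2
    exact not_mli_one (by simpa using mli_neg h2)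
  have h2 : conv f (deltaTheta θ) = 0 := by
    have := h1.symm
    exact (smul_eq_zero.mp this).resolve_left hrθ
  have h3 := om_conv f (deltaTheta θ) hfc χ
  rw [h2, om_blockCoeff_self, eB_apply_mem hχ, one_mul] at h3
  have h4 : om χ (0 : G → ℂ) = 0 := by simp [om]
  rw [h4, om_deltaTheta] at h3
  have hχ1 := irr_one_ne_zero' χ
  have hθ1 := irr_one_ne_zero' θ
  have hc : (Nat.card N : ℂ) ≠ 0 := card_ne_zero_C
  have : (χ.1 1)⁻¹ * ((Nat.card N : ℂ)⁻¹ * θ.1 1 * ∑ n : N, conj (θ.1 n) * χ.1 n) ≠ 0 :=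
    mul_ne_zero (inv_ne_zero hχ1) (mul_ne_zero (mul_ne_zero (inv_ne_zero hc) hθ1) hne)
  exact this h3.symm

/-- **The unit lemma.** -/
theorem exists_unit (hB : IsPBlock M B) {χ : IrrCharacter G} (hχ : χ ∈ B) {θ : IrrCharacter N}
    (hθ : θ ∈ b) (hne : ∑ n : N, conj (θ.1 n) * χ.1 n ≠ 0) :
    ∃ (s : G ⧸ N) (u : G → ℂ), u ∈ lamSub M N ∧ Homog N s⁻¹ u ∧ ∃ θ' ∈ b,
      ¬ MemLocalIdeal M (om θ' (resN N (conv u (partN N s (blockCoeff B))))) := by
  by_contra hcon
  push Not at hcon
  exact no_unit_contra hB hχ hθ hne hcon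

end Unit

section Conseq

variable {B : Set (IrrCharacter G)} {b : Set (IrrCharacter N)}

theorem ofOm_inv_eB {K : Type*} [Group K] [Finite K] (S : Set (IrrCharacter K)) (g : K) :
    ofOm (eB S) g⁻¹ = conj (ofOm (eB S) g) := by
  unfold ofOm
  rw [map_mul, map_sum, map_inv₀, Complex.conj_natCast]
  congr 1
  refine Finset.sum_congr rfl fun χ _ => ?_
  rw [map_mul, map_mul, irr_inv', Complex.conj_conj, irr_one_eq χ, Complex.conj_natCast]
  congr 1
  by_cases h : χ ∈ S
  · rw [eB_apply_mem h, map_one]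
  · rw [eB_apply_not_mem h, map_zero]

theorem deltaTheta_inv (θ : IrrCharacter N) (g : G) :
    deltaTheta θ g⁻¹ = conj (deltaTheta θ g) := by
  classical
  unfold deltaTheta
  by_cases hg : g ∈ N
  · rw [extK_of_mem N _ hg, extK_of_mem N _ (N.inv_mem hg)]
    exact ofOm_inv_eB _ (⟨g, hg⟩ : N)
  · rw [extK_of_not_mem N _ hg, extK_of_not_mem N _ (fun h => hg (by simpa using N.inv_mem h)), map_zero]

theorem blockCoeff_inv' (S : Set (IrrCharacter G)) (g : G) :
    blockCoeff S g⁻¹ = conj (blockCoeff S g) := by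
  rw [blockCoeff_eq_ofOm, blockCoeff_eq_ofOm]
  exact ofOm_inv_eB S g

/-- If `θ` lies under no member of `B`, then `e_B e_θ = 0`. -/
theorem conv_block_delta_zero {θ : IrrCharacter N} (h : ∀ χ ∈ B, ∑ n : N, conj (θ.1 n) * χ.1 n = 0) :
    conv (blockCoeff B) (deltaTheta θ) = 0 := by
  classical
  set f := blockCoeff B with hf
  set δ : G → ℂ := deltaTheta θ with hδ
  set F := conv f δ with hF
  have hfc : IsClassFunction G f := blockCoeff_isClass B
  have hconj : ∀ x, conv δ f x⁻¹ = conj (F x) := by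
    intro x
    rw [hF]
    unfold conv
    rw [map_sum]
    refine Fintype.sum_equiv (Equiv.mulLeft x) _ _ fun m => ?_
    simp only [Equiv.coe_mulLeft]
    have e1 : (x * m)⁻¹ * x = m⁻¹ := by group
    rw [e1, map_mul, ← blockCoeff_inv' B, hδ, ← deltaTheta_inv, inv_inv, mul_comm, mul_inv_rev]
  have hFF : conv F (conv δ f) = F := by
    rw [hF, conv_assoc', ← conv_assoc' δ δ f, hδ, deltaTheta_idem, ← hδ,
      ← conv_class_comm hfc δ, ← conv_assoc', hf, blockCoeff_conv_self]
  have h1 : ∑ x, F x * conj (F x) = F 1 := by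
    have := congrFun hFF 1
    conv_rhs => rw [← this]
    unfold conv
    refine Finset.sum_congr rfl fun x _ => ?_
    rw [mul_one]
    congr 1
    exact (hconj x).symm
  have h2 : F 1 = 0 := by
    rw [hF]
    unfold conv
    rw [sum_eq_sum_subgroup N _ (fun g hg => by
      have hg' : g⁻¹ * 1 ∉ N := by
        rw [mul_one]
        exact fun h => hg (by simpa using N.inv_mem h)
      rw [hδ]
      unfold deltaTheta
      rw [extK_of_not_mem N _ hg', mul_zero])]
    have h3 : ∀ n : N, f n * δ ((n : G)⁻¹ * 1) =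
        (Nat.card N : ℂ)⁻¹ * θ.1 1 * (f n * θ.1 n) := by
      intro n
      have h4 : δ ((n : G)⁻¹ * 1) = (Nat.card N : ℂ)⁻¹ * (θ.1 1 * θ.1 n) := by
        rw [mul_one, hδ]
        unfold deltaTheta
        have hmem : ((n : G)⁻¹) ∈ N := N.inv_mem n.2
        rw [extK_of_mem N _ hmem]
        have e : (⟨(n : G)⁻¹, hmem⟩ : N) = n⁻¹ := rfl
        rw [e, ofOm_eB_single, irr_inv', Complex.conj_conj]
      rw [h4]
      ring
    simp only [h3]
    rw [← Finset.mul_sum]
    have h5 : ∑ n : N, f n * θ.1 n = 0 := by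
      have h6 : ∀ n : N, f n * θ.1 n = (Nat.card G : ℂ)⁻¹ * ∑ χ : IrrCharacter G,
          eB B χ * (χ.1 1 * (conj (χ.1 n) * θ.1 n)) := by
        intro n
        rw [hf, blockCoeff_eq_ofOm]
        unfold ofOm
        rw [mul_assoc, Finset.sum_mul]
        congr 1
        exact Finset.sum_congr rfl fun _ _ => by ring
      simp only [h6]
      rw [← Finset.mul_sum, Finset.sum_comm]
      have h7 : ∀ χ : IrrCharacter G, ∑ n : N, eB B χ * (χ.1 1 * (conj (χ.1 n) * θ.1 n)) = 0 := by
        intro χ
        by_cases hχ : χ ∈ B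
        · rw [← Finset.mul_sum, ← Finset.mul_sum]
          have h8 := congrArg conj (h χ hχ)
          rw [map_sum, map_zero] at h8
          have h9 : ∑ n : N, conj (χ.1 n) * θ.1 n = 0 := by
            rw [← h8]
            refine Finset.sum_congr rfl fun n _ => ?_
            rw [map_mul, Complex.conj_conj, mul_comm]
          rw [h9]
          simp
        · simp [eB_apply_not_mem hχ]
      simp only [h7, Finset.sum_const_zero, mul_zero]
    rw [h5, mul_zero]
  rw [h2] at h1
  funext x
  have h3 : ∑ x, (Complex.normSq (F x) : ℂ) = 0 := by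
    rw [← h1]
    exact Finset.sum_congr rfl fun x _ => (Complex.mul_conj _).symm
  have h4 : ∑ x, Complex.normSq (F x) = 0 := by exact_mod_cast h3
  have h5 := (Finset.sum_eq_zero_iff_of_nonneg (fun x _ => Complex.normSq_nonneg (F x))).mp h4 x
    (Finset.mem_univ _)
  exact Complex.normSq_eq_zero.mp h5

theorem conv_part_delta_zero (s : G ⧸ N) {f δ : G → ℂ} (hδ : Homog N (1 : G ⧸ N) δ)
    (h : conv f δ = 0) : conv (partN N s f) δ = 0 := by
  classical
  funext g
  by_cases hg : (g : G ⧸ N) = s
  · have h1 := congrFun h g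
    show conv (partN N s f) δ g = 0
    rw [← (by simpa using h1 : conv f δ g = 0)]
    unfold conv
    refine Finset.sum_congr rfl fun x _ => ?_
    by_cases hx : (x : G ⧸ N) = s
    · rw [partN_of_eq f hx]
    · rw [partN_of_ne f hx, hδ, mul_zero, mul_zero]
      intro h2
      apply hx
      have h3 : ((x⁻¹ * g : G) : G ⧸ N) = (x : G ⧸ N)⁻¹ * (g : G ⧸ N) := rfl
      rw [h3, hg] at h2
      rw [inv_mul_eq_one] at h2
      exact h2
  · show conv (partN N s f) δ g = 0
    unfold conv
    refine Finset.sum_eq_zero fun x _ => ?_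
    by_cases hx : (x : G ⧸ N) = s
    · rw [hδ, mul_zero]
      intro h2
      apply hg
      have h3 : ((x⁻¹ * g : G) : G ⧸ N) = (x : G ⧸ N)⁻¹ * (g : G ⧸ N) := rfl
      rw [h3, inv_mul_eq_one] at h2
      rw [← h2, hx]
    · rw [partN_of_ne f hx, zero_mul]

theorem homog_deltaTheta (θ : IrrCharacter N) : Homog N (1 : G ⧸ N) (deltaTheta (G := G) θ) := by
  intro g hg
  unfold deltaTheta
  rw [extK_of_not_mem N _ (fun h => hg ((QuotientGroup.eq_one_iff g).mpr h))]

/-- **Every member of a covered block lies under a member of the covering block.** -/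
theorem exists_over_of_mem_block (hb : IsPBlock M b) (hB : IsPBlock M B) {χ : IrrCharacter G}
    (hχ : χ ∈ B) {θ₀ θ₁ : IrrCharacter N} (hθ₀ : θ₀ ∈ b) (hne : ∑ n : N, conj (θ₀.1 n) * χ.1 n ≠ 0)
    (hθ₁ : θ₁ ∈ b) : ∃ χ' ∈ B, ∑ n : N, conj (θ₁.1 n) * χ'.1 n ≠ 0 := by
  classical
  by_contra hcon
  push Not at hcon
  have hF := conv_block_delta_zero hcon
  refine no_unit_contra hB hχ hθ₀ hne fun s u hu hus θ hθ => ?_
  set f := blockCoeff B with hf
  have hfL : f ∈ lamSub M N := ⟨blockCoeff_mlr hB, fun n hn g => blockCoeff_isClass B g n⟩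
  have hpart : partN N s f ∈ lamSub M N := ⟨mlr_partN s hfL.1, cfN_partN s hfL.2⟩
  set j := conv u (partN N s f) with hj
  have hjL : j ∈ lamSub M N := conv_mem_lam hu hpart
  have hjd : Homog N (1 : G ⧸ N) j := by
    have := homog_conv hus (homog_partN s f)
    rwa [inv_mul_cancel] at this
  have h0 : conv j (deltaTheta θ₁) = 0 := by
    rw [hj, conv_assoc', conv_part_delta_zero s (homog_deltaTheta θ₁) hF, conv_zero_right']
  have hext := extK_toZ hjL hjd
  have h1 := conv_ofOm_deltaTheta (G := G) (N := N) (toZ hjL).1 θ₁ (delta1 G)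
  rw [conv_delta1_left, conv_delta1_left, hext, h0] at h1
  have hdelta : deltaTheta (G := G) θ₁ 1 ≠ 0 := by
    unfold deltaTheta
    rw [extK_of_mem N _ N.one_mem]
    have e : (⟨1, N.one_mem⟩ : N) = 1 := rfl
    rw [e, ofOm_eB_single, irr_one_eq θ₁, map_natCast]
    have hd : (charDegree θ₁.1 : ℂ) ≠ 0 := by
      exact_mod_cast (irr_charDegree_pos θ₁.2).ne'
    exact mul_ne_zero (inv_ne_zero card_ne_zero_C) (mul_ne_zero hd hd)
  have h2 : (toZ hjL).1 θ₁ = 0 := by
    have := congrFun h1.symm 1
    simp only [Pi.smul_apply, smul_eq_mul, Pi.zero_apply] at this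
    exact (mul_eq_zero.mp this).resolve_right hdelta
  have h3 := ZR_congr (toZ hjL).2 (block_sameBlock hb hθ hθ₁)
  rw [h2, sub_zero] at h3
  exact h3

end Conseq

end Graded

end Cfsg.Agent.H21
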