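import Cfsg.Agent.S4431
import Cfsg.Agent.S4430
import Cfsg.Agent.Lib.H21.BlockKer

/-!
# Induced blocks and characters of height zero; the third main theorem for arbitrary subgroups
-/

set_option autoImplicit false
set_option linter.unusedSectionVars false
set_option linter.style.haveILetI false
set_option linter.unusedSimpArgs false

namespace Cfsg.Agent.H21

open scoped ComplexConjugate
open Cfsg Module

universe u

section Trunc

variable {K : Type u} [Group K] [Fintype K] [Fintype (IrrCharacter K)]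
variable {p : ℕ} [hp : Fact p.Prime]

/-- The normalized inner product of a truncation of an irreducible character with another. -/
theorem inner_trunc_irr (ξ ψ : IrrCharacter K) :
    classInner (fun h : K => if p ∣ orderOf h then (0 : ℂ)
        else ((p ^ (Nat.card K).factorization p : ℕ) : ℂ) * ξ.1 h) ψ.1 / ψ.1 1 =
      H22.om ψ (bz p ξ) := by
  have h1 : (fun h : K => if p ∣ orderOf h then (0 : ℂ)
        else ((p ^ (Nat.card K).factorization p : ℕ) : ℂ) * ξ.1 h) =
      ((p ^ (Nat.card K).factorization p : ℕ) : ℂ) • rp p ξ.1 := by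
    funext h
    simp only [Pi.smul_apply, smul_eq_mul]
    by_cases hh : p ∣ orderOf h
    · rw [if_pos hh, rp_of_sing _ hh, mul_zero]
    · rw [if_neg hh, rp_of_reg _ hh]
  rw [h1, classInner_smul_left]
  have h2 : classInner (rp p ξ.1) ψ.1 = crt p ξ ψ := rfl
  rw [h2, crt_symm, ← om_bz, mul_div_assoc, div_self (H22.irr_one_ne_zero' ψ), mul_one]

/-- The same for a class function. -/
theorem inner_trunc_class {f : K → ℂ} (hf : IsClassFunction K f) (ψ : IrrCharacter K) :
    classInner (fun h : K => if p ∣ orderOf h then (0 : ℂ)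
        else ((p ^ (Nat.card K).factorization p : ℕ) : ℂ) * f h) ψ.1 / ψ.1 1 =
      ∑ ξ : IrrCharacter K, classInner f ξ.1 * H22.om ψ (bz p ξ) := by
  have h1 : (fun h : K => if p ∣ orderOf h then (0 : ℂ)
        else ((p ^ (Nat.card K).factorization p : ℕ) : ℂ) * f h) =
      ∑ ξ : IrrCharacter K, classInner f ξ.1 • (fun h : K => if p ∣ orderOf h then (0 : ℂ)
        else ((p ^ (Nat.card K).factorization p : ℕ) : ℂ) * ξ.1 h) := by
    funext h
    simp only [Finset.sum_apply, Pi.smul_apply, smul_eq_mul]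
    by_cases hh : p ∣ orderOf h
    · simp [hh]
    · simp only [hh, if_false]
      have h2 := congrFun (classFunction_expansion f hf) h
      simp only [Finset.sum_apply, Pi.smul_apply, smul_eq_mul] at h2
      conv_lhs => rw [h2]
      rw [Finset.mul_sum]
      exact Finset.sum_congr rfl fun ξ _ => by ring
  rw [h1, classInner_sum_left, Finset.sum_div]
  refine Finset.sum_congr rfl fun ξ _ => ?_
  rw [classInner_smul_left, mul_div_assoc, inner_trunc_irr]

end Trunc

section Main

variable {G : Type u} [Group G] [Fintype G] [Fintype (IrrCharacter G)]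
variable {p : ℕ} [hp : Fact p.Prime] {M : Ideal AlgInt} [hMp : M.IsPrime]

theorem restrict_isClass (H : Subgroup G) (χ : IrrCharacter G) :
    IsClassFunction H (fun h : H => χ.1 h) := by
  intro h k
  simp only [Subgroup.coe_mul, Subgroup.coe_inv]
  exact H22.irr_conj' χ _ _

/-- The block of `ψ` is the block of `ξ` as soon as the normalized inner product is nonzero. -/
theorem sameBlock_of_om_bz_ne (hM : IsPModular p M) {ψ ξ : IrrCharacter G}
    (h : H22.om ψ (bz p ξ) ≠ 0) : SameBlock M ξ.1 ψ.1 := by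
  by_contra hne
  have h0 : crt p ψ ξ = 0 := crt_eq_zero hM hne
  have h1 := om_bz (p := p) ξ ψ
  rw [h0, mul_zero] at h1
  exact h ((mul_eq_zero.mp h1).resolve_right (H22.irr_one_ne_zero' ψ))

/-- Height zero is detected by the regular projection. -/
theorem not_mli_om_bz_self (hM : IsPModular p M) (ζ : IrrCharacter G)
    (h0 : blockHeight p (blockOf M ζ.1) ζ.1 = 0) : ¬ MemLocalIdeal M (H22.om ζ (bz p ζ)) := by
  have hB : IsPBlock M (blockOf M ζ.1) := H22.isBlock_blockOf ζ
  have hmem : ζ ∈ blockOf M ζ.1 := H22.self_mem_blockOf ζ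
  exact (unit_iff hM hB hmem hmem).mpr (height_zero_iff hmem h0)

variable {H : Subgroup G} [Fintype H] [Fintype (IrrCharacter H)]

/-- **Height zero restriction and induced blocks.** -/
theorem induced_iff_of_height_zero (hM : IsPModular p M) (χ : IrrCharacter G) (ζ : IrrCharacter H)
    (hres : ∀ h : H, ζ.1 h = χ.1 h)
    (hχ0 : blockHeight p (blockOf M χ.1) χ.1 = 0) (hζ0 : blockHeight p (blockOf M ζ.1) ζ.1 = 0)
    (e : Set (IrrCharacter H)) (he : InducedBlockDefined M H e) :
    IsInducedBlock M H e (blockOf M χ.1) ↔ e = blockOf M ζ.1 := by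
  classical
  have hfun : ∀ (c : ℂ), (fun h : H => if p ∣ orderOf h then (0 : ℂ) else c * ζ.1 h) =
      (fun h : H => if p ∣ orderOf h then (0 : ℂ) else c * χ.1 h) := by
    intro c
    funext h
    rw [hres h]
  constructor
  · intro hind
    obtain ⟨ψ, hψ⟩ := H22.block_nonempty hind.1
    have h1 := (Cfsg.Agent.S4431.result p M hM H e (blockOf M χ.1) hind χ ψ hψ).2
      (H22.self_mem_blockOf χ) hχ0
    rw [← hfun, inner_trunc_irr] at h1
    have h2 : H22.om ψ (bz p ζ) ≠ 0 := by
      intro h0
      rw [h0] at h1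
      exact h1 H22.mli_zero
    have h3 := sameBlock_of_om_bz_ne hM h2
    rw [H22.block_eq_of_mem hind.1 hψ]
    exact (H22.block_eq_of_mem (H22.isBlock_blockOf ζ) h3).symm
  · rintro rfl
    obtain ⟨B, hB⟩ := he
    have hχB : χ ∈ B := by
      by_contra hχ
      have h1 := (Cfsg.Agent.S4431.result p M hM H (blockOf M ζ.1) B hB χ ζ
        (H22.self_mem_blockOf ζ)).1 hχ
      rw [← hfun, inner_trunc_irr] at h1
      exact not_mli_om_bz_self hM ζ hζ0 h1
    rw [← H22.block_eq_of_mem hB.2.1 hχB]
    exact hB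

/-- **Brauer's third main theorem** for an arbitrary subgroup. -/
theorem third_main_general (hM : IsPModular p M) (b : Set (IrrCharacter H))
    (hdef : InducedBlockDefined M H b) :
    IsInducedBlock M H b (principalBlock M G) ↔ b = principalBlock M H := by
  have h1 : ∀ (K : Type u) [Group K] [Fintype K] [Fintype (IrrCharacter K)],
      blockHeight p (blockOf M (H22.oneIrr K).1) (H22.oneIrr K).1 = 0 := by
    intro K _ _ _
    have h2 : charDegree (H22.oneIrr K).1 = 1 := by
      unfold charDegree H22.oneIrr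
      simp
    unfold blockHeight
    rw [h2]
    simp
  exact induced_iff_of_height_zero hM (H22.oneIrr G) (H22.oneIrr H) (fun _ => rfl) (h1 G) (h1 H) b hdef

/-- Existence of a constituent of height zero with multiplicity prime to `p`. -/
theorem exists_height_zero_constituent (hM : IsPModular p M) (b : Set (IrrCharacter H))
    (B : Set (IrrCharacter G)) (hind : IsInducedBlock M H b B) (χ : IrrCharacter G) (hχ : χ ∈ B)
    (h0 : blockHeight p B χ.1 = 0) :
    ∃ ξ ∈ b, blockHeight p b ξ.1 = 0 ∧
      ∃ n : ℕ, classInner (fun h : H => χ.1 h) ξ.1 = (n : ℂ) ∧ ¬ p ∣ n := by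
  classical
  obtain ⟨ψ, hψ⟩ := H22.block_nonempty hind.1
  have h1 := (Cfsg.Agent.S4431.result p M hM H b B hind χ ψ hψ).2 hχ h0
  rw [inner_trunc_class (restrict_isClass H χ)] at h1
  have h2 : ∃ ξ : IrrCharacter H, ¬ MemLocalIdeal M (classInner (fun h : H => χ.1 h) ξ.1 * H22.om ψ (bz p ξ)) := by
    by_contra hcon
    push Not at hcon
    exact h1 (H22.mli_sum _ _ fun ξ _ => hcon ξ)
  obtain ⟨ξ, hξ⟩ := h2
  obtain ⟨n, hn⟩ := classInner_isNat (isCharacter_restrict H (isCharacter_of_irr χ.2)) ξ
  have hlocal : MemLocalRing M (H22.om ψ (bz p ξ)) := om_bz_mlr hM ξ ψ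
  have h3 : ¬ MemLocalIdeal M (H22.om ψ (bz p ξ)) := fun h =>
    hξ (H22.mli_mul_left h (by rw [hn]; exact H22.mlr_natCast _))
  have h4 : ¬ MemLocalIdeal M ((n : ℕ) : ℂ) := by
    intro h
    apply hξ
    rw [hn]
    exact H22.mli_mul_right h hlocal
  have h5 : H22.om ψ (bz p ξ) ≠ 0 := fun h => h3 (by rw [h]; exact H22.mli_zero)
  have h6 := sameBlock_of_om_bz_ne hM h5
  have hξb : ξ ∈ b := by
    rw [H22.block_eq_of_mem hind.1 hψ]
    exact H22.sameBlock_symm h6
  refine ⟨ξ, hξb, ?_, n, hn, ?_⟩
  · have h7 := (unit_iff hM hind.1 hξb hψ).mp h3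
    show (charDegree ξ.1).factorization p - _ = 0
    have h8 : sInf ((fun ψ : IrrCharacter H => (charDegree ψ.1).factorization p) '' b) = minExp p b := rfl
    rw [h8, h7]
    simp
  · intro hd
    exact h4 ((H22.mli_natCast_iff hM n).mpr hd)

end Main

end Cfsg.Agent.H21
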