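import Cfsg.Agent.Lib.H21.FirstMain
import Cfsg.Agent.Lib.H01.Solv2

/-!
# Blocks of `G / P` for a normal `p`-subgroup with `G / C(P)` a `p`-group
-/

set_option autoImplicit false
set_option linter.unusedSectionVars false
set_option linter.style.haveILetI false
set_option linter.unusedSimpArgs false

namespace Cfsg.Agent.H21

open scoped ComplexConjugate
open Cfsg Module Cfsg.Agent.H22

universe u

variable {G : Type u} [Group G] [Finite G]
variable {p : ℕ} [hp : Fact p.Prime] {M : Ideal AlgInt} [hMp : M.IsPrime]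

/-- A `p`-regular element lies in a normal subgroup of `p`-power index. -/
theorem regular_mem_of_index {C : Subgroup G} [hC : C.Normal] {k : ℕ} (hidx : C.index = p ^ k) {g : G}
    (hg : ¬ p ∣ orderOf g) : g ∈ C := by
  have h1 : orderOf ((g : G ⧸ C)) ∣ p ^ k := by
    rw [← hidx, Subgroup.index_eq_card]
    exact orderOf_dvd_natCard _
  have h2 : orderOf ((g : G ⧸ C)) ∣ orderOf g := orderOf_map_dvd (QuotientGroup.mk' C) g
  obtain ⟨j, -, hj⟩ := (Nat.dvd_prime_pow hp.out).mp h1
  have h3 : j = 0 := by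
    by_contra hne
    apply hg
    refine dvd_trans ?_ h2
    rw [hj]
    exact dvd_pow_self p hne
  rw [h3, pow_zero, orderOf_eq_one_iff] at hj
  exact (QuotientGroup.eq_one_iff g).mp hj

/-- A regular element centralizing a normal `p`-subgroup has a unique conjugate in its coset. -/
theorem fibCount_eq_one {P : Subgroup G} [hPn : P.Normal] (hP : IsPGroup p P) {g : G}
    (hgC : g ∈ Subgroup.centralizer (P : Set G)) (hg : ¬ p ∣ orderOf g) : fibCount P g = 1 := by
  classical
  unfold fibCount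
  rw [Nat.card_eq_one_iff_unique]
  refine ⟨⟨fun a b => ?_⟩, ⟨⟨g, IsConj.refl g, rfl⟩⟩⟩
  have key : ∀ a : {y : G // IsConj y g ∧ (y : G ⧸ P) = (g : G ⧸ P)}, a.1 = g := by
    rintro ⟨y, hy1, hy2⟩
    have h1 : g⁻¹ * y ∈ P := QuotientGroup.eq.mp hy2.symm
    set u := g⁻¹ * y with hu
    have hyu : y = u * g := by
      have h2 := Subgroup.mem_centralizer_iff.mp hgC u h1
      rw [h2, hu]
      group
    have hreg : ¬ p ∣ orderOf y := by
      obtain ⟨c, hc⟩ := isConj_iff.mp hy1
      rw [← orderOf_conj' y c, hc]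
      exact hg
    have hpart1 : IsPPart p y u := by
      refine ⟨g, hyu.symm, ?_, orderOf_of_pGroup hP h1, hg⟩
      exact Subgroup.mem_centralizer_iff.mp hgC u h1
    have hpart2 : IsPPart p y 1 := ⟨y, one_mul y, Commute.one_left y, ⟨0, by simp⟩, hreg⟩
    have h3 : u = 1 := pPart_unique hpart1 hpart2
    show y = g
    rw [hyu, h3, one_mul]
  exact Subtype.ext ((key a).trans (key b).symm)

/-- Every regular element of `G ⧸ P` lifts to a regular element. -/
theorem exists_regular_lift {P : Subgroup G} [hPn : P.Normal] (q : G ⧸ P) (hq : ¬ p ∣ orderOf q) :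
    ∃ g : G, (g : G ⧸ P) = q ∧ ¬ p ∣ orderOf g := by
  classical
  obtain ⟨g', rfl⟩ := QuotientGroup.mk_surjective q
  obtain ⟨z, y, h1, h2, ⟨k, h3⟩, h4⟩ := exists_pPart (p := p) g'
  refine ⟨y, ?_, h4⟩
  have hm : ((g' : G) : G ⧸ P) = (z : G ⧸ P) * (y : G ⧸ P) := by
    rw [← h1]; rfl
  have hzord : ∃ j, orderOf (z : G ⧸ P) = p ^ j := by
    have h5 : orderOf (z : G ⧸ P) ∣ p ^ k := by
      rw [← h3]
      exact orderOf_map_dvd (QuotientGroup.mk' P) z
    obtain ⟨j, -, hj⟩ := (Nat.dvd_prime_pow hp.out).mp h5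
    exact ⟨j, hj⟩
  have hyord : ¬ p ∣ orderOf (y : G ⧸ P) := fun h5 =>
    h4 (h5.trans (orderOf_map_dvd (QuotientGroup.mk' P) y))
  have hcomm : Commute (z : G ⧸ P) (y : G ⧸ P) := h2.map (QuotientGroup.mk' P)
  have hpart1 : IsPPart p ((g' : G) : G ⧸ P) (z : G ⧸ P) := ⟨(y : G ⧸ P), hm.symm, hcomm, hzord, hyord⟩
  have hpart2 : IsPPart p ((g' : G) : G ⧸ P) 1 := ⟨_, one_mul _, Commute.one_left _, ⟨0, by simp⟩, hq⟩
  have h5 : (z : G ⧸ P) = 1 := pPart_unique hpart1 hpart2
  rw [hm, h5, one_mul]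

section Main

variable {P : Subgroup G} [hPn : P.Normal]

/-- **`S0941` (i)**. -/
theorem sameBlock_quot_iff (hM : IsPModular p M) (hP : IsPGroup p P) {k : ℕ}
    (hidx : (Subgroup.centralizer (P : Set G)).index = p ^ k) (χ ψ : IrrCharacter (G ⧸ P)) :
    SameBlock M χ.1 ψ.1 ↔ SameBlock M (χ.1 ∘ QuotientGroup.mk' P) (ψ.1 ∘ QuotientGroup.mk' P) := by
  classical
  haveI hCn : (Subgroup.centralizer (P : Set G)).Normal := Cfsg.Agent.H01.centralizer_normal inferInstance
  refine ⟨fun h => sameBlock_inflate P h, fun h => ?_⟩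
  apply sameBlock_of_regular hM
  intro q hq
  obtain ⟨g, rfl, hg⟩ := exists_regular_lift (P := P) q hq
  have hgC := regular_mem_of_index hidx hg
  have h1 := h g
  rw [centralChar_inflate, centralChar_inflate, fibCount_eq_one hP hgC hg, Nat.cast_one, one_mul,
    one_mul] at h1
  exact h1

/-- **`S0941` (ii)**. -/
theorem exists_inflation_in_block (hM : IsPModular p M) (hP : IsPGroup p P) {k : ℕ}
    (hidx : (Subgroup.centralizer (P : Set G)).index = p ^ k) {B : Set (IrrCharacter G)}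
    (hB : IsPBlock M B) :
    ∃ χ : IrrCharacter (G ⧸ P), ∃ θ ∈ B, θ.1 = χ.1 ∘ QuotientGroup.mk' P := by
  classical
  haveI hCn : (Subgroup.centralizer (P : Set G)).Normal := Cfsg.Agent.H01.centralizer_normal inferInstance
  let a : G → ℂ := blockCoeff B
  let ā : G ⧸ P → ℂ := fun q => ∑ g ∈ Finset.univ.filter (fun g : G => (g : G ⧸ P) = q), a g
  have hcl : IsClassFunction (G ⧸ P) ā := by
    intro q t
    obtain ⟨g, rfl⟩ := QuotientGroup.mk_surjective q
    obtain ⟨t, rfl⟩ := QuotientGroup.mk_surjective t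
    simp only [ā]
    refine Finset.sum_bij' (fun x _ => t⁻¹ * x * t) (fun x _ => t * x * t⁻¹) ?_ ?_ ?_ ?_ ?_
    · intro x hx
      rw [Finset.mem_filter] at hx ⊢
      refine ⟨Finset.mem_univ _, ?_⟩
      have h1 : ((t⁻¹ * x * t : G) : G ⧸ P) = (t : G ⧸ P)⁻¹ * (x : G ⧸ P) * (t : G ⧸ P) := rfl
      rw [h1, hx.2]
      group
    · intro x hx
      rw [Finset.mem_filter] at hx ⊢
      refine ⟨Finset.mem_univ _, ?_⟩
      have h1 : ((t * x * t⁻¹ : G) : G ⧸ P) = (t : G ⧸ P) * (x : G ⧸ P) * (t : G ⧸ P)⁻¹ := rfl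
      rw [h1, hx.2]
    · intro x _
      group
    · intro x _
      group
    · intro x _
      have h1 := blockCoeff_isClass B (t⁻¹ * x * t) t
      simp only [a]
      rw [← h1]
      congr 1
      group
  have hom : ∀ χ : IrrCharacter (G ⧸ P),
      om (⟨χ.1 ∘ QuotientGroup.mk' P, isIrr_inflate P χ.2⟩ : IrrCharacter G) a = om χ ā := by
    intro χ
    unfold om
    have h1 : (⟨χ.1 ∘ QuotientGroup.mk' P, isIrr_inflate P χ.2⟩ : IrrCharacter G).1 1 = χ.1 1 := by
      show χ.1 ((QuotientGroup.mk' P) 1) = _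
      rw [map_one]
    rw [h1]
    congr 1
    simp only [ā, Finset.sum_mul]
    rw [← Finset.sum_fiberwise (s := Finset.univ) (g := fun g : G => (g : G ⧸ P))]
    refine Finset.sum_congr rfl fun q _ => Finset.sum_congr rfl fun g hg => ?_
    rw [Finset.mem_filter] at hg
    show a g * χ.1 ((g : G ⧸ P)) = _
    rw [hg.2]
  obtain ⟨g₀, hg₀⟩ := exists_defectClass hB
  have hreg := defect_class_regular hM hB hg₀
  have hval : ā (g₀ : G ⧸ P) = a g₀ := by
    simp only [ā]
    refine Finset.sum_eq_single_of_mem g₀ (by simp) fun x hx hne => ?_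
    rw [Finset.mem_filter] at hx
    have h1 : g₀⁻¹ * x ∈ P := QuotientGroup.eq.mp hx.2.symm
    have hgC := regular_mem_of_index hidx hreg
    set u := g₀⁻¹ * x with hu
    have hxu : x = u * g₀ := by
      have h2 := Subgroup.mem_centralizer_iff.mp hgC u h1
      rw [h2, hu]
      group
    have hsing : p ∣ orderOf x := by
      by_contra hreg2
      have hpart1 : IsPPart p x u := by
        refine ⟨g₀, hxu.symm, ?_, orderOf_of_pGroup hP h1, hreg⟩
        exact Subgroup.mem_centralizer_iff.mp hgC u h1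
      have hpart2 : IsPPart p x 1 := ⟨x, one_mul x, Commute.one_left x, ⟨0, by simp⟩, hreg2⟩
      have h3 : u = 1 := pPart_unique hpart1 hpart2
      apply hne
      rw [hxu, h3, one_mul]
    exact blockCoeff_eq_zero_of_singular hM hB hsing
  have hne0 : a g₀ ≠ 0 := by
    intro h
    apply hg₀.2.1
    show MemLocalIdeal M (a g₀)
    rw [h]
    exact mli_zero
  by_contra hcon
  push Not at hcon
  have hall : ∀ χ : IrrCharacter (G ⧸ P), om χ ā = 0 := by
    intro χ
    rw [← hom]
    have h1 : om (⟨χ.1 ∘ QuotientGroup.mk' P, isIrr_inflate P χ.2⟩ : IrrCharacter G) a =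
        eB B (⟨χ.1 ∘ QuotientGroup.mk' P, isIrr_inflate P χ.2⟩ : IrrCharacter G) := by
      simp only [a]
      rw [funext (blockCoeff_eq_ofOm B), om_ofOm]
    rw [h1]
    apply eB_apply_not_mem
    intro hmem
    exact hcon χ _ hmem rfl
  have h0 := ofOm_om ā hcl
  have h1 : ā = 0 := by
    rw [← h0]
    funext q
    unfold ofOm
    simp [hall]
  have h2 := congrFun h1 (g₀ : G ⧸ P)
  rw [hval] at h2
  exact hne0 h2

end Main

end Cfsg.Agent.H21
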