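import Cfsg.Agent.Lib.H21.GradedUnit

/-!
# Knörr's theorem: a covering block has a defect group meeting `N` in a defect group of the
covered block
-/

set_option autoImplicit false
set_option linter.unusedSectionVars false
set_option linter.style.haveILetI false
set_option linter.unusedSimpArgs false
set_option linter.unusedVariables false

namespace Cfsg.Agent.H21

open scoped ComplexConjugate
open Cfsg Module Cfsg.Agent.H22

universe u

variable {G : Type u} [Group G] [Finite G]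
variable {p : ℕ} [hp : Fact p.Prime] {M : Ideal AlgInt} [hMp : M.IsPrime]

section K

variable {N : Subgroup G} [hN : N.Normal]

theorem om_smul' {H : Type*} [Group H] [Finite H] (χ : IrrCharacter H) (r : ℂ) (a : H → ℂ) :
    om χ (r • a) = r * om χ a := by
  unfold om
  simp only [Pi.smul_apply, smul_eq_mul, Finset.mul_sum]
  refine Finset.sum_congr rfl fun _ _ => by ring

theorem resN_sum {ι : Type*} (s : Finset ι) (a : ι → G → ℂ) :
    resN N (∑ i ∈ s, a i) = ∑ i ∈ s, resN N (a i) := by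
  funext n
  simp [resN, Finset.sum_apply]

theorem resN_smul (r : ℂ) (a : G → ℂ) : resN N (r • a) = r • resN N a := rfl

attribute [local instance] lamModule

/-- **The lower bound in Knörr's theorem.** -/
theorem subConj_cover (hM : IsPModular p M) {b : Set (IrrCharacter N)} (hb : IsPBlock M b)
    {B : Set (IrrCharacter G)} (hB : IsPBlock M B) {χ : IrrCharacter G} (hχ : χ ∈ B)
    {θ : IrrCharacter N} (hθ : θ ∈ b) (hne : ∑ n : N, conj (θ.1 n) * χ.1 n ≠ 0)
    {Q' : Subgroup N} (hQ : IsDefectGroup p M b Q') {D : Subgroup G} (hD : IsDefectGroup p M B D) :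
    SubConj (Q'.map N.subtype) D := by
  classical
  haveI : Fintype (ConjClasses N) := Fintype.ofFinite _
  obtain ⟨s, u, hu, hus, θ', hθ', hnot⟩ := exists_unit hB hχ hθ hne
  set f := blockCoeff B with hf
  have hfc : IsClassFunction G f := blockCoeff_isClass B
  have hfL : f ∈ lamSub M N := ⟨blockCoeff_mlr hB, fun n hn g => hfc g n⟩
  have hpart : partN N s f ∈ lamSub M N := ⟨mlr_partN s hfL.1, cfN_partN s hfL.2⟩
  obtain ⟨𝓞, hexp⟩ := exists_orbit_expansion (N := N)
  have h1 : om θ' (resN N (conv u (partN N s f))) =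
      ∑ o ∈ 𝓞, partN N s f o * om θ' (resN N (conv u (orbN N o))) := by
    conv_lhs => rw [hexp _ hpart.2, conv_sum_right', resN_sum, om_sum']
    refine Finset.sum_congr rfl fun o _ => ?_
    rw [conv_smul_right', resN_smul, om_smul']
  rw [h1] at hnot
  have hex : ∃ o ∈ 𝓞, ¬ MemLocalIdeal M (partN N s f o * om θ' (resN N (conv u (orbN N o)))) := by
    by_contra hc
    push Not at hc
    exact hnot (mli_sum _ _ hc)
  obtain ⟨o, -, ho⟩ := hex
  have hjL : conv u (orbN N o) ∈ lamSub M N := conv_mem_lam hu (orbN_mem_lam o)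
  have hcl : IsClassFunction N (resN N (conv u (orbN N o))) := resN_isClass hjL.2
  have hjR : ∀ n, MemLocalRing M (resN N (conv u (orbN N o)) n) := fun n => hjL.1 n
  have ho1 : ¬ MemLocalIdeal M (partN N s f o) := fun h => ho (mli_mul_right h (om_mlr hcl hjR θ'))
  have ho2 : ¬ MemLocalIdeal M (om θ' (resN N (conv u (orbN N o)))) :=
    fun h => ho (mli_mul_left h (hpart.1 o))
  have hfo : ¬ MemLocalIdeal M (f o) := by
    by_cases hos : (o : G ⧸ N) = s
    · rwa [partN_of_eq f hos] at ho1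
    · rw [partN_of_ne f hos] at ho1
      exact absurd mli_zero ho1
  rw [om_eq_sum_classes _ hcl] at ho2
  have hexC : ∃ C : ConjClasses N, ¬ MemLocalIdeal M (resN N (conv u (orbN N o)) C.out * cc C.out θ') := by
    by_contra hc
    push Not at hc
    exact ho2 (mli_sum _ _ fun C _ => hc C)
  obtain ⟨C, hC⟩ := hexC
  set m : N := C.out with hm
  have hm1 : ¬ MemLocalIdeal M (resN N (conv u (orbN N o)) m) := fun h => hC (mli_mul_right h (cc_mlr _ _))
  have hm2 : ¬ MemLocalIdeal M (cc m θ') := fun h => hC (mli_mul_left h (hjR _))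
  -- the Sylow subgroup of `C_N(m)`
  set Cm := Subgroup.centralizer ({m} : Set N) with hCm
  obtain ⟨V⟩ : Nonempty (Sylow p Cm) := inferInstance
  set V' : Subgroup N := (V : Subgroup Cm).map Cm.subtype with hV'
  have hV'p : IsPGroup p V' := V.2.map _
  have hV'le : V' ≤ Cm := by
    rintro _ ⟨x, _, rfl⟩
    exact x.2
  have hsub1 : SubConj Q' V' := subConj_of_cc hM hb hQ hθ' hm2 hV'p hV'le
    (fun U hU hle hUC => map_sylow_maximal Cm V U hU hle hUC)
  -- the fixed point argument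
  let σ : V' → G → G := fun q g => (q : N) * g * ((q : N) : G)⁻¹
  let F : G → ℂ := fun g => u g * orbN N o (g⁻¹ * m)
  have hFR : ∀ g, MemLocalRing M (F g) := fun g => mlr_mul (hu.1 g) ((orbN_mem_lam (M := M) o).1 _)
  have hcomm : ∀ q : V', ((q : N) : G) * (m : G) = (m : G) * ((q : N) : G) := by
    intro q
    have h2 := hV'le q.2
    have h3 : (q : N) * m = m * (q : N) := Subgroup.mem_centralizer_singleton_iff.mp h2
    exact congrArg Subtype.val h3
  have hFinv : ∀ (q : V') g, F (σ q g) = F g := by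
    intro q g
    simp only [F, σ]
    rw [hu.2 _ (q : N).2 g]
    congr 1
    have e : (((q : N) : G) * g * ((q : N) : G)⁻¹)⁻¹ * (m : G) =
        ((q : N) : G) * (g⁻¹ * (m : G)) * ((q : N) : G)⁻¹ := by
      have h5 := hcomm q
      calc (((q : N) : G) * g * ((q : N) : G)⁻¹)⁻¹ * (m : G)
          = ((q : N) : G) * g⁻¹ * (((q : N) : G)⁻¹ * (m : G)) := by group
        _ = ((q : N) : G) * g⁻¹ * ((m : G) * ((q : N) : G)⁻¹) := by
            congr 1
            rw [inv_mul_eq_iff_eq_mul, ← mul_assoc, h5, mul_assoc, mul_inv_cancel, mul_one]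
        _ = _ := by group
    rw [e]
    exact cfN_orbN o _ (q : N).2 _
  have hfix := mli_sum_sub_fixed hM hV'p σ (fun g => by simp [σ]) (fun q r g => by
    simp only [σ]
    show (((q * r : V') : N) : G) * g * (((q * r : V') : N) : G)⁻¹ = _
    simp only [Subgroup.coe_mul, mul_inv_rev]
    group) F hFR hFinv
  have hsumF : ∑ g, F g = resN N (conv u (orbN N o)) m := rfl
  have hfixne : ¬ MemLocalIdeal M (∑ g ∈ Finset.univ.filter (fun g => ∀ q, σ q g = g), F g) := by
    intro h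
    apply hm1
    rw [← hsumF]
    have := mli_add hfix h
    rwa [sub_add_cancel] at this
  have hexg : ∃ g ∈ Finset.univ.filter (fun g => ∀ q, σ q g = g), F g ≠ 0 := by
    by_contra hc
    push Not at hc
    rw [Finset.sum_eq_zero hc] at hfixne
    exact hfixne mli_zero
  obtain ⟨g, hg, hFg⟩ := hexg
  have hgfix : ∀ q, σ q g = g := (Finset.mem_filter.mp hg).2
  have horb : ∃ n ∈ N, g⁻¹ * (m : G) = n * o * n⁻¹ := by
    by_contra hc
    apply hFg
    simp only [F]
    rw [orbN_of_not_mem hc, mul_zero]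
  obtain ⟨n, hn, hyo⟩ := horb
  set y := g⁻¹ * (m : G) with hy
  have hfy : ¬ MemLocalIdeal M (f y) := by
    rw [hyo, hfc o n]
    exact hfo
  have hV2p : IsPGroup p (V'.map N.subtype) := hV'p.map _
  have hV2C : V'.map N.subtype ≤ Subgroup.centralizer ({y} : Set G) := by
    rintro _ ⟨q, hq, rfl⟩
    rw [Subgroup.mem_centralizer_singleton_iff]
    show ((q : N) : G) * y = y * ((q : N) : G)
    have h5 := hcomm ⟨q, hq⟩
    have h6 := hgfix ⟨q, hq⟩
    have h7 : ((q : N) : G) * g = g * ((q : N) : G) := by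
      have : ((q : N) : G) * g * ((q : N) : G)⁻¹ = g := h6
      rw [mul_inv_eq_iff_eq_mul] at this
      exact this
    have h8 : ((q : N) : G) * g⁻¹ = g⁻¹ * ((q : N) : G) := by
      exact (Commute.inv_right (show Commute ((q : N) : G) g from h7)).eq
    rw [hy, ← mul_assoc, h8, mul_assoc, h5, mul_assoc]
  have hsub2 := subConj_defect_of_coeff hM hB hD hfy hV2p hV2C
  obtain ⟨x, hx⟩ := hsub1
  obtain ⟨z, hz⟩ := hsub2
  refine ⟨z * (x : N), ?_⟩
  rintro _ ⟨q, hq, rfl⟩
  have h1 := hx q hq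
  have h2 := hz _ ⟨x * q * x⁻¹, h1, rfl⟩
  convert h2 using 1
  simp only [Subgroup.subtype_apply, Subgroup.coe_mul, InvMemClass.coe_inv]
  group

/-- **The upper bound in Knörr's theorem.** -/
theorem subConj_inf_of_stable (hM : IsPModular p M) {b : Set (IrrCharacter N)} (hb : IsPBlock M b)
    (hinv : ∀ t : G, ∀ θ ∈ b, conjIrr N t θ ∈ b) {B : Set (IrrCharacter G)} (hB : IsPBlock M B)
    {χ₀ : IrrCharacter G} (hχ₀ : χ₀ ∈ B) {θ₀ : IrrCharacter N} (hθ₀ : θ₀ ∈ b)
    (hne : ∑ n : N, conj (θ₀.1 n) * χ₀.1 n ≠ 0) {P : Subgroup G} (hP : IsDefectGroup p M B P)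
    {Q : Subgroup N} (hQ : IsDefectGroup p M b Q) :
    SubConj ((P ⊓ N).subgroupOf N) Q := by
  classical
  obtain ⟨y, hydef, hyχ, hyfac⟩ := exists_key_element hM hb hinv hθ₀ hne
  set C := Subgroup.centralizer ({(y : G)} : Set G) with hC
  obtain ⟨S⟩ : Nonempty (Sylow p C) := inferInstance
  set S' : Subgroup G := (S : Subgroup C).map C.subtype with hS'
  have hS'p : IsPGroup p S' := S.2.map _
  have hS'le : S' ≤ C := by
    rintro _ ⟨u, _, rfl⟩
    exact u.2
  have hPp : IsPGroup p P := defect_isPGroup hP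
  obtain ⟨g, hg⟩ := subConj_of_cc hM hB hP hχ₀ hyχ hS'p hS'le
    (fun U hU hle hUC => map_sylow_maximal C S U hU hle hUC)
  have hy₃N : g⁻¹ * (y : G) * g ∈ N := by
    have := hN.conj_mem _ y.2 g⁻¹
    simpa using this
  let y₃ : N := ⟨g⁻¹ * y * g, hy₃N⟩
  have hcoef₃ : ¬ MemLocalIdeal M (blockCoeff b y₃) := by
    intro h
    apply hydef.2.1
    have h1 := sbc_isClass hinv (y : G) g⁻¹
    rw [inv_inv] at h1
    rw [← sbc_of_coe, ← h1]
    rw [← sbc_of_coe] at h
    exact h
  have hS₀p : IsPGroup p ((P ⊓ N).subgroupOf N) := by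
    intro x
    have hx : ((x : N) : G) ∈ P := (Subgroup.mem_subgroupOf.mp x.2).1
    obtain ⟨k, hk⟩ := hPp ⟨((x : N) : G), hx⟩
    refine ⟨k, ?_⟩
    apply Subtype.ext
    apply Subtype.ext
    simpa using congrArg Subtype.val hk
  have hS₀le : (P ⊓ N).subgroupOf N ≤ Subgroup.centralizer ({y₃} : Set N) := by
    intro x hx
    have hxP : ((x : N) : G) ∈ P := (Subgroup.mem_subgroupOf.mp hx).1
    have h1 := hS'le (hg _ hxP)
    have h2 : (g * (x : G) * g⁻¹) * (y : G) = (y : G) * (g * (x : G) * g⁻¹) :=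
      Subgroup.mem_centralizer_singleton_iff.mp h1
    rw [Subgroup.mem_centralizer_singleton_iff]
    apply Subtype.ext
    show (x : G) * (g⁻¹ * y * g) = (g⁻¹ * y * g) * (x : G)
    have h3 : (x : G) * (g⁻¹ * y * g) = g⁻¹ * ((g * (x : G) * g⁻¹) * (y : G)) * g := by group
    have h4 : (g⁻¹ * y * g) * (x : G) = g⁻¹ * ((y : G) * (g * (x : G) * g⁻¹)) * g := by group
    rw [h3, h4, h2]
  exact subConj_defect_of_coeff hM hb hQ hcoef₃ hS₀p hS₀le

/-- **Knörr's theorem, `G`-stable case.** -/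
theorem knorr_stable (hM : IsPModular p M) {b : Set (IrrCharacter N)} (hb : IsPBlock M b)
    (hinv : ∀ t : G, ∀ θ ∈ b, conjIrr N t θ ∈ b) {Q : Subgroup G} (hQN : Q ≤ N)
    (hQ : IsDefectGroup p M b (Q.subgroupOf N)) {B : Set (IrrCharacter G)} (hB : IsPBlock M B)
    (hcov : ∃ χ ∈ B, ∃ θ ∈ b, ∑ n : N, conj (θ.1 n) * χ.1 n ≠ 0) :
    ∃ P : Subgroup G, IsDefectGroup p M B P ∧ P ⊓ N = Q := by
  classical
  obtain ⟨χ₀, hχ₀, θ₀, hθ₀, hne⟩ := hcov
  obtain ⟨P₀, hP₀⟩ := isDefectGroup_exists (p := p) hB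
  obtain ⟨x, hx⟩ := subConj_cover hM hb hB hχ₀ hθ₀ hne hQ hP₀
  have hmapQ : (Q.subgroupOf N).map N.subtype = Q := by
    rw [Subgroup.subgroupOf_map_subtype]
    exact inf_eq_left.mpr hQN
  rw [hmapQ] at hx
  set P := cq x⁻¹ P₀ with hP
  have hPdef : IsDefectGroup p M B P := isDefectGroup_cq x⁻¹ hP₀
  have hQP : Q ≤ P := by
    intro q hq
    rw [hP, mem_cq, inv_inv]
    exact hx q hq
  refine ⟨P, hPdef, ?_⟩
  have hsub := subConj_inf_of_stable hM hb hinv hB hχ₀ hθ₀ hne hPdef hQ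
  have hcard := card_le_of_subConj hsub
  have e1 : Nat.card ((P ⊓ N).subgroupOf N) = Nat.card (P ⊓ N : Subgroup G) :=
    Nat.card_congr (Subgroup.subgroupOfEquivOfLe inf_le_right).toEquiv
  have e2 : Nat.card (Q.subgroupOf N) = Nat.card Q :=
    Nat.card_congr (Subgroup.subgroupOfEquivOfLe hQN).toEquiv
  rw [e1, e2] at hcard
  exact (Subgroup.eq_of_le_of_card_ge (le_inf hQP hQN) hcard).symm

end K

/-- The stabilizer of a block. -/
def blockStab (N : Subgroup G) [hN : N.Normal] (b : Set (IrrCharacter N)) : Subgroup G where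
  carrier := {g | ∀ θ ∈ b, conjIrr N g θ ∈ b}
  mul_mem' := by
    intro x y hx hy θ hθ
    rw [← conjIrr_conjIrr]
    exact hy _ (hx θ hθ)
  one_mem' := by
    intro θ hθ
    rw [conjIrr_one]
    exact hθ
  inv_mem' := by
    intro x hx θ hθ
    have hpow : ∀ k : ℕ, ∀ θ ∈ b, conjIrr N (x ^ k) θ ∈ b := by
      intro k
      induction k with
      | zero =>
        intro θ hθ
        rw [pow_zero, conjIrr_one]
        exact hθ
      | succ k ih =>
        intro θ hθ
        rw [pow_succ, ← conjIrr_conjIrr]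
        exact hx _ (ih θ hθ)
    have h1 : x⁻¹ = x ^ (orderOf x - 1) := by
      rw [inv_eq_iff_mul_eq_one, ← pow_succ', Nat.sub_add_cancel (orderOf_pos x), pow_orderOf_eq_one]
    rw [h1]
    exact hpow _ θ hθ

/-- **Knörr's theorem.** -/
theorem knorr_full [instG : Fintype G] (hM : IsPModular p M) (N : Subgroup G) [hN : N.Normal]
    [instN : Fintype N] (b : Set (IrrCharacter N)) (hb : IsPBlock M b) (Q : Subgroup G) (hQN : Q ≤ N)
    (hQ : IsDefectGroup p M b (Q.subgroupOf N)) (B : Set (IrrCharacter G)) (hB : IsPBlock M B)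
    (hcov : ∃ χ ∈ B, ∃ θ ∈ b, classInner (fun n : N => (χ : G → ℂ) n) (θ : N → ℂ) ≠ 0) :
    ∃ P : Subgroup G, IsDefectGroup p M B P ∧ P ⊓ N = Q := by
  classical
  obtain rfl : instG = fintypeOfFiniteH22 := Subsingleton.elim _ _
  obtain rfl : instN = fintypeOfFiniteH22 := Subsingleton.elim _ _
  set T := blockStab N b with hTdef
  have hNT : N ≤ T := by
    intro n hn θ hθ
    have : conjIrr N n θ = θ := by
      apply Subtype.ext
      funext x
      rw [conjIrr_apply]
      have := isClassFunction_of_isCharacter (isCharacter_of_irr θ.2) x (⟨n, hn⟩ : N)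
      rw [← this]
      exact congrArg θ.1 (Subtype.ext rfl)
    rw [this]
    exact hθ
  have hT : ∀ g : G, g ∈ T ↔ ∀ θ ∈ b, ∀ θ' : IrrCharacter N,
      (∀ n : N, (θ' : N → ℂ) n = (θ : N → ℂ) ⟨g * n * g⁻¹, hN.conj_mem n n.2 g⟩) → θ' ∈ b := by
    intro g
    constructor
    · intro hg θ hθ θ' hθ'
      have : θ' = conjIrr N g θ := by
        apply Subtype.ext
        funext n
        rw [conjIrr_apply]
        exact hθ' n
      rw [this]
      exact hg θ hθ
    · intro h θ hθ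
      exact h θ hθ _ (conjIrr_apply N g θ)
  obtain ⟨-, -, h3⟩ := fong_reynolds_main hM N b hb T hT hNT
  obtain ⟨B', hB', hcov', hind⟩ := h3 B hB hcov
  obtain ⟨hdef, -⟩ := fong_reynolds_defect hM N b hb T hT hNT B' hB' hcov' B hind
  obtain ⟨ψ, hψ, θ, hθ, hne⟩ := hcov'
  have hne' : cvr hNT ψ θ ≠ 0 := (inner_ne_iff _ _).mp hne
  haveI hNn : (N.subgroupOf T).Normal := Subgroup.normal_subgroupOf
  -- transport
  set b' : Set (IrrCharacter (N.subgroupOf T)) := irrMap (phiN hNT).symm '' b with hb'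
  have hb'b : IsPBlock M b' := isPBlock_image _ hb
  have hinv' : ∀ t : T, ∀ θ' ∈ b', conjIrr (N.subgroupOf T) t θ' ∈ b' := by
    rintro t _ ⟨θ₀, hθ₀, rfl⟩
    have := thetaT_conj hNT θ₀ t
    refine ⟨_, t.2 θ₀ hθ₀, ?_⟩
    exact this.symm
  have hQ' : IsDefectGroup p M b' ((Q.subgroupOf T).subgroupOf (N.subgroupOf T)) := by
    have h1 := isDefectGroup_image (phiN hNT).symm hQ
    have h2 : (Q.subgroupOf N).map (phiN hNT).symm.toMonoidHom =
        (Q.subgroupOf T).subgroupOf (N.subgroupOf T) := by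
      ext x
      constructor
      · rintro ⟨y, hy, rfl⟩
        exact Subgroup.mem_subgroupOf.mpr (Subgroup.mem_subgroupOf.mpr (Subgroup.mem_subgroupOf.mp hy))
      · intro hx
        have hx' : ((x : T) : G) ∈ Q :=
          Subgroup.mem_subgroupOf.mp (Subgroup.mem_subgroupOf.mp hx)
        refine ⟨phiN hNT x, Subgroup.mem_subgroupOf.mpr hx', ?_⟩
        exact (phiN hNT).symm_apply_apply x
    rw [← h2]
    exact h1
  have hQT : Q.subgroupOf T ≤ N.subgroupOf T := fun x hx =>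
    Subgroup.mem_subgroupOf.mpr (hQN (Subgroup.mem_subgroupOf.mp hx))
  have hcovT : ∃ χ ∈ B', ∃ θ' ∈ b', ∑ n : N.subgroupOf T, conj (θ'.1 n) * χ.1 n ≠ 0 := by
    refine ⟨ψ, hψ, thetaT hNT θ, ⟨θ, hθ, rfl⟩, ?_⟩
    rw [sum_thetaT]
    exact hne'
  obtain ⟨P', hP', hPeq⟩ := knorr_stable hM hb'b hinv' hQT hQ' hB' hcovT
  refine ⟨P'.map T.subtype, hdef P' hP', ?_⟩
  ext x
  constructor
  · rintro ⟨⟨t, ht, rfl⟩, hxN⟩
    have : t ∈ P' ⊓ N.subgroupOf T := ⟨ht, Subgroup.mem_subgroupOf.mpr hxN⟩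
    rw [hPeq] at this
    exact Subgroup.mem_subgroupOf.mp this
  · intro hx
    have hxT : x ∈ T := hNT (hQN hx)
    have h1 : (⟨x, hxT⟩ : T) ∈ Q.subgroupOf T := Subgroup.mem_subgroupOf.mpr hx
    rw [← hPeq] at h1
    exact ⟨⟨⟨x, hxT⟩, h1.1, rfl⟩, hQN hx⟩

end Cfsg.Agent.H21
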