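import Cfsg.Agent.Lib.H06.Brauer4

/-!
# Irreducible characters of a power of a group
-/

set_option autoImplicit false
set_option linter.unusedSectionVars false
set_option linter.style.haveILetI false
set_option linter.unusedSimpArgs false

namespace Cfsg.Agent.H21.MG

open Cfsg Cfsg.Agent.H21 Cfsg.Agent.H06 Cfsg.Agent.H06.Brauer
open scoped ComplexConjugate

universe u v

section Pi

variable {A : Type u} [Group A] [Fintype A] {Q : Type v} [Fintype Q] [DecidableEq Q]

/-- The product of functions on the factors. -/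
def pc (α : Q → A → ℂ) : (Q → A) → ℂ := fun x => ∏ i, α i (x i)

theorem sum_pi (f : Q → A → ℂ) : ∑ x : Q → A, ∏ i, f i (x i) = ∏ i, ∑ a, f i a := by
  rw [Finset.prod_univ_sum, Fintype.piFinset_univ]

theorem isCharacter_pc {α : Q → A → ℂ} (h : ∀ i, IsCharacter A (α i)) :
    IsCharacter (Q → A) (pc α) := by
  have h1 : ∀ s : Finset Q, IsCharacter (Q → A) (fun x => ∏ i ∈ s, α i (x i)) := by
    intro s
    induction s using Finset.induction_on with
    | empty =>
      simpa using isCharacter_one (G := Q → A)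
    | insert a s ha ih =>
      have h2 := isCharacter_mul (isCharacter_comp (Pi.evalMonoidHom (fun _ : Q => A) a) (h a)) ih
      convert h2 using 1
      funext x
      rw [Finset.prod_insert ha]
      rfl
  exact h1 Finset.univ

theorem card_pi : Nat.card (Q → A) = Nat.card A ^ Fintype.card Q := by
  rw [Nat.card_fun, Nat.card_eq_fintype_card (α := Q)]

theorem inner_pc (α β : Q → A → ℂ) :
    classInner (pc α) (pc β) = ∏ i, classInner (α i) (β i) := by
  simp only [classInner, pc, map_prod]
  have h1 : ∀ x : Q → A, (∏ i, α i (x i)) * ∏ i, conj (β i (x i)) =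
      ∏ i, (α i (x i) * conj (β i (x i))) := fun x => (Finset.prod_mul_distrib).symm
  simp only [h1]
  rw [sum_pi (fun i a => α i a * conj (β i a)), Finset.prod_mul_distrib, card_pi]
  simp

theorem irr_pc {α : Q → A → ℂ} (h : ∀ i, IsIrrCharacter A (α i)) :
    IsIrrCharacter (Q → A) (pc α) := by
  classical
  haveI : Fintype (IrrCharacter (Q → A)) := Fintype.ofFinite _
  apply isIrrCharacter_of_inner_self_eq_one (isCharacter_pc fun i => isCharacter_of_irr (h i))
  rw [inner_pc]
  exact Finset.prod_eq_one fun i _ => classInner_irr_self (h i)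

theorem reg_pi (x : Q → A) : (regRep (Q → A)).character x = ∏ i, (regRep A).character (x i) := by
  classical
  by_cases hx : x = 1
  · subst hx
    rw [regRep_character_one]
    simp only [Pi.one_apply, regRep_character_one, Finset.prod_const, Finset.card_univ]
    rw [card_pi]
    push_cast
    rfl
  · rw [regRep_character_ne hx]
    obtain ⟨i, hi⟩ : ∃ i, x i ≠ 1 := by
      by_contra hcon
      push Not at hcon
      exact hx (funext hcon)
    symm
    exact Finset.prod_eq_zero (Finset.mem_univ i) (regRep_character_ne hi)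

theorem exists_pc {θ : (Q → A) → ℂ} (hθ : IsIrrCharacter (Q → A) θ) :
    ∃ α : Q → IrrCharacter A, θ = pc (fun i => (α i).1) := by
  classical
  haveI : Fintype (IrrCharacter A) := Fintype.ofFinite _
  haveI : Fintype (IrrCharacter (Q → A)) := Fintype.ofFinite _
  have h1 : (regRep (Q → A)).character =
      ∑ α : Q → IrrCharacter A, (∏ i, (charDegree (α i).1 : ℂ)) • pc (fun i => (α i).1) := by
    funext x
    rw [reg_pi]
    have h2 : ∀ i, (regRep A).character (x i) =
        ∑ χ : IrrCharacter A, (charDegree χ.1 : ℂ) * χ.1 (x i) := by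
      intro i
      rw [regRep_character_eq, Finset.sum_apply]
      rfl
    simp only [h2]
    rw [Finset.prod_univ_sum, Fintype.piFinset_univ, Finset.sum_apply]
    refine Finset.sum_congr rfl fun α _ => ?_
    rw [Pi.smul_apply, smul_eq_mul, Finset.prod_mul_distrib]
    rfl
  have h2 := classInner_regRep_irr ⟨θ, hθ⟩
  rw [h1, classInner_sum_left] at h2
  have h3 : (charDegree θ : ℂ) ≠ 0 := by
    exact_mod_cast (irr_charDegree_pos hθ).ne'
  rw [show (charDegree ((⟨θ, hθ⟩ : IrrCharacter (Q → A)) : (Q → A) → ℂ) : ℂ) = (charDegree θ : ℂ) from rfl]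
    at h2
  have h4 : ∃ α : Q → IrrCharacter A,
      classInner ((∏ i, (charDegree (α i).1 : ℂ)) • pc (fun i => (α i).1)) θ ≠ 0 := by
    by_contra hcon
    push Not at hcon
    apply h3
    rw [← h2]
    exact Finset.sum_eq_zero fun α _ => hcon α
  obtain ⟨α, hα⟩ := h4
  refine ⟨α, ?_⟩
  rw [classInner_smul_left] at hα
  have h5 := right_ne_zero_of_mul hα
  have h6 := classInner_irr ⟨pc (fun i => (α i).1), irr_pc fun i => (α i).2⟩ ⟨θ, hθ⟩
  by_cases h7 : (⟨pc (fun i => (α i).1), irr_pc fun i => (α i).2⟩ : IrrCharacter (Q → A)) = ⟨θ, hθ⟩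
  · exact (congrArg Subtype.val h7).symm
  · rw [if_neg h7] at h6
    exact absurd h6 h5

/-- The product of subgroups, in the form needed. -/
theorem ext_pi (C : Q → Subgroup A) (lam : ∀ i, C i → ℂ) (x : Q → A) :
    extendByZero (Subgroup.pi Set.univ C)
      (fun t => ∏ i, lam i ⟨t.1 i, t.2 i (Set.mem_univ i)⟩) x =
      ∏ i, extendByZero (C i) (lam i) (x i) := by
  by_cases hx : x ∈ Subgroup.pi Set.univ C
  · have h1 := extendByZero_coe (H := Subgroup.pi Set.univ C)
      (fun t => ∏ i, lam i ⟨t.1 i, t.2 i (Set.mem_univ i)⟩) ⟨x, hx⟩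
    simp only at h1
    rw [h1]
    refine Finset.prod_congr rfl fun i _ => ?_
    exact (extendByZero_coe (H := C i) (lam i) ⟨x i, hx i (Set.mem_univ i)⟩).symm
  · rw [extendByZero_of_not_mem _ _ hx]
    have : ∃ i, x i ∉ C i := by
      by_contra hcon
      push Not at hcon
      exact hx fun i _ => hcon i
    obtain ⟨i, hi⟩ := this
    exact (Finset.prod_eq_zero (Finset.mem_univ i) (extendByZero_of_not_mem (C i) (lam i) hi)).symm

theorem card_pi_sub (C : Q → Subgroup A) :
    Nat.card (Subgroup.pi Set.univ C) = ∏ i, Nat.card (C i) := by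
  rw [← Nat.card_pi]
  refine Nat.card_congr
    { toFun := fun t i => ⟨t.1 i, t.2 i (Set.mem_univ i)⟩
      invFun := fun t => ⟨fun i => (t i).1, fun i _ => (t i).2⟩
      left_inv := fun _ => rfl
      right_inv := fun _ => rfl }

theorem indFun_pi (C : Q → Subgroup A) (lam : ∀ i, C i → ℂ) :
    indFun (Subgroup.pi Set.univ C) (fun t => ∏ i, lam i ⟨t.1 i, t.2 i (Set.mem_univ i)⟩) =
      pc (fun i => indFun (C i) (lam i)) := by
  funext g
  simp only [indFun, pc, ext_pi]
  have h1 : ∀ x : Q → A, ∏ i, extendByZero (C i) (lam i) ((x⁻¹ * g * x) i) =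
      ∏ i, extendByZero (C i) (lam i) ((x i)⁻¹ * g i * x i) := fun x => rfl
  simp only [h1]
  rw [sum_pi (fun i a => extendByZero (C i) (lam i) (a⁻¹ * g i * a)), card_pi_sub,
    Finset.prod_mul_distrib]
  push_cast
  rw [Finset.prod_inv_distrib]

/-- Products of groups all of whose irreducible characters are monomial. -/
theorem mono_pi (hA : ∀ χ : A → ℂ, IsIrrCharacter A χ → IsMonomialChar A χ)
    {θ : (Q → A) → ℂ} (hθ : IsIrrCharacter (Q → A) θ) : IsMonomialChar (Q → A) θ := by
  obtain ⟨α, rfl⟩ := exists_pc hθ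
  choose C l hl using fun i => hA (α i).1 (α i).2
  let L : (Subgroup.pi Set.univ C) →* ℂˣ :=
    { toFun := fun t => ∏ i, l i ⟨t.1 i, t.2 i (Set.mem_univ i)⟩
      map_one' := Finset.prod_eq_one fun i _ => map_one (l i)
      map_mul' := fun a b => by
        rw [← Finset.prod_mul_distrib]
        exact Finset.prod_congr rfl fun i _ => by rw [← map_mul]; rfl }
  refine ⟨Subgroup.pi Set.univ C, L, ?_⟩
  have h1 : (fun i => (α i).1) = fun i => indFun (C i) (fun t => ((l i t : ℂˣ) : ℂ)) := funext hl
  rw [h1, ← indFun_pi]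
  congr 1
  funext t
  simp [L]

end Pi

section Transport

variable {X : Type u} [Group X] [Fintype X] {Y : Type v} [Group Y] [Fintype Y]

/-- Monomial characters transport along isomorphisms. -/
theorem mono_transport (φ : X ≃* Y) {χ : X → ℂ} (h : IsMonomialChar X χ) :
    IsMonomialChar Y (fun y => χ (φ.symm y)) := by
  obtain ⟨T, l, rfl⟩ := h
  let e : T ≃* T.map φ.toMonoidHom := T.equivMapOfInjective φ.toMonoidHom φ.injective
  refine ⟨T.map φ.toMonoidHom, l.comp e.symm.toMonoidHom, ?_⟩
  have hext : ∀ z : X, extendByZero (T.map φ.toMonoidHom)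
      (fun t => (((l.comp e.symm.toMonoidHom) t : ℂˣ) : ℂ)) (φ z) =
      extendByZero T (fun t => ((l t : ℂˣ) : ℂ)) z := by
    intro z
    by_cases hz : z ∈ T
    · have h1 : φ z ∈ T.map φ.toMonoidHom := ⟨z, hz, rfl⟩
      have h2 := extendByZero_coe (H := T.map φ.toMonoidHom)
        (fun t => (((l.comp e.symm.toMonoidHom) t : ℂˣ) : ℂ)) ⟨φ z, h1⟩
      simp only at h2
      rw [h2]
      have h3 := extendByZero_coe (H := T) (fun t => ((l t : ℂˣ) : ℂ)) ⟨z, hz⟩
      simp only at h3
      rw [h3]
      have h4 : e.symm ⟨φ z, h1⟩ = ⟨z, hz⟩ := by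
        rw [MulEquiv.symm_apply_eq]
        rfl
      show ((l (e.symm ⟨φ z, h1⟩) : ℂˣ) : ℂ) = _
      rw [h4]
    · rw [extendByZero_of_not_mem _ _ hz, extendByZero_of_not_mem]
      rintro ⟨w, hw, hwz⟩
      have : w = z := φ.injective hwz
      exact hz (this ▸ hw)
  funext y
  simp only [indFun]
  rw [Nat.card_congr e.symm.toEquiv]
  congr 1
  rw [← Equiv.sum_comp φ.toEquiv]
  refine Finset.sum_congr rfl fun x _ => ?_
  have h5 : (φ.toEquiv x)⁻¹ * y * (φ.toEquiv x) = φ (x⁻¹ * φ.symm y * x) := by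
    simp
  rw [h5, hext]

end Transport

end Cfsg.Agent.H21.MG
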