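import Cfsg.Agent.Lib.H21.MGroupA
import Cfsg.Agent.Lib.H21.CentralTypeA
import Cfsg.Agent.Lib.H04.Cliff.Degree
import Cfsg.Agent.Lib.H04.Cliff.Extend
import Cfsg.Agent.Lib.H23.GalExt
import Cfsg.Agent.Lib.H23.Ito2
import Cfsg.Agent.Lib.H17.PrimeGraph

/-!
# Wreath products with a group of prime order preserve the monomial property
-/

set_option autoImplicit false
set_option linter.unusedSectionVars false
set_option linter.style.haveILetI false
set_option linter.unusedSimpArgs false

namespace Cfsg.Agent.H21.MG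

open Cfsg Cfsg.Agent.H21 Cfsg.Agent.H06 Cfsg.Agent.H06.Brauer Cfsg.Agent.H23 Cfsg.Agent.H04.Cliff
open scoped ComplexConjugate RegularWreathProduct

universe u v

section Wreath

variable {A : Type u} [Group A] {Q : Type v} [Group Q]

/-- The base group of the wreath product. -/
abbrev baseN (A : Type u) [Group A] (Q : Type v) [Group Q] : Subgroup (A ≀ᵣ Q) :=
  (RegularWreathProduct.rightHom : A ≀ᵣ Q →* Q).ker

theorem mem_baseN {w : A ≀ᵣ Q} : w ∈ baseN A Q ↔ w.right = 1 := Iff.rfl

/-- The isomorphism of the power with the base group. -/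
def baseEquiv (A : Type u) [Group A] (Q : Type v) [Group Q] : (Q → A) ≃* baseN A Q where
  toFun f := ⟨⟨f, 1⟩, rfl⟩
  invFun n := n.1.left
  left_inv _ := rfl
  right_inv n := by
    apply Subtype.ext
    apply RegularWreathProduct.ext
    · rfl
    · exact (mem_baseN.1 n.2).symm
  map_mul' f g := by
    apply Subtype.ext
    apply RegularWreathProduct.ext
    · funext x
      simp
    · simp

theorem conj_left (g : A ≀ᵣ Q) (a : Q → A) (x : Q) :
    (g * ⟨a, 1⟩ * g⁻¹).left x = g.left x * a (g.right⁻¹ * x) * (g.left x)⁻¹ := by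
  simp

theorem conj_right (g : A ≀ᵣ Q) (a : Q → A) : (g * ⟨a, 1⟩ * g⁻¹).right = 1 := by
  simp

/-- The elements with all coordinates in a subgroup. -/
def wrSub (C : Subgroup A) (Q : Type v) [Group Q] : Subgroup (A ≀ᵣ Q) where
  carrier := {w | ∀ i, w.left i ∈ C}
  mul_mem' := by
    intro a b ha hb i
    exact mul_mem (ha i) (hb _)
  one_mem' := fun _ => one_mem _
  inv_mem' := by
    intro a ha i
    exact inv_mem (ha _)

theorem card_wrSub [Fintype Q] (C : Subgroup A) :
    Nat.card (wrSub C Q) = Nat.card C ^ Fintype.card Q * Nat.card Q := by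
  have h : wrSub C Q ≃ (Q → C) × Q :=
    { toFun := fun s => (fun i => ⟨s.1.left i, s.2 i⟩, s.1.right)
      invFun := fun c => ⟨⟨fun i => (c.1 i).1, c.2⟩, fun i => (c.1 i).2⟩
      left_inv := fun _ => rfl
      right_inv := fun _ => rfl }
  rw [Nat.card_congr h, Nat.card_prod, Nat.card_fun, Nat.card_eq_fintype_card (α := Q)]

/-- The linear character of the subgroup. -/
noncomputable def wrHom [Fintype Q] {C : Subgroup A} (l : C →* ℂˣ) : wrSub C Q →* ℂˣ where
  toFun w := ∏ i, l ⟨w.1.left i, w.2 i⟩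
  map_one' := Finset.prod_eq_one fun i _ => map_one l
  map_mul' a b := by
    rw [← Equiv.prod_comp (Equiv.mulLeft a.1.right⁻¹) (fun i => l ⟨b.1.left i, b.2 i⟩),
      ← Finset.prod_mul_distrib]
    refine Finset.prod_congr rfl fun i _ => ?_
    rw [← map_mul]
    rfl

variable [Fintype Q]

theorem ext_wr [Fintype A] [Fintype (A ≀ᵣ Q)] {C : Subgroup A} (l : C →* ℂˣ) (b : Q → A) :
    extendByZero (wrSub C Q) (fun w => ((wrHom l w : ℂˣ) : ℂ)) ⟨b, 1⟩ =
      ∏ i, extendByZero C (fun c => ((l c : ℂˣ) : ℂ)) (b i) := by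
  by_cases hb : ∀ i, b i ∈ C
  · have h1 := extendByZero_coe (wrSub C Q) (fun w => ((wrHom l w : ℂˣ) : ℂ)) ⟨⟨b, 1⟩, hb⟩
    simp only at h1
    rw [h1]
    have h2 : ((wrHom l (⟨⟨b, 1⟩, hb⟩ : wrSub C Q) : ℂˣ) : ℂ) = ∏ i, ((l ⟨b i, hb i⟩ : ℂˣ) : ℂ) := by
      show ((∏ i, l ⟨b i, hb i⟩ : ℂˣ) : ℂ) = _
      rw [Units.coe_prod]
    rw [h2]
    refine Finset.prod_congr rfl fun i _ => ?_
    exact (extendByZero_coe C (fun c => ((l c : ℂˣ) : ℂ)) ⟨b i, hb i⟩).symm
  · push Not at hb
    obtain ⟨i, hi⟩ := hb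
    have hnot : (⟨b, 1⟩ : A ≀ᵣ Q) ∉ wrSub C Q := fun h => hi (h i)
    rw [extendByZero_of_not_mem (wrSub C Q) _ hnot,
      Finset.prod_eq_zero (Finset.mem_univ i) (extendByZero_of_not_mem C _ hi)]

variable [Fintype A] [DecidableEq Q]

/-- The induced character on the base group. -/
theorem ind_wr [Fintype (A ≀ᵣ Q)] {C : Subgroup A} (l : C →* ℂˣ) (a : Q → A) :
    indFun (wrSub C Q) (fun w => ((wrHom l w : ℂˣ) : ℂ)) ⟨a, 1⟩ =
      ∏ i, indFun C (fun c => ((l c : ℂˣ) : ℂ)) (a i) := by
  classical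
  set E : A → ℂ := extendByZero C (fun c => ((l c : ℂˣ) : ℂ)) with hE
  have hconj : ∀ w : A ≀ᵣ Q, w⁻¹ * ⟨a, 1⟩ * w =
      ⟨fun x => (w.left (w.right * x))⁻¹ * a (w.right * x) * w.left (w.right * x), 1⟩ := by
    intro w
    apply RegularWreathProduct.ext
    · funext x
      have h1 := conj_left w⁻¹ a x
      rw [inv_inv] at h1
      rw [h1]
      simp
    · have h1 := conj_right w⁻¹ a
      rw [inv_inv] at h1
      exact h1
  have hterm : ∀ w : A ≀ᵣ Q, extendByZero (wrSub C Q) (fun w => ((wrHom l w : ℂˣ) : ℂ))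
      (w⁻¹ * ⟨a, 1⟩ * w) = ∏ j, E ((w.left j)⁻¹ * a j * w.left j) := by
    intro w
    rw [hconj, ext_wr]
    exact Equiv.prod_comp (Equiv.mulLeft w.right) (fun j => E ((w.left j)⁻¹ * a j * w.left j))
  have hsum : ∑ w : A ≀ᵣ Q, extendByZero (wrSub C Q) (fun w => ((wrHom l w : ℂˣ) : ℂ))
      (w⁻¹ * ⟨a, 1⟩ * w) = (Fintype.card Q : ℂ) * ∏ j, ∑ y : A, E (y⁻¹ * a j * y) := by
    simp only [hterm]
    rw [Fintype.sum_equiv (RegularWreathProduct.equivProd A Q)
      (fun w => ∏ j, E ((w.left j)⁻¹ * a j * w.left j))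
      (fun p => ∏ j, E ((p.1 j)⁻¹ * a j * p.1 j)) (fun _ => rfl), Fintype.sum_prod_type]
    simp only [Finset.sum_const, Finset.card_univ, nsmul_eq_mul]
    rw [← Finset.mul_sum, sum_pi (fun j y => E (y⁻¹ * a j * y))]
  simp only [indFun]
  rw [hsum, card_wrSub]
  have hQ : (Fintype.card Q : ℂ) ≠ 0 := by
    exact_mod_cast Fintype.card_ne_zero
  have hCard : Nat.card Q = Fintype.card Q := Nat.card_eq_fintype_card
  rw [hCard, Finset.prod_mul_distrib]
  simp only [Finset.prod_const, Finset.card_univ]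
  push_cast
  rw [mul_inv, mul_assoc, inv_mul_cancel_left₀ hQ, inv_pow]

end Wreath

section Main

variable {A : Type u} [Group A] [Fintype A] {Q : Type v} [Group Q] [Fintype Q] [DecidableEq Q]

/-- Wreath products with a group of prime order preserve the monomial property. -/
theorem wr_mono (hA : ∀ χ : A → ℂ, IsIrrCharacter A χ → IsMonomialChar A χ)
    (hq : (Fintype.card Q).Prime) [Fintype (A ≀ᵣ Q)] {χ : A ≀ᵣ Q → ℂ}
    (hχ : IsIrrCharacter (A ≀ᵣ Q) χ) : IsMonomialChar (A ≀ᵣ Q) χ := by
  classical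
  set N := baseN A Q with hNdef
  haveI hNn : N.Normal := MonoidHom.normal_ker _
  haveI : Fintype N := Fintype.ofFinite _
  haveI : Fintype (IrrCharacter N) := Fintype.ofFinite _
  haveI : Fintype (IrrCharacter (A ≀ᵣ Q)) := Fintype.ofFinite _
  haveI : Fact (Fintype.card Q).Prime := ⟨hq⟩
  -- the index of the base group
  have hidx : N.index = Fintype.card Q := by
    have hsurj : Function.Surjective (RegularWreathProduct.rightHom : A ≀ᵣ Q →* Q) :=
      fun q => ⟨⟨1, q⟩, rfl⟩
    rw [hNdef, baseN, Subgroup.index_ker, MonoidHom.range_eq_top_of_surjective _ hsurj,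
      Subgroup.card_top, Nat.card_eq_fintype_card]
  obtain ⟨θ, hθ, hc⟩ := exists_constituent N hχ
  let e := baseEquiv A Q
  have hθe : IsIrrCharacter (Q → A) (θ ∘ e.toMonoidHom) :=
    isIrrCharacter_comp_of_surjective e.toMonoidHom e.surjective hθ
  obtain ⟨α, hα⟩ := exists_pc hθe
  have hθval : ∀ n : N, θ n = ∏ i, (α i).1 (n.1.left i) := by
    intro n
    have h1 := congrFun hα n.1.left
    have h2 : e n.1.left = n := e.apply_symm_apply n
    have h3 : θ (e n.1.left) = ∏ i, (α i).1 (n.1.left i) := h1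
    rw [← h3, h2]
  have hcχ : classInner (indFun N θ) χ ≠ 0 := by
    rw [frobenius_reciprocity N θ χ (isClassFunction_of_isCharacter (isCharacter_of_irr hχ))]
    intro h
    apply hc
    rw [← classInner_comm_conj, h, map_zero]
  by_cases hinv : ∀ (g : A ≀ᵣ Q) (n : N), θ ⟨g * n * g⁻¹, hNn.conj_mem n n.2 g⟩ = θ n
  · -- the invariant case
    have hconst : ∀ σ : Q, α σ = α 1 := by
      intro σ
      have hpc : pc (fun j => (α (σ * j)).1) = pc (fun i => (α i).1) := by
        funext a
        have h1 := hinv ⟨1, σ⟩ (e a)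
        rw [hθval, hθval] at h1
        have h2 : ∏ i, (α i).1 (((⟨1, σ⟩ : A ≀ᵣ Q) * (e a : A ≀ᵣ Q) * (⟨1, σ⟩ : A ≀ᵣ Q)⁻¹).left i) =
            ∏ i, (α i).1 (a (σ⁻¹ * i)) := by
          refine Finset.prod_congr rfl fun i _ => ?_
          have h3 : ((⟨1, σ⟩ : A ≀ᵣ Q) * (e a : A ≀ᵣ Q) * (⟨1, σ⟩ : A ≀ᵣ Q)⁻¹).left i =
              1 * a (σ⁻¹ * i) * 1⁻¹ := conj_left (⟨1, σ⟩ : A ≀ᵣ Q) a i
          rw [h3, one_mul, inv_one, mul_one]
        simp only at h1
        rw [h2] at h1
        have h4 : ∏ i, (α i).1 (a (σ⁻¹ * i)) = ∏ j, (α (σ * j)).1 (a j) := by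
          rw [← Equiv.prod_comp (Equiv.mulLeft σ)]
          refine Finset.prod_congr rfl fun j _ => ?_
          simp
        rw [h4] at h1
        exact h1
      have h1 : ∏ i, classInner (α i).1 (α (σ * i)).1 = 1 := by
        rw [← inner_pc, hpc]
        exact classInner_irr_self (irr_pc fun i => (α i).2)
      have h2 : classInner (α 1).1 (α (σ * 1)).1 ≠ 0 := by
        intro h3
        rw [Finset.prod_eq_zero (Finset.mem_univ 1) h3] at h1
        exact zero_ne_one h1
      rw [classInner_irr_fun (α 1).2 (α (σ * 1)).2] at h2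
      have h3 : (α 1).1 = (α (σ * 1)).1 := by
        by_contra h4
        exact h2 (if_neg h4)
      rw [mul_one] at h3
      exact (Subtype.ext h3).symm
    obtain ⟨C, l, hl⟩ := hA (α 1).1 (α 1).2
    haveI : Fintype (wrSub C Q) := Fintype.ofFinite _
    set μ := wrHom (Q := Q) l with hμ
    set ξ := indFun (wrSub C Q) (fun w => ((μ w : ℂˣ) : ℂ)) with hξdef
    have hξ : IsCharacter (A ≀ᵣ Q) ξ := isCharacter_indFun (wrSub C Q) (isCharacter_hom μ)
    have hext : ∀ n : N, ξ n = θ n := by
      intro n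
      have h1 : (n : A ≀ᵣ Q) = ⟨n.1.left, 1⟩ := by
        apply RegularWreathProduct.ext
        · rfl
        · exact mem_baseN.1 n.2
      rw [hθval, h1, hξdef, hμ, ind_wr]
      refine Finset.prod_congr rfl fun i _ => ?_
      rw [hconst i, ← hl]
    have hprod : IsIrrCharacter N ((fun _ => (1 : ℂ)) * θ) := by
      convert hθ using 1
      funext n
      simp
    have hbij := gallagher_bij N (isIrrCharacter_one (G := N)) hprod (fun _ => rfl)
      (fun t => by funext n; exact hinv t n) hξ hext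
    have hne : classInner (indFun N ((fun _ => (1 : ℂ)) * θ)) χ ≠ 0 := by
      have h1 : ((fun _ => (1 : ℂ)) * θ : N → ℂ) = θ := by
        funext n
        simp
      rw [h1]
      exact hcχ
    obtain ⟨β, ⟨hβ, -⟩, hβeq⟩ := hbij.surjOn ⟨hχ, hne⟩
    simp only at hβeq
    have hcyc : IsCyclic ((A ≀ᵣ Q) ⧸ N) := isCyclic_of_prime_card (p := Fintype.card Q) hidx
    have hres := over_restrict_of_cyclic (A ≀ᵣ Q) N hcyc ⟨θ, hθ⟩ hinv ⟨χ, hχ⟩ hc 1
    have hβ1 : β 1 = 1 := by
      have h1 : β 1 * ξ 1 = χ 1 := by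
        rw [← hβeq]
        rfl
      have h2 : ξ 1 = θ 1 := hext 1
      have h3 : χ 1 = θ 1 := hres
      rw [h2, h3] at h1
      exact mul_right_cancel₀ (irr_one_ne_zero' hθ) (by rw [h1, one_mul])
    have hβc := isCharacter_of_irr hβ
    let L := linU β hβc hβ1
    refine ⟨wrSub C Q, (L.comp (wrSub C Q).subtype) * μ, ?_⟩
    rw [← hβeq, hξdef, mul_indFun (isClassFunction_of_isCharacter hβc)]
    congr 1
  · -- the non-invariant case
    have hcoat : IsCoatom N := by
      refine ⟨?_, ?_⟩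
      · intro h
        rw [h, Subgroup.index_top] at hidx
        exact hq.ne_one hidx.symm
      · intro I hI
        have hdvd : I.index ∣ N.index := Subgroup.index_dvd_of_le hI.le
        rw [hidx] at hdvd
        rcases (Nat.dvd_prime hq).1 hdvd with h1 | h1
        · exact Subgroup.index_eq_one.1 h1
        · exfalso
          have h2 : Nat.card I = Nat.card N := by
            have h3 := I.card_mul_index
            have h4 := N.card_mul_index
            rw [h1] at h3
            rw [hidx] at h4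
            exact Nat.eq_of_mul_eq_mul_right hq.pos (h3.trans h4.symm)
          exact hI.ne (Subgroup.eq_of_le_of_card_ge hI.le h2.le)
    have hNI : N ≤ inertG N θ := by
      intro g hg h
      exact isCharacter_conj (isCharacter_of_irr hθ) h ⟨g, hg⟩
    have hI : inertG N θ = N := by
      rcases hNI.lt_or_eq with h | h
      · exfalso
        have h1 := hcoat.2 _ h
        apply hinv
        intro g n
        have h2 : g ∈ inertG N θ := by
          rw [h1]
          exact Subgroup.mem_top g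
        exact h2 n
      · exact h.symm
    have hT : ∀ g : A ≀ᵣ Q, g ∈ N ↔ ∀ h : N, θ ⟨g * h * g⁻¹, hNn.conj_mem h h.2 g⟩ = θ h := by
      intro g
      have h1 : g ∈ N ↔ g ∈ inertG N θ := by rw [hI]
      exact h1
    obtain ⟨ψ, hψ, rfl⟩ := exists_clifford_ind N N le_rfl hθ hT hχ hc
    have h1 : IsIrrCharacter (Q → A) (ψ ∘ e.toMonoidHom) :=
      isIrrCharacter_comp_of_surjective e.toMonoidHom e.surjective hψ
    have h2 := mono_pi hA h1
    have h3 := mono_transport e h2
    have h4 : (fun y => (ψ ∘ e.toMonoidHom) (e.symm y)) = ψ := by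
      funext y
      simp
    rw [h4] at h3
    exact monomial_of_subgroup N h3

end Main

/-- Every finite solvable group embeds in a finite group all of whose irreducible characters are
monomial. -/
theorem exists_mgroup : ∀ (n : ℕ) (G : Type u) [Group G] [Finite G], Nat.card G = n →
    Group.IsSolvable G → ∃ (M : Type u) (_ : Group M) (_ : Finite M),
      (∀ (_ : Fintype M) (χ : M → ℂ), IsIrrCharacter M χ → IsMonomialChar M χ) ∧
      ∃ f : G →* M, Function.Injective f := by
  intro n
  induction n using Nat.strong_induction_on with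
  | _ n ih =>
  intro G _ _ hn hsolv
  by_cases hG : Nontrivial G
  · haveI : Group.IsSolvable G := hsolv
    obtain ⟨N, hNn, hNp⟩ := Cfsg.Agent.H17.exists_normal_prime_index G
    set q := Nat.card (G ⧸ N) with hq
    have hqp : q.Prime := hNp
    haveI : Fact q.Prime := ⟨hqp⟩
    haveI hcyc : IsCyclic (G ⧸ N) := isCyclic_of_prime_card (p := q) rfl
    let e : Multiplicative (ZMod q) ≃* G ⧸ N := zmodCyclicMulEquiv hcyc
    let π : G →* Multiplicative (ZMod q) := e.symm.toMonoidHom.comp (QuotientGroup.mk' N)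
    have hπ : Function.Surjective π :=
      e.symm.surjective.comp (QuotientGroup.mk'_surjective N)
    have hker : π.ker = N := by
      ext g
      simp only [π, MonoidHom.mem_ker, MonoidHom.comp_apply]
      rw [show e.symm.toMonoidHom (QuotientGroup.mk' N g) = e.symm (QuotientGroup.mk' N g) from rfl,
        map_eq_one_iff e.symm e.symm.injective]
      simp
    have hcard : Nat.card G = Nat.card N * q := by
      rw [hq, mul_comm]
      exact (Subgroup.card_mul_index N ▸ (by rw [mul_comm]; rfl))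
    have hNlt : Nat.card N < n := by
      rw [← hn, hcard]
      have h0 : 0 < Nat.card N := Nat.card_pos
      have h1 := hqp.two_le
      nlinarith
    obtain ⟨T₀, _, _, hT, ι, hι⟩ := ih _ hNlt N rfl inferInstance
    obtain ⟨f, hf⟩ := CT.exists_embed π hπ hker ι hι
    haveI : NeZero q := ⟨hqp.ne_zero⟩
    refine ⟨T₀ ≀ᵣ Multiplicative (ZMod q), inferInstance, inferInstance, ?_, f, hf⟩
    intro _ χ hχ
    classical
    haveI : Fintype T₀ := Fintype.ofFinite T₀
    refine wr_mono (hT _) ?_ hχ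
    rw [Fintype.card_multiplicative, ZMod.card]
    exact hqp
  · rw [not_nontrivial_iff_subsingleton] at hG
    refine ⟨PUnit, inferInstance, inferInstance, ?_, 1, ?_⟩
    · intro _ χ hχ
      exact monomial_of_nilpotent _ PUnit inferInstance le_rfl χ hχ
    · intro a b _
      exact Subsingleton.elim a b

end Cfsg.Agent.H21.MG
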