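import Cfsg.Agent.Lib.H21.CentralDefect
import Cfsg.Agent.Lib.H22.ZTransfer

/-!
# Defect groups via maximal Brauer pairs; blocks of subgroups between `P C(P)` and `N(P)`
-/

set_option autoImplicit false
set_option linter.unusedSectionVars false
set_option linter.style.haveILetI false
set_option linter.unusedSimpArgs false

namespace Cfsg.Agent.H21

open scoped ComplexConjugate
open Cfsg Module Cfsg.Agent.H22

universe u

variable {G : Type u} [Group G] [Finite G]
variable {p : ℕ} [hp : Fact p.Prime] {M : Ideal AlgInt} [hMp : M.IsPrime]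

/-- The central character of a class function supported on classes with central characters
in the local ideal. -/
theorem om_mli_of_cc_mli {K : Type*} [Group K] [Finite K] (ξ : IrrCharacter K) {a : K → ℂ}
    (hac : IsClassFunction K a) (haR : ∀ c, MemLocalRing M (a c))
    (h : ∀ c, a c ≠ 0 → MemLocalIdeal M (cc c ξ)) : MemLocalIdeal M (om ξ a) := by
  classical
  haveI : Fintype (ConjClasses K) := Fintype.ofFinite _
  rw [om_eq_sum_classes a hac ξ]
  refine mli_sum _ _ fun C _ => ?_
  by_cases hC : a C.out = 0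
  · rw [hC, zero_mul]
    exact mli_zero
  · exact mli_mul_left (h _ hC) (haR _)

/-- A Brauer pair of `B` induces `B`. -/
theorem induced_of_pair (hM : IsPModular p M) {B : Set (IrrCharacter G)} {P : Subgroup G}
    {e : Set (IrrCharacter (Subgroup.centralizer (P : Set G)))} (h : IsBrauerPairOf p M B P e) :
    IsInducedBlock M (Subgroup.centralizer (P : Set G)) e B := by
  obtain ⟨h1, hB, h3⟩ := isBrauerPairOf_iff.mp h
  refine ⟨h1.2, hB, fun ξ hξ χ hχ g => ?_⟩
  have h4 := bw_class_congr hM h1.1 hB (h3 hξ) hχ (classIndicator_isClass g) (classIndicator_mlr g)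
  rw [om_classIndicator] at h4
  rw [inducedCentralChar_eq_bw]
  exact h4

/-- The block of a maximal Brauer pair has the centre of `P` as a defect group. -/
theorem defect_of_maximal (hM : IsPModular p M) {B : Set (IrrCharacter G)} {P : Subgroup G}
    {e : Set (IrrCharacter (Subgroup.centralizer (P : Set G)))}
    (hmax : IsMaximalBrauerPair p M B P e) :
    IsDefectGroup p M e ((P ⊓ Subgroup.centralizer (P : Set G)).subgroupOf
      (Subgroup.centralizer (P : Set G))) := by
  have hPb := isBrauerPairOf_iff.mp hmax.1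
  have hle0 : SubpairLE p M P e P e := Relation.ReflTransGen.refl
  obtain ⟨x, h1, h2⟩ := exists_conj_defect_centralizer hM hmax hle0 hPb.1.2
  have h3 : cq x P ≤ P := subpairLE_le h1
  have hcard : Nat.card (cq x P) = Nat.card P :=
    Subgroup.card_map_of_injective (MulEquiv.injective _)
  have h4 : cq x P = P := Subgroup.eq_of_le_of_card_ge h3 hcard.ge
  have key : ∀ (R : Subgroup G) (f : Set (IrrCharacter (Subgroup.centralizer (R : Set G)))),
      R = P → SubpairLE p M R f P e →
      IsDefectGroup p M f ((P ⊓ Subgroup.centralizer (R : Set G)).subgroupOf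
        (Subgroup.centralizer (R : Set G))) →
      IsDefectGroup p M e ((P ⊓ Subgroup.centralizer (P : Set G)).subgroupOf
        (Subgroup.centralizer (P : Set G))) := by
    rintro R f rfl hle hD
    rw [← subpairLE_self hle]
    exact hD
  exact key _ _ h4 h1 h2

/-- Every defect group of the block of a maximal pair lies in the centre of `P`. -/
theorem defect_le_of_maximal (hM : IsPModular p M) {B : Set (IrrCharacter G)} {P : Subgroup G}
    {e : Set (IrrCharacter (Subgroup.centralizer (P : Set G)))}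
    (hmax : IsMaximalBrauerPair p M B P e) {D' : Subgroup (Subgroup.centralizer (P : Set G))}
    (hD' : IsDefectGroup p M e D') :
    D' ≤ (P ⊓ Subgroup.centralizer (P : Set G)).subgroupOf (Subgroup.centralizer (P : Set G)) := by
  have hPb := isBrauerPairOf_iff.mp hmax.1
  obtain ⟨t, ht⟩ := subConj_of_defects hM hPb.1.2 hD' (defect_of_maximal hM hmax)
  intro s hs
  have h1 := ht s hs
  rw [Subgroup.mem_subgroupOf] at h1 ⊢
  have h2 : (s : G) = ((t * s * t⁻¹ : Subgroup.centralizer (P : Set G)) : G) := by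
    have h3 : (t : G) * (s : G) * (t : G)⁻¹ ∈ P := h1.1
    have h4 := Subgroup.mem_centralizer_iff.mp t.2 _ h3
    simp only [Subgroup.coe_mul, Subgroup.coe_inv]
    have h5 : (t : G) * ((t : G) * (s : G) * (t : G)⁻¹) = ((t : G) * (s : G) * (t : G)⁻¹) * (t : G) := h4.symm
    have h6 : (t : G) * (s : G) = ((t : G) * (s : G) * (t : G)⁻¹) * (t : G) := by group
    rw [← h6] at h5
    exact (mul_left_cancel h5).symm
  rw [h2]
  exact h1

/-- **`S0929`**: a class with nonzero central character meets the centralizer of a defect group,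
with `p`-part in the centre of the defect group. -/
theorem exists_conj_pPart_center (hM : IsPModular p M) {B : Set (IrrCharacter G)} (hB : IsPBlock M B)
    {P : Subgroup G} (hP : IsDefectGroup p M B P) {χ : IrrCharacter G} (hχ : χ ∈ B) {g : G}
    (hg : ¬ MemLocalIdeal M (cc g χ)) :
    ∃ x : G, IsConj g x ∧ x ∈ Subgroup.centralizer (P : Set G) ∧
      ∀ z : G, IsPPart p x z → z ∈ P ∧ ∀ w ∈ P, z * w = w * z := by
  classical
  obtain ⟨e, hmax⟩ := exists_maximal_on_defect hM hP hB
  have hPb := isBrauerPairOf_iff.mp hmax.1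
  have hind := induced_of_pair hM hmax.1
  obtain ⟨ξ, hξ⟩ := block_nonempty hPb.1.2
  obtain ⟨c, hc1, hc2⟩ := exists_class_of_induced hind hξ hχ hg
  refine ⟨c, hc1, c.2, fun z hz => ?_⟩
  -- the `p`-part of `c` in the centralizer
  obtain ⟨z₀, y₀, h1, h2, ⟨k, h3⟩, h4⟩ := exists_pPart (p := p) c
  have hzz : IsPPart p (c : G) (z₀ : G) := by
    refine ⟨(y₀ : G), ?_, ?_, ⟨k, ?_⟩, ?_⟩
    · rw [← h1]; rfl
    · exact congrArg Subtype.val h2.eq
    · rwa [Subgroup.orderOf_coe]
    · rwa [Subgroup.orderOf_coe]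
  have hz₀ : z = z₀ := pPart_unique hz hzz
  subst hz₀
  have hξne : ξ.1 c ≠ 0 := by
    intro h0
    apply hc2
    unfold cc centralChar
    rw [h0]
    simpa using mli_zero
  have hmem : ∃ D, IsDefectGroup p M (blockOf M ξ.1) D ∧ z₀ ∈ D := by
    by_contra hcon
    push Not at hcon
    exact hξne (vanish_off_defect hM ξ ⟨y₀, h1, h2, ⟨k, h3⟩, h4⟩ hcon)
  obtain ⟨D, hD, hzD⟩ := hmem
  have hbl : blockOf M ξ.1 = e := (block_eq_of_mem hPb.1.2 hξ).symm
  rw [hbl] at hD
  have h5 := defect_le_of_maximal hM hmax hD hzD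
  rw [Subgroup.mem_subgroupOf] at h5
  refine ⟨h5.1, fun w hw => ?_⟩
  exact (Subgroup.mem_centralizer_iff.mp h5.2 w hw).symm

/-- **`S0930`**. -/
theorem center_conj_into_center (hM : IsPModular p M) {H : Subgroup G} {b : Set (IrrCharacter H)}
    {B : Set (IrrCharacter G)} (hind : IsInducedBlock M H b B) {D : Subgroup H}
    (hD : IsDefectGroup p M b D) {P : Subgroup G} (hP : IsDefectGroup p M B P) {x : G}
    (hx : x ∈ P) (hxc : ∀ w ∈ P, x * w = w * x) :
    ∃ g : G, g * x * g⁻¹ ∈ D.map H.subtype ∧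
      ∀ w ∈ D.map H.subtype, (g * x * g⁻¹) * w = w * (g * x * g⁻¹) := by
  classical
  obtain ⟨ξ, hξ⟩ := block_nonempty hind.1
  obtain ⟨χ, hχ⟩ := block_nonempty hind.2.1
  obtain ⟨y, hy, T, rfl⟩ := hP
  obtain ⟨x', hx'T, rfl⟩ := hx
  have h1 : ¬ MemLocalIdeal M (cc ((x' : G) * y) χ) := by
    refine cc_center_not_mli hM hind.2.1 hy T hx'T (fun w hw => ?_) hχ
    apply Subtype.ext
    exact hxc _ ⟨w, hw, rfl⟩
  obtain ⟨h, hh1, hh2⟩ := exists_class_of_induced hind hξ hχ h1
  obtain ⟨h₁, hh3, hh4, hh5⟩ := exists_conj_pPart_center hM hind.1 hD hξ hh2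
  -- the `p`-part of `x' y`
  have hxpart : IsPPart p ((x' : G) * y) (x' : G) := by
    refine ⟨y, rfl, ?_, ?_, defect_class_regular hM hind.2.1 hy⟩
    · exact (Subgroup.mem_centralizer_singleton_iff.mp x'.2)
    · have hmem : (x' : G) ∈ (T : Subgroup (Subgroup.centralizer ({y} : Set G))).map
          (Subgroup.centralizer ({y} : Set G)).subtype := ⟨x', hx'T, rfl⟩
      exact orderOf_of_pGroup (T.2.map _) hmem
  -- `p`-part of `h₁` in `H`
  obtain ⟨z₀, y₀, h2, h3, ⟨k, h4⟩, h5⟩ := exists_pPart (p := p) h₁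
  have hzpart : IsPPart p (h₁ : G) (z₀ : G) := by
    refine ⟨(y₀ : G), ?_, ?_, ⟨k, ?_⟩, ?_⟩
    · rw [← h2]; rfl
    · exact congrArg Subtype.val h3.eq
    · rwa [Subgroup.orderOf_coe]
    · rwa [Subgroup.orderOf_coe]
  have hconj : IsConj ((x' : G) * y) (h₁ : G) := by
    refine hh1.trans ?_
    obtain ⟨t, ht⟩ := isConj_iff.mp hh3
    refine isConj_iff.mpr ⟨t, ?_⟩
    rw [← ht]
    rfl
  obtain ⟨t, ht⟩ := isConj_iff.mp hconj
  have h6 := isPPart_conj hxpart t
  rw [ht] at h6
  have h7 : t * (x' : G) * t⁻¹ = (z₀ : G) := pPart_unique h6 hzpart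
  have h8 := hh5 z₀ ⟨y₀, h2, h3, ⟨k, h4⟩, h5⟩
  refine ⟨t, ?_, ?_⟩
  · show t * (x' : G) * t⁻¹ ∈ _
    rw [h7]
    exact ⟨z₀, h8.1, rfl⟩
  · rintro _ ⟨w, hw, rfl⟩
    show t * (x' : G) * t⁻¹ * (w : G) = (w : G) * (t * (x' : G) * t⁻¹)
    rw [h7]
    exact congrArg Subtype.val (h8.2 w hw)

/-- **`S0931`**. -/
theorem defect_zero_iff_induced (hM : IsPModular p M) {H : Subgroup G} {b : Set (IrrCharacter H)}
    {B : Set (IrrCharacter G)} (hind : IsInducedBlock M H b B) :
    blockDefect p b = 0 ↔ blockDefect p B = 0 := by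
  classical
  obtain ⟨D, hD⟩ := isDefectGroup_exists (p := p) hind.1
  obtain ⟨E, hE⟩ := isDefectGroup_exists (p := p) hind.2.1
  have hcD := card_defect hM hind.1 hD
  have hcE := card_defect hM hind.2.1 hE
  have hp1 := hp.out.one_lt
  have hDbot : blockDefect p b = 0 ↔ D = ⊥ := by
    rw [← Subgroup.card_eq_one, hcD]
    constructor
    · intro h; rw [h, pow_zero]
    · intro h
      by_contra hne
      have := Nat.one_lt_pow hne hp1
      omega
  have hEbot : blockDefect p B = 0 ↔ E = ⊥ := by
    rw [← Subgroup.card_eq_one, hcE]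
    constructor
    · intro h; rw [h, pow_zero]
    · intro h
      by_contra hne
      have := Nat.one_lt_pow hne hp1
      omega
  rw [hDbot, hEbot]
  constructor
  · intro h
    subst h
    by_contra hne
    obtain hbot | hnt := Subgroup.bot_or_nontrivial E
    · exact hne hbot
    have hEp : IsPGroup p E := defect_isPGroup hE
    haveI := hEp.center_nontrivial
    obtain ⟨c, hc⟩ := exists_ne (1 : Subgroup.center E)
    have hcE : (c : E) ≠ 1 := fun h => hc (Subtype.ext h)
    obtain ⟨g, hg, -⟩ := center_conj_into_center hM hind hD hE (x := ((c : E) : G)) (c : E).2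
      (fun w hw => by
        have := (Subgroup.mem_center_iff.mp c.2) ⟨w, hw⟩
        exact (congrArg Subtype.val this).symm)
    obtain ⟨d, hd, hd2⟩ := hg
    have hd1 : d = 1 := by simpa using hd
    subst hd1
    have h3 : g * ((c : E) : G) * g⁻¹ = 1 := by simpa using hd2.symm
    have h4 : ((c : E) : G) = 1 := by
      have := congrArg (fun z => g⁻¹ * z * g) h3
      simpa [mul_assoc] using this
    exact hcE (Subtype.ext h4)
  · intro h
    subst h
    obtain ⟨E', hE', hle⟩ := induced_defect_le hM hind hD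
    have h1 := card_defect_eq hM hind.2.1 hE hE'
    have h2 : E' = ⊥ := by
      rw [← Subgroup.card_eq_one, ← h1]
      simp
    rw [h2, le_bot_iff] at hle
    exact (Subgroup.map_eq_bot_iff_of_injective _ (Subgroup.subtype_injective _)).mp hle

section Between

variable {P H : Subgroup G}

theorem normal_subgroupOf_of_le_normalizer (hHN : H ≤ Subgroup.normalizer (P : Set G)) :
    (P.subgroupOf H).Normal := by
  constructor
  intro n hn g
  rw [Subgroup.mem_subgroupOf] at hn ⊢
  have := (Subgroup.mem_normalizer_iff.mp (hHN g.2) (n : G)).mp hn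
  simpa using this

theorem cc_mli_H (hM : IsPModular p M) (hP : IsPGroup p P) (hPH : P ≤ H)
    (hHN : H ≤ Subgroup.normalizer (P : Set G)) {h : H} (hh : (h : G) ∉ Subgroup.centralizer (P : Set G))
    (ξ : IrrCharacter H) : MemLocalIdeal M (cc h ξ) := by
  haveI := normal_subgroupOf_of_le_normalizer hHN
  refine cc_mli_of_not_centralizer hM (P.subgroupOf H) hP.comap_subtype (fun hc => hh ?_) ξ
  rw [Subgroup.mem_centralizer_iff] at hc ⊢
  intro x hx
  have := hc ⟨x, hPH hx⟩ (by simpa [Subgroup.mem_subgroupOf] using hx)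
  exact congrArg Subtype.val this

theorem conj_mem_centralizer_iff (hHN : H ≤ Subgroup.normalizer (P : Set G)) (k h : H) :
    ((k : G) * (h : G) * (k : G)⁻¹ ∈ Subgroup.centralizer (P : Set G)) ↔
      (h : G) ∈ Subgroup.centralizer (P : Set G) :=
  ((Subgroup.mem_normalizer_iff.mp
    (normalizer_le_normalizer_centralizer P (hHN k.2))) (h : G)).symm

open Classical in
theorem brauerCC_eq_sum (ξ : H → ℂ) (g : G) :
    brauerCentralChar P H ξ g =
      ∑ h : H, if IsConj g (h : G) ∧ (h : G) ∈ Subgroup.centralizer (P : Set G) then ξ h / ξ 1 else 0 := by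
  unfold brauerCentralChar
  rw [finsum_mem_eq_finite_toFinset_sum _ (Set.toFinite _), Finset.sum_ite, Finset.sum_const_zero,
    add_zero]
  refine Finset.sum_congr ?_ fun _ _ => rfl
  ext h
  simp

/-- The induced central character and the Brauer central character agree modulo the local ideal. -/
theorem brauerCC_congr (hM : IsPModular p M) (hP : IsPGroup p P) (hPH : P ≤ H)
    (hHN : H ≤ Subgroup.normalizer (P : Set G)) (ξ : IrrCharacter H) (g : G) :
    MemLocalIdeal M (inducedCentralChar H ξ.1 g - brauerCentralChar P H ξ.1 g) := by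
  classical
  let a : H → ℂ := fun h =>
    if IsConj g (h : G) ∧ (h : G) ∉ Subgroup.centralizer (P : Set G) then 1 else 0
  have hcl : IsClassFunction H a := by
    intro h k
    simp only [a, Subgroup.coe_mul, Subgroup.coe_inv]
    have h0 : IsConj g ((k : G) * (h : G) * (k : G)⁻¹) ↔ IsConj g (h : G) := by
      have h1 : IsConj (h : G) ((k : G) * (h : G) * (k : G)⁻¹) := isConj_iff.mpr ⟨k, rfl⟩
      exact ⟨fun h2 => h2.trans h1.symm, fun h2 => h2.trans h1⟩
    simp only [h0, conj_mem_centralizer_iff hHN k h]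
  have h1 : inducedCentralChar H ξ.1 g - brauerCentralChar P H ξ.1 g = om ξ a := by
    rw [inducedCentralChar_eq_sum, brauerCC_eq_sum]
    unfold om
    rw [Finset.mul_sum, ← Finset.sum_sub_distrib]
    refine Finset.sum_congr rfl fun h _ => ?_
    simp only [a]
    by_cases h2 : IsConj g (h : G)
    · by_cases h3 : (h : G) ∈ Subgroup.centralizer (P : Set G)
      · simp [h2, h3]
      · simp only [h2, h3, true_and, if_true, not_false_eq_true, and_false, if_false, one_mul]
        ring
    · simp only [h2, false_and, if_false, zero_mul, mul_zero, sub_zero]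
  rw [h1]
  refine om_mli_of_cc_mli ξ hcl (fun h => ?_) (fun h hh => ?_)
  · simp only [a]
    split_ifs
    · exact mlr_one
    · exact mlr_zero
  · refine cc_mli_H hM hP hPH hHN ?_ ξ
    by_contra hc
    apply hh
    simp only [a]
    rw [if_neg]
    rintro ⟨-, h2⟩
    exact h2 hc


/-- The central character of a block of `H` and the Brauer map at a constituent. -/
theorem om_H_congr (hCH : Subgroup.centralizer (P : Set G) ≤ H) (hM : IsPModular p M) (hP : IsPGroup p P) (hPH : P ≤ H)
    (hHN : H ≤ Subgroup.normalizer (P : Set G)) (ξ : IrrCharacter H)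
    (θ : IrrCharacter ((Subgroup.centralizer (P : Set G)).subgroupOf H))
    (hne : ∑ n : (Subgroup.centralizer (P : Set G)).subgroupOf H, conj (θ.1 n) * ξ.1 n ≠ 0)
    {a : G → ℂ} (hac : IsClassFunction G a) (haR : ∀ g, MemLocalRing M (a g)) :
    MemLocalIdeal M (om ξ (fun h : H => a h) -
      bw P (irrMap (Subgroup.subgroupOfEquivOfLe hCH) θ) a) := by
  classical
  let φ : ((Subgroup.centralizer (P : Set G)).subgroupOf H) ≃* (Subgroup.centralizer (P : Set G)) := Subgroup.subgroupOfEquivOfLe hCH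
  let z : ((Subgroup.centralizer (P : Set G)).subgroupOf H) → ℂ := fun n => a ((n : H) : G)
  have hextv : ∀ h : H, extK ((Subgroup.centralizer (P : Set G)).subgroupOf H) z h = if (h : G) ∈ Subgroup.centralizer (P : Set G) then a h else 0 := by
    intro h
    by_cases h1 : (h : G) ∈ Subgroup.centralizer (P : Set G)
    · have h2 : h ∈ (Subgroup.centralizer (P : Set G)).subgroupOf H := by rw [Subgroup.mem_subgroupOf]; exact h1
      rw [extK_of_mem _ z h2, if_pos h1]
    · have h2 : h ∉ (Subgroup.centralizer (P : Set G)).subgroupOf H := by rw [Subgroup.mem_subgroupOf]; exact h1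
      rw [extK_of_not_mem _ z h2, if_neg h1]
  have hcz : IsClassFunction H (extK ((Subgroup.centralizer (P : Set G)).subgroupOf H) z) := by
    intro h k
    rw [hextv, hextv]
    simp only [Subgroup.coe_mul, Subgroup.coe_inv]
    rw [hac (h : G) (k : G)]
    have := conj_mem_centralizer_iff hHN k h
    simp only [this]
  have h1 := om_restrict ξ θ hne z hcz
  have h2 : om θ z = bw P (irrMap φ θ) a := by
    unfold bw om brT
    have h3 : (irrMap φ θ).1 1 = θ.1 1 := by
      have := irrMap_apply' φ θ 1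
      rwa [map_one] at this
    rw [h3]
    congr 1
    rw [← Equiv.sum_comp φ.toEquiv]
    refine Finset.sum_congr rfl fun n _ => ?_
    show z n * θ.1 n = a ((φ n : Subgroup.centralizer (P : Set G)) : G) * (irrMap φ θ).1 (φ n)
    rw [irrMap_apply']
    rfl
  rw [← h2, ← h1]
  -- the difference
  have h4 : om ξ (fun h : H => a h) - om ξ (extK ((Subgroup.centralizer (P : Set G)).subgroupOf H) z) =
      om ξ (fun h : H => if (h : G) ∈ Subgroup.centralizer (P : Set G) then 0 else a h) := by
    unfold om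
    rw [← mul_sub, ← Finset.sum_sub_distrib]
    congr 1
    refine Finset.sum_congr rfl fun h _ => ?_
    rw [hextv]
    by_cases h5 : (h : G) ∈ Subgroup.centralizer (P : Set G)
    · simp [h5]
    · simp [h5]
  rw [h4]
  refine om_mli_of_cc_mli ξ ?_ (fun h => ?_) (fun h hh => ?_)
  · intro h k
    simp only [Subgroup.coe_mul, Subgroup.coe_inv]
    rw [hac (h : G) (k : G)]
    have := conj_mem_centralizer_iff hHN k h
    simp only [this]
  · split_ifs
    · exact mlr_zero
    · exact haR _
  · refine cc_mli_H hM hP hPH hHN ?_ ξ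
    by_contra hc
    apply hh
    rw [if_pos hc]

/-- A character of `H` above a character of `C_G(P)` in the Brauer correspondent of `B`. -/
theorem induced_of_above (hCH : Subgroup.centralizer (P : Set G) ≤ H) (hM : IsPModular p M) (hP : IsPGroup p P) (hPH : P ≤ H)
    (hHN : H ≤ Subgroup.normalizer (P : Set G)) (ξ : IrrCharacter H)
    (θ : IrrCharacter ((Subgroup.centralizer (P : Set G)).subgroupOf H))
    (hne : ∑ n : (Subgroup.centralizer (P : Set G)).subgroupOf H, conj (θ.1 n) * ξ.1 n ≠ 0)
    {B : Set (IrrCharacter G)} (hB : IsPBlock M B)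
    (hb : irrMap (Subgroup.subgroupOfEquivOfLe hCH) θ ∈ brSet M P (blockCoeff B)) :
    IsInducedBlock M H (blockOf M ξ.1) B := by
  have hbl : IsPBlock M (blockOf M ξ.1) := isBlock_blockOf ξ
  refine ⟨hbl, hB, fun ξ' hξ' χ hχ g => ?_⟩
  have h1 := indCC_congr (M := M) (block_sameBlock hbl hξ' (self_mem_blockOf ξ)) g
  have h2 := om_H_congr hCH hM hP hPH hHN ξ θ hne (classIndicator_isClass g) (classIndicator_mlr g)
  rw [show om ξ (fun h : H => classIndicator g h) = inducedCentralChar H ξ.1 g from om_indicator_eq ξ g] at h2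
  have h3 := bw_class_congr hM hP hB hb hχ (classIndicator_isClass g) (classIndicator_mlr g)
  rw [om_classIndicator] at h3
  have h4 := mli_add (mli_add h1 h2) h3
  have h5 : inducedCentralChar H ξ'.1 g - inducedCentralChar H ξ.1 g +
      (inducedCentralChar H ξ.1 g - bw P (irrMap (Subgroup.subgroupOfEquivOfLe hCH) θ) (classIndicator g)) +
      (bw P (irrMap (Subgroup.subgroupOfEquivOfLe hCH) θ) (classIndicator g) - cc g χ) =
      inducedCentralChar H ξ'.1 g - cc g χ := by ring
  rw [h5] at h4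
  exact h4

/-- **`S0919`**. -/
theorem exists_induced_between (hCH : Subgroup.centralizer (P : Set G) ≤ H) (hM : IsPModular p M) (hP : IsPGroup p P) (hPH : P ≤ H)
    (hHN : H ≤ Subgroup.normalizer (P : Set G)) {b : Set (IrrCharacter H)} (hb : IsPBlock M b) :
    InducedBlockDefined M H b := by
  classical
  obtain ⟨ξ, hξ⟩ := block_nonempty hb
  obtain ⟨θ, hθ⟩ := exists_constituent ((Subgroup.centralizer (P : Set G)).subgroupOf H) ξ
  obtain ⟨⟨B, hBF⟩, hB1, -⟩ :=
    existsUnique_block_of_char hM hP (irrMap (Subgroup.subgroupOfEquivOfLe hCH) θ)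
  have hB : IsPBlock M B := mem_blocksF.mp hBF
  refine ⟨B, ?_⟩
  rw [block_eq_of_mem hb hξ]
  exact induced_of_above hCH hM hP hPH hHN ξ θ hθ hB hB1

/-- **`S0918`**. -/
theorem induced_iff_brauerCC (hM : IsPModular p M) (hP : IsPGroup p P) (hPH : P ≤ H)
    (hHN : H ≤ Subgroup.normalizer (P : Set G)) {b : Set (IrrCharacter H)} (hb : IsPBlock M b)
    {B : Set (IrrCharacter G)} (hB : IsPBlock M B) :
    IsInducedBlock M H b B ↔ ∀ ξ ∈ b, ∀ χ ∈ B, ∀ g : G,
      MemLocalIdeal M (brauerCentralChar P H ξ.1 g - centralChar χ.1 g) := by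
  constructor
  · intro h ξ hξ χ hχ g
    have h1 := h.2.2 ξ hξ χ hχ g
    have h2 := brauerCC_congr hM hP hPH hHN ξ g
    have h3 := mli_sub h1 h2
    rwa [sub_sub_sub_cancel_left] at h3
  · intro h
    refine ⟨hb, hB, fun ξ hξ χ hχ g => ?_⟩
    have h1 := h ξ hξ χ hχ g
    have h2 := brauerCC_congr hM hP hPH hHN ξ g
    have h3 := mli_add h2 h1
    rwa [sub_add_sub_cancel] at h3

/-- **`S0958`**. -/
theorem induced_between_iff (hCH : Subgroup.centralizer (P : Set G) ≤ H) (hM : IsPModular p M) (hP : IsPGroup p P) (hPH : P ≤ H)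
    (hHN : H ≤ Subgroup.normalizer (P : Set G)) {B : Set (IrrCharacter G)} (hB : IsPBlock M B) :
    (∃ b : Set (IrrCharacter H), IsInducedBlock M H b B) ↔
      ∃ D : Subgroup G, IsDefectGroup p M B D ∧ ∃ x : G, P.map (MulAut.conj x).toMonoidHom ≤ D := by
  classical
  constructor
  · rintro ⟨b, hind⟩
    obtain ⟨Db, hDb⟩ := isDefectGroup_exists (p := p) hind.1
    obtain ⟨E, hE, hle⟩ := induced_defect_le hM hind hDb
    haveI hn := normal_subgroupOf_of_le_normalizer hHN
    have h1 : P.subgroupOf H ≤ Db :=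
      (Cfsg.Agent.H01.le_pCore hn hP.comap_subtype).trans (pCore_le_defect hM hind.1 hDb)
    refine ⟨E, hE, 1, ?_⟩
    rintro _ ⟨s, hs, rfl⟩
    apply hle
    refine ⟨⟨s, hPH hs⟩, h1 ?_, ?_⟩
    · rw [Subgroup.mem_subgroupOf]
      exact hs
    · simp
  · rintro ⟨D, hD, x, hx⟩
    -- conjugate the defect group
    have hD₁ : IsDefectGroup p M B (cq x⁻¹ D) := isDefectGroup_cq x⁻¹ hD
    have hle : P ≤ cq x⁻¹ D := by
      intro s hs
      rw [mem_cq]
      have := hx ⟨s, hs, rfl⟩
      simpa using this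
    obtain ⟨e, hmax⟩ := exists_maximal_on_defect hM hD₁ hB
    have hPb := isBrauerPairOf_iff.mp hmax.1
    obtain ⟨f, hf, hfle⟩ := exists_subpairLE hM hPb.1 P hle
    have hPf : IsBrauerPairOf p M B P f := (isBrauerPairOf_iff_of_subpairLE hM hf hfle).mp hmax.1
    obtain ⟨ξ₀, hξ₀⟩ := block_nonempty hf.2
    have hξ₀' := (isBrauerPairOf_iff.mp hPf).2.2 hξ₀
    let φ := Subgroup.subgroupOfEquivOfLe hCH
    have hNn : ((Subgroup.centralizer (P : Set G)).subgroupOf H).Normal := by
      constructor
      intro n hn g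
      rw [Subgroup.mem_subgroupOf] at hn ⊢
      exact (conj_mem_centralizer_iff hHN g n).mpr hn
    haveI := hNn
    obtain ⟨ξ, hξ⟩ := exists_above (irrMap φ.symm ξ₀)
    refine ⟨blockOf M ξ.1, ?_⟩
    refine induced_of_above hCH hM hP hPH hHN ξ (irrMap φ.symm ξ₀) hξ hB ?_
    rw [irrMap_irrMap_symm]
    exact hξ₀'

end Between

end Cfsg.Agent.H21
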