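import Cfsg.Agent.Lib.H21.FirstMain
import Cfsg.Agent.Lib.H21.RealBlock
import Cfsg.Agent.Lib.H21.NormalBlocks
import Cfsg.Agent.Lib.H21.HeightInd
import Cfsg.Agent.Lib.H23.RealDeg1
import Cfsg.Agent.Lib.H22.NormalP

/-!
# A 2-block of maximal defect whose characters agree at odd elements and their inverses is principal
-/

set_option autoImplicit false
set_option linter.unusedSectionVars false
set_option linter.style.haveILetI false
set_option linter.unusedSimpArgs false

namespace Cfsg.Agent.H21

open scoped ComplexConjugate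
open Cfsg Module Cfsg.Agent.H22

universe u

section Over

variable {L : Type u} [Group L] [Finite L] (N : Subgroup L) [hN : N.Normal]

/-- An irreducible character with the principal character of `N` below it has `N` in its kernel. -/
theorem over_one_ker₂ (ψ : IrrCharacter L) (h : classInner (fun n : N => ψ.1 n) (oneIrr N).1 ≠ 0)
    (n : N) : ψ.1 n = ψ.1 1 := by
  classical
  obtain ⟨a, ha, ha'⟩ := isCharacter_decomp (isCharacter_restrict N (isCharacter_of_irr ψ.2))
  have h0 : ∀ μ : IrrCharacter N, μ ≠ oneIrr N → a μ = 0 := by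
    intro μ hμ
    by_contra hne
    have h1 : classInner (fun n : N => ψ.1 n) μ.1 ≠ 0 := by
      rw [ha' μ]
      exact_mod_cast hne
    obtain ⟨g, hg⟩ := H23.over_conj N ψ (oneIrr N) μ h h1
    apply hμ
    apply Subtype.ext
    rw [hg]
    rfl
  have hval : ∀ m : N, ψ.1 m = a (oneIrr N) := by
    intro m
    have := congrFun ha m
    rw [Finset.sum_apply] at this
    simp only [Pi.smul_apply, nsmul_eq_mul] at this
    rw [this, Finset.sum_eq_single (oneIrr N)]
    · show _ * (1 : ℂ) = _
      rw [mul_one]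
    · intro μ _ hμ
      rw [h0 μ hμ]
      simp
    · simp
  have h1 := hval n
  have h2 := hval 1
  rw [Subgroup.coe_one] at h2
  rw [h1, h2]

end Over

section OddPart

variable {H : Type u} [Group H] [Finite H]

/-- The normal complement of a normal Sylow 2-subgroup's part inside its centralizer. -/
theorem exists_odd_part (Q : Subgroup H) [hQ : Q.Normal] (hQ2 : IsPGroup 2 Q) (hidx : ¬ 2 ∣ Q.index) :
    ∃ O : Subgroup H, O.Normal ∧ Odd (Nat.card O) ∧ O ≤ Subgroup.centralizer (Q : Set H) ∧
      ∀ c ∈ Subgroup.centralizer (Q : Set H), ∃ z ∈ Q, ∃ o ∈ O, c = z * o := by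
  classical
  set C := Subgroup.centralizer (Q : Set H) with hC
  haveI hCn : C.Normal := Subgroup.normal_centralizer
  let S : Subgroup C := Q.subgroupOf C
  have hScen : ∀ s ∈ S, ∀ c : C, s * c = c * s := by
    intro s hs c
    apply Subtype.ext
    have h1 : (s : H) ∈ Q := hs
    have h2 := c.2 (s : H) h1
    show (s : H) * c = c * s
    exact h2.symm ▸ rfl
  haveI hSn : S.Normal := by
    constructor
    intro s hs c
    have : c * s * c⁻¹ = s := by
      rw [← hScen s hs c, mul_assoc, mul_inv_cancel, mul_one]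
    rwa [this]
  have hSidx : ¬ 2 ∣ S.index := by
    intro h
    apply hidx
    have h1 : S.index = Q.relIndex C := rfl
    rw [h1] at h
    exact h.trans (Subgroup.relIndex_dvd_index_of_normal Q C)
  have hS2 : IsPGroup 2 S := by
    intro s
    obtain ⟨k, hk⟩ := hQ2 ⟨(s : H), s.2⟩
    refine ⟨k, ?_⟩
    apply Subtype.ext
    apply Subtype.ext
    have := congrArg Subtype.val hk
    simpa using this
  have hcop : Nat.Coprime (Nat.card S) S.index := by
    obtain ⟨n, hn⟩ := (IsPGroup.iff_card).1 hS2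
    rw [hn]
    apply Nat.Coprime.pow_left
    exact (Nat.Prime.coprime_iff_not_dvd Nat.prime_two).2 hSidx
  obtain ⟨O₀, hO₀⟩ := Subgroup.exists_right_complement'_of_coprime hcop
  have hdec : ∀ c : C, ∃ s ∈ S, ∃ o ∈ O₀, c = s * o := by
    intro c
    obtain ⟨⟨s, o⟩, h, -⟩ := Subgroup.IsComplement.existsUnique hO₀ c
    exact ⟨s, s.2, o, o.2, h.symm⟩
  have hO₀card : Nat.card O₀ = S.index := by
    have h1 := hO₀.card_mul_card
    have h2 := Subgroup.card_mul_index S
    have h3 : 0 < Nat.card S := Nat.card_pos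
    exact Nat.eq_of_mul_eq_mul_left h3 (h1.trans h2.symm)
  have hO₀odd : Odd (Nat.card O₀) := by
    rw [hO₀card]
    exact Nat.not_even_iff_odd.1 (fun h => hSidx h.two_dvd)
  let O : Subgroup H := O₀.map C.subtype
  have hOcard : Nat.card O = Nat.card O₀ :=
    Nat.card_congr (O₀.equivMapOfInjective C.subtype C.subtype_injective).symm.toEquiv
  have hOodd : Odd (Nat.card O) := hOcard ▸ hO₀odd
  have hOC : O ≤ C := by
    rintro _ ⟨o, _, rfl⟩
    exact o.2
  have hQO : ∀ x, x ∈ Q → x ∈ O → x = 1 := by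
    intro x hx hxO
    obtain ⟨k, hk⟩ := (IsPGroup.iff_orderOf).1 hQ2 ⟨x, hx⟩
    have h1 : orderOf x = 2 ^ k := by
      rw [← hk]
      exact (Subgroup.orderOf_mk x hx).symm
    have h2 : orderOf x ∣ Nat.card O := by
      have := orderOf_dvd_natCard (⟨x, hxO⟩ : O)
      rwa [Subgroup.orderOf_mk] at this
    rw [h1] at h2
    rcases Nat.eq_zero_or_pos k with rfl | hk0
    · rw [pow_zero] at h1
      exact orderOf_eq_one_iff.1 h1
    · exfalso
      have h3 : 2 ∣ Nat.card O := (dvd_pow_self 2 hk0.ne').trans h2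
      exact (Nat.not_even_iff_odd.2 hOodd) (even_iff_two_dvd.2 h3)
  refine ⟨O, ?_, hOodd, hOC, ?_⟩
  · constructor
    intro o hoO h
    have hoC : o ∈ C := hOC hoO
    have hconj : h * o * h⁻¹ ∈ C := hCn.conj_mem o hoC h
    obtain ⟨s, hs, o', ho', he⟩ := hdec ⟨_, hconj⟩
    have he' : h * o * h⁻¹ = (s : H) * (o' : H) := congrArg Subtype.val he
    have hsQ : (s : H) ∈ Q := hs
    have ho'O : (o' : H) ∈ O := ⟨o', ho', rfl⟩
    have hcomm : Commute (s : H) (o' : H) := by
      have := congrArg Subtype.val (hScen s hs o')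
      exact this
    -- the order of the conjugate is odd
    set m := Nat.card O with hm
    have h1 : o ^ m = 1 := by
      have h3 : (⟨o, hoO⟩ : O) ^ m = 1 := pow_card_eq_one'
      exact congrArg Subtype.val h3
    have h2 : ((s : H) * o') ^ m = 1 := by
      rw [← he', conj_pow, h1]
      simp
    rw [hcomm.mul_pow] at h2
    have h3 : (s : H) ^ m = ((o' : H) ^ m)⁻¹ := eq_inv_of_mul_eq_one_left h2
    have h4 : (s : H) ^ m ∈ O := by
      rw [h3]
      exact O.inv_mem (O.pow_mem ho'O _)
    have h5 : (s : H) ^ m = 1 := hQO _ (Q.pow_mem hsQ _) h4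
    have h6 : (s : H) = 1 := by
      obtain ⟨k, hk⟩ := (IsPGroup.iff_orderOf).1 hQ2 ⟨(s : H), hsQ⟩
      have h7 : orderOf (s : H) = 2 ^ k := by
        rw [← hk]
        exact (Subgroup.orderOf_mk _ hsQ).symm
      have h8 : orderOf (s : H) ∣ m := orderOf_dvd_of_pow_eq_one h5
      have h9 : Nat.Coprime (orderOf (s : H)) m := by
        rw [h7]
        apply Nat.Coprime.pow_left
        exact (Nat.coprime_two_left).2 hOodd
      have h10 : orderOf (s : H) = 1 := Nat.Coprime.eq_one_of_dvd h9 h8
      exact orderOf_eq_one_iff.1 h10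
    rw [he', h6, one_mul]
    exact ho'O
  · intro c hc
    obtain ⟨s, hs, o, ho, he⟩ := hdec ⟨c, hc⟩
    refine ⟨s, hs, o, ⟨o, ho, rfl⟩, ?_⟩
    exact congrArg Subtype.val he

end OddPart

section Pair

variable {M : Ideal AlgInt} [hMp : M.IsPrime]

/-- In a group of odd order, a function whose values at `o` and `o⁻¹` agree modulo the ideal
over 2 has sum congruent to its value at 1. -/
theorem sum_odd_group_congr (hM : IsPModular 2 M) {O : Type*} [Group O] [Finite O]
    (hO : Odd (Nat.card O)) (g : O → ℂ) (hR : ∀ o, MemLocalRing M (g o))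
    (h : ∀ o, MemLocalIdeal M (g o⁻¹ - g o)) : MemLocalIdeal M ((∑ o, g o) - g 1) := by
  classical
  let π : ℂ →+ ℂ ⧸ H22.locI M := QuotientAddGroup.mk' _
  have hπ : ∀ z : ℂ, π z = 0 ↔ MemLocalIdeal M z := by
    intro z
    exact QuotientAddGroup.eq_zero_iff z
  have h2mem : MemLocalIdeal M (2 : ℂ) := by
    have := mli_natCast_of_dvd hM (n := 2) (dvd_refl 2)
    simpa using this
  have hfix : ∀ o : O, o⁻¹ = o → o = 1 := by
    intro o ho
    have h1 : o ^ 2 = 1 := by
      rw [pow_two]
      nth_rewrite 1 [← ho]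
      exact inv_mul_cancel o
    have h2 : orderOf o ∣ 2 := orderOf_dvd_of_pow_eq_one h1
    have h3 : orderOf o ∣ Nat.card O := orderOf_dvd_natCard o
    have h4 : Nat.Coprime 2 (Nat.card O) := (Nat.coprime_two_left).2 hO
    have h5 : orderOf o = 1 := Nat.Coprime.eq_one_of_dvd (h4.coprime_dvd_left h2) h3
    exact orderOf_eq_one_iff.1 h5
  have hsum : ∑ o ∈ Finset.univ.erase (1 : O), π (g o) = 0 := by
    refine Finset.sum_involution (fun o _ => o⁻¹) ?_ ?_ ?_ ?_
    · intro o _
      rw [← map_add, hπ]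
      have h1 : g o + g o⁻¹ = (g o⁻¹ - g o) + 2 * g o := by ring
      rw [h1]
      exact H22.mli_add (h o) (H22.mli_mul_right h2mem (hR o))
    · intro o ho _ hι
      exact absurd (hfix o hι) (Finset.ne_of_mem_erase ho)
    · intro o ho
      refine Finset.mem_erase.2 ⟨?_, Finset.mem_univ _⟩
      intro h1
      exact Finset.ne_of_mem_erase ho (inv_eq_one.1 h1)
    · intro o _
      exact inv_inv o
  rw [← hπ, map_sub, map_sum, ← Finset.add_sum_erase Finset.univ _ (Finset.mem_univ (1 : O)), hsum]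
  simp

end Pair

section NormalSylow

variable {H : Type u} [Group H] [Finite H] {M : Ideal AlgInt} [hMp : M.IsPrime]

theorem centralizer_inv_singleton (o : H) :
    Subgroup.centralizer ({o⁻¹} : Set H) = Subgroup.centralizer ({o} : Set H) := by
  ext x
  rw [mem_centralizer_singleton_iff, mem_centralizer_singleton_iff]
  constructor
  · intro h
    calc o * x = o * (x * o⁻¹) * o := by group
      _ = o * (o⁻¹ * x) * o := by rw [h]
      _ = x * o := by group
  · intro h
    calc o⁻¹ * x = o⁻¹ * (x * o) * o⁻¹ := by group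
      _ = o⁻¹ * (o * x) * o⁻¹ := by rw [h]
      _ = x * o⁻¹ := by group

/-- Let `Q` be a normal Sylow 2-subgroup. A character whose central character agrees modulo the
ideal at odd `o` and `o⁻¹` (for `o` centralizing `Q`) lies in the principal block. -/
theorem principal_of_normal_sylow (hM : IsPModular 2 M) (Q : Subgroup H) [hQ : Q.Normal]
    (hQ2 : IsPGroup 2 Q) (hidx : ¬ 2 ∣ Q.index) (β : IrrCharacter H)
    (hβ : ∀ o ∈ Subgroup.centralizer (Q : Set H), Odd (orderOf o) →
      MemLocalIdeal M (cc o⁻¹ β - cc o β)) :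
    β ∈ principalBlock M H := by
  classical
  haveI : Fact (Nat.Prime 2) := ⟨Nat.prime_two⟩
  obtain ⟨O, hOn, hOodd, hOC, hdec⟩ := exists_odd_part Q hQ2 hidx
  set m : ℕ := Q.index with hm
  have hβ1 : β.1 1 ≠ 0 := irr_one_ne_zero' β
  let g : O → ℂ := fun o => (m : ℂ) * (β.1 o / β.1 1)
  have hodd : ∀ o : O, Odd (orderOf (o : H)) := by
    intro o
    have h1 : orderOf (o : H) = orderOf o := (Subgroup.orderOf_coe o)
    rw [h1]
    exact Odd.of_dvd_nat hOodd (orderOf_dvd_natCard o)
  have hq : ∀ o : O, ∃ q : ℕ, g o = (q : ℂ) * cc (o : H) β ∧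
      g o⁻¹ = (q : ℂ) * cc ((o : H)⁻¹) β := by
    intro o
    have hle : Q ≤ Subgroup.centralizer ({(o : H)} : Set H) := by
      intro x hx
      rw [mem_centralizer_singleton_iff]
      have := hOC o.2 x hx
      exact this.symm
    obtain ⟨q, hq⟩ := Subgroup.index_dvd_of_le hle
    refine ⟨q, ?_, ?_⟩
    · show (m : ℂ) * (β.1 o / β.1 1) = (q : ℂ) * centralChar β.1 (o : H)
      unfold centralChar
      rw [hm, hq]
      push_cast
      ring
    · show (m : ℂ) * (β.1 ((o⁻¹ : O) : H) / β.1 1) = (q : ℂ) * centralChar β.1 (o : H)⁻¹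
      unfold centralChar
      rw [centralizer_inv_singleton, hm, hq]
      push_cast
      ring
  have hgR : ∀ o, MemLocalRing M (g o) := by
    intro o
    obtain ⟨q, h1, -⟩ := hq o
    rw [h1]
    exact H22.mlr_mul (H22.mlr_natCast _) (H22.cc_mlr _ _)
  have hgI : ∀ o, MemLocalIdeal M (g o⁻¹ - g o) := by
    intro o
    obtain ⟨q, h1, h2⟩ := hq o
    rw [h1, h2, ← mul_sub]
    exact H22.mli_mul_left (hβ _ (hOC o.2) (hodd o)) (H22.mlr_natCast _)
  have hsum := sum_odd_group_congr hM hOodd g hgR hgI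
  have hg1 : g 1 = (m : ℂ) := by
    show (m : ℂ) * (β.1 ((1 : O) : H) / β.1 1) = _
    rw [OneMemClass.coe_one, div_self hβ1, mul_one]
  have hne : ∑ o : O, β.1 o ≠ 0 := by
    intro h0
    have h1 : ∑ o, g o = 0 := by
      show ∑ o : O, (m : ℂ) * (β.1 o / β.1 1) = 0
      rw [← Finset.mul_sum, ← Finset.sum_div, h0]
      simp
    rw [h1, hg1, zero_sub] at hsum
    have h2 := H22.mli_neg hsum
    rw [neg_neg] at h2
    exact not_mli_natCast_of_odd hM hidx h2
  have hinner : classInner (fun n : O => β.1 n) (oneIrr O).1 ≠ 0 := by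
    unfold classInner
    apply mul_ne_zero
    · exact inv_ne_zero (Nat.cast_ne_zero.2 Nat.card_pos.ne')
    · simpa [oneIrr] using hne
  have hker : ∀ n : O, β.1 n = β.1 1 := over_one_ker₂ O β hinner
  obtain ⟨χ', hχ', hcomp⟩ := exists_descend O β.2 (fun n hn => hker ⟨n, hn⟩)
  -- the quotient has its Sylow 2-subgroup self-centralizing
  let Q' : Subgroup (H ⧸ O) := Q.map (QuotientGroup.mk' O)
  haveI hQ'n : Q'.Normal := Subgroup.Normal.map hQ _ (QuotientGroup.mk'_surjective O)
  have hQ'2 : IsPGroup 2 Q' := IsPGroup.map hQ2 _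
  have hQO : ∀ x, x ∈ Q → x ∈ O → x = 1 := by
    intro x hx hxO
    have h1 : IsPGroup 2 (Q ⊓ O : Subgroup H) :=
      hQ2.to_le inf_le_left
    obtain ⟨k, hk⟩ := (IsPGroup.iff_orderOf).1 hQ2 ⟨x, hx⟩
    have h2 : orderOf x = 2 ^ k := by
      rw [← hk]
      exact (Subgroup.orderOf_mk x hx).symm
    have h3 : Odd (orderOf x) := hodd ⟨x, hxO⟩
    rcases Nat.eq_zero_or_pos k with rfl | hk0
    · rw [pow_zero] at h2
      exact orderOf_eq_one_iff.1 h2
    · exfalso
      rw [h2] at h3
      exact (Nat.not_even_iff_odd.2 h3) ((Nat.even_pow.2 ⟨even_two, hk0.ne'⟩))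
  have hCle : Subgroup.centralizer (Q' : Set (H ⧸ O)) ≤ Q' := by
    intro x hx
    obtain ⟨y, rfl⟩ := QuotientGroup.mk'_surjective O x
    have hyC : y ∈ Subgroup.centralizer (Q : Set H) := by
      rw [Subgroup.mem_centralizer_iff]
      intro q hq
      have h1 := hx (QuotientGroup.mk' O q) ⟨q, hq, rfl⟩
      have h2 : (QuotientGroup.mk' O) (q * y * q⁻¹ * y⁻¹) = 1 := by
        rw [map_mul, map_mul, map_mul, map_inv, map_inv, h1]
        group
      have h3 : q * y * q⁻¹ * y⁻¹ ∈ O := by
        rwa [QuotientGroup.mk'_apply, QuotientGroup.eq_one_iff] at h2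
      have h4 : q * y * q⁻¹ * y⁻¹ ∈ Q := by
        have h5 : y * q⁻¹ * y⁻¹ ∈ Q := hQ.conj_mem _ (Q.inv_mem hq) y
        have h6 : q * (y * q⁻¹ * y⁻¹) ∈ Q := Q.mul_mem hq h5
        have : q * y * q⁻¹ * y⁻¹ = q * (y * q⁻¹ * y⁻¹) := by group
        rwa [this]
      have h7 := hQO _ h4 h3
      have h8 : q * y * q⁻¹ = y := by
        rw [mul_inv_eq_one] at h7
        exact h7
      rw [mul_inv_eq_iff_eq_mul] at h8
      exact h8
    obtain ⟨z, hz, o, ho, he⟩ := hdec y hyC
    refine ⟨z, hz, ?_⟩
    rw [he, map_mul]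
    have : QuotientGroup.mk' O o = 1 := by
      rw [QuotientGroup.mk'_apply, QuotientGroup.eq_one_iff]
      exact ho
    rw [this, mul_one]
  have hsb := sameBlock_of_centralizer_le hM Q' hQ'2 hCle (oneIrr (H ⧸ O)) ⟨χ', hχ'⟩
  have hinf := sameBlock_inflate (M := M) O hsb
  rw [show (⟨χ', hχ'⟩ : IrrCharacter (H ⧸ O)).1 = χ' from rfl, hcomp] at hinf
  exact hinf

end NormalSylow

section Main

variable {G : Type u} [Group G] [Finite G] {M : Ideal AlgInt} [hMp : M.IsPrime]

/-- Fusion in the centralizer of a Sylow subgroup is controlled by its normalizer. -/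
theorem fusion_of_sylow {p : ℕ} [hp : Fact p.Prime] (P : Sylow p G) {a b : G}
    (ha : a ∈ Subgroup.centralizer ((P : Subgroup G) : Set G))
    (hb : b ∈ Subgroup.centralizer ((P : Subgroup G) : Set G)) (hab : IsConj a b) :
    ∃ u ∈ Subgroup.normalizer ((P : Subgroup G) : Set G), u * a * u⁻¹ = b := by
  classical
  obtain ⟨g, hg⟩ := isConj_iff.1 hab
  set K := Subgroup.centralizer ({b} : Set G) with hK
  have hPK : (P : Subgroup G) ≤ K := by
    intro x hx
    rw [hK, mem_centralizer_singleton_iff]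
    exact (hb x hx).symm
  let P₂ : Sylow p G := g • P
  have hP₂ : (P₂ : Subgroup G) = (P : Subgroup G).map (MulAut.conj g).toMonoidHom := rfl
  have hP₂K : (P₂ : Subgroup G) ≤ K := by
    intro x hx
    rw [hP₂] at hx
    obtain ⟨y, hy, rfl⟩ := hx
    rw [hK, mem_centralizer_singleton_iff, ← hg]
    have h1 := ha y hy
    show g * a * g⁻¹ * (g * y * g⁻¹) = (g * y * g⁻¹) * (g * a * g⁻¹)
    have h2 : y * a = a * y := h1
    calc g * a * g⁻¹ * (g * y * g⁻¹) = g * (a * y) * g⁻¹ := by group
      _ = g * (y * a) * g⁻¹ := by rw [h2]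
      _ = (g * y * g⁻¹) * (g * a * g⁻¹) := by group
  obtain ⟨t, ht⟩ := MulAction.exists_smul_eq K (P.subtype hPK) (P₂.subtype hP₂K)
  have htcoe : ((t : G) • P) = P₂ := by
    apply Sylow.ext
    have h1 := congrArg (fun S : Sylow p K => (S : Subgroup K).map K.subtype) ht
    have h3 : ∀ S : Sylow p G, ∀ hS : (S : Subgroup G) ≤ K,
        ((S.subtype hS : Sylow p K) : Subgroup K).map K.subtype = (S : Subgroup G) := by
      intro S hS
      rw [Sylow.coe_subtype, Subgroup.map_subgroupOf_eq_of_le hS]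
    have h4 : ((t • P.subtype hPK : Sylow p K) : Subgroup K).map K.subtype =
        (((t : G) • P : Sylow p G) : Subgroup G) := by
      ext x
      constructor
      · rintro ⟨y, ⟨z, hz, rfl⟩, rfl⟩
        refine ⟨z, ?_, rfl⟩
        exact hz
      · rintro ⟨z, hz, rfl⟩
        refine ⟨⟨(t : G) * z * (t : G)⁻¹, K.mul_mem (K.mul_mem t.2 (hPK hz)) (K.inv_mem t.2)⟩, ?_, rfl⟩
        exact ⟨⟨z, hPK hz⟩, hz, rfl⟩
    rw [h3 P₂ hP₂K] at h1
    rw [← h1]
    exact h4.symm
  have htb : (t : G) * b = b * (t : G) := by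
    have h1 : (t : G) ∈ Subgroup.centralizer ({b} : Set G) := t.2
    rw [mem_centralizer_singleton_iff] at h1
    exact h1.symm
  refine ⟨(t : G)⁻¹ * g, ?_, ?_⟩
  · have h1 : ((t : G)⁻¹ * g) • P = P := by
      rw [mul_smul]
      show (t : G)⁻¹ • P₂ = P
      rw [← htcoe, inv_smul_smul]
    exact Sylow.smul_eq_iff_mem_normalizer.1 h1
  · calc (t : G)⁻¹ * g * a * ((t : G)⁻¹ * g)⁻¹ = (t : G)⁻¹ * (g * a * g⁻¹) * t := by group
      _ = (t : G)⁻¹ * (b * t) := by rw [hg, mul_assoc]
      _ = (t : G)⁻¹ * (t * b) := by rw [htb]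
      _ = b := by group

/-- The induced central character and the central character of the normalizer of a Sylow
subgroup agree at elements centralizing the Sylow subgroup. -/
theorem induced_sub_cc {p : ℕ} [hp : Fact p.Prime] (hM : IsPModular p M) (P : Sylow p G)
    (H : Subgroup G) (hH : H = Subgroup.normalizer ((P : Subgroup G) : Set G))
    (β : IrrCharacter H) (o : H)
    (ho : (o : G) ∈ Subgroup.centralizer ((P : Subgroup G) : Set G)) :
    MemLocalIdeal M (inducedCentralChar H β.1 (o : G) - cc o β) := by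
  classical
  haveI : Fintype (ConjClasses H) := Fintype.ofFinite _
  let Q : Subgroup H := (P : Subgroup G).subgroupOf H
  haveI hQn : Q.Normal := normal_subgroupOf_of_le_normalizer hH.le
  have hQ2 : IsPGroup p Q := by
    intro x
    obtain ⟨k, hk⟩ := P.isPGroup' ⟨(x : H), x.2⟩
    refine ⟨k, ?_⟩
    apply Subtype.ext
    apply Subtype.ext
    have := congrArg Subtype.val hk
    simpa using this
  let a : H → ℂ := fun m => classIndicator (o : G) (m : G) - classIndicator o m
  have ha : IsClassFunction H a := by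
    intro x y
    show classIndicator (o : G) ((y * x * y⁻¹ : H) : G) - classIndicator o (y * x * y⁻¹) = _
    have h1 := indicator_isClass (H := H) (o : G) x y
    have h2 := classIndicator_isClass o x y
    simp only at h1
    rw [h1, h2]
  have h1 : inducedCentralChar H β.1 (o : G) - cc o β = om β a := by
    have h2 : om β a = om β (fun m : H => classIndicator (o : G) (m : G)) - om β (classIndicator o) := by
      unfold om
      rw [← mul_sub, ← Finset.sum_sub_distrib]
      congr 1
      apply Finset.sum_congr rfl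
      intro x _
      show (classIndicator (o : G) (x : G) - classIndicator o x) * β.1 x = _
      ring
    rw [h2, om_classIndicator, om_indicator_eq]
  rw [h1, om_eq_sum_classes a ha β]
  refine H22.mli_sum _ _ ?_
  intro C _
  by_cases hC : C.out ∈ Subgroup.centralizer (Q : Set H)
  · have h0 : a C.out = 0 := by
      show classIndicator (o : G) (C.out : G) - classIndicator o C.out = 0
      have hCG : (C.out : G) ∈ Subgroup.centralizer ((P : Subgroup G) : Set G) := by
        intro x hx
        have h3 := hC ⟨x, hH ▸ (Subgroup.le_normalizer hx)⟩ hx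
        exact congrArg Subtype.val h3
      have hiff : IsConj (o : G) (C.out : G) ↔ IsConj o C.out := by
        constructor
        · intro h3
          obtain ⟨u, hu, hu'⟩ := fusion_of_sylow P ho hCG h3
          rw [isConj_iff]
          refine ⟨⟨u, hH ▸ hu⟩, ?_⟩
          exact Subtype.ext hu'
        · intro h3
          obtain ⟨u, hu⟩ := isConj_iff.1 h3
          rw [isConj_iff]
          refine ⟨u, ?_⟩
          exact congrArg Subtype.val hu
      unfold classIndicator
      by_cases h3 : IsConj o C.out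
      · rw [if_pos (hiff.2 h3).symm, if_pos h3.symm]
        ring
      · rw [if_neg (fun h => h3 (hiff.1 h.symm)), if_neg (fun h => h3 h.symm)]
        ring
    rw [h0, zero_mul]
    exact (H22.locI M).zero_mem
  · refine H22.mli_mul_left (cc_mli_of_not_centralizer hM Q hQ2 hC β) ?_
    exact H22.mlr_sub (classIndicator_mlr _ _) (classIndicator_mlr _ _)

theorem principal_aux (hM : IsPModular 2 M) (χ : IrrCharacter G) (P : Sylow 2 G) (H : Subgroup G)
    (hH : H = Subgroup.normalizer ((P : Subgroup G) : Set G)) (b : Set (IrrCharacter H))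
    (hb : IsPBlock M b) (hind : IsInducedBlock M H b (blockOf M χ.1))
    (hreal : ∀ o ∈ Subgroup.centralizer ((P : Subgroup G) : Set G), Odd (orderOf o) →
      χ.1 o⁻¹ = χ.1 o) : χ ∈ principalBlock M G := by
  classical
  haveI hp2 : Fact (Nat.Prime 2) := ⟨Nat.prime_two⟩
  obtain ⟨β, hβ⟩ := H22.block_nonempty hb
  have hχB : χ ∈ blockOf M χ.1 := H22.self_mem_blockOf χ
  let Q : Subgroup H := (P : Subgroup G).subgroupOf H
  haveI hQn : Q.Normal := normal_subgroupOf_of_le_normalizer hH.le
  have hQ2 : IsPGroup 2 Q := by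
    intro x
    obtain ⟨k, hk⟩ := P.isPGroup' ⟨(x : H), x.2⟩
    refine ⟨k, ?_⟩
    apply Subtype.ext
    apply Subtype.ext
    have := congrArg Subtype.val hk
    simpa using this
  have hPidx : ¬ 2 ∣ (P : Subgroup G).index := by
    haveI := Fact.mk Nat.prime_two
    exact P.not_dvd_index
  have hPH : (P : Subgroup G) ≤ H := by
    rw [hH]
    exact Subgroup.le_normalizer
  have hQidx : ¬ 2 ∣ Q.index := by
    intro h
    apply hPidx
    have h1 : Q.index = (P : Subgroup G).relIndex H := rfl
    rw [h1] at h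
    exact h.trans (Dvd.intro _ (Subgroup.relIndex_mul_index hPH))
  have hβp : β ∈ principalBlock M H := by
    refine principal_of_normal_sylow hM Q hQ2 hQidx β ?_
    intro o ho hodd
    have hoG : (o : G) ∈ Subgroup.centralizer ((P : Subgroup G) : Set G) := by
      intro x hx
      have h3 := ho ⟨x, hPH hx⟩ hx
      exact congrArg Subtype.val h3
    have hoinvG : ((o⁻¹ : H) : G) ∈ Subgroup.centralizer ((P : Subgroup G) : Set G) := by
      rw [Subgroup.coe_inv]
      exact Subgroup.inv_mem _ hoG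
    have h1 := induced_sub_cc (M := M) hM P H hH β o hoG
    have h2 := induced_sub_cc (M := M) hM P H hH β o⁻¹ hoinvG
    have h3 := hind.2.2 β hβ χ hχB (o : G)
    have h4 := hind.2.2 β hβ χ hχB ((o⁻¹ : H) : G)
    have hoddG : Odd (orderOf (o : G)) := by
      rwa [Subgroup.orderOf_coe]
    have h5 : centralChar χ.1 ((o⁻¹ : H) : G) = centralChar χ.1 (o : G) := by
      unfold centralChar
      rw [Subgroup.coe_inv, centralizer_inv_singleton, hreal _ hoG hoddG]
    rw [h5] at h4
    have h6 : cc o⁻¹ β - cc o β =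
        -(inducedCentralChar H β.1 ((o⁻¹ : H) : G) - cc o⁻¹ β)
        + (inducedCentralChar H β.1 ((o⁻¹ : H) : G) - centralChar χ.1 (o : G))
        - (inducedCentralChar H β.1 (o : G) - centralChar χ.1 (o : G))
        + (inducedCentralChar H β.1 (o : G) - cc o β) := by ring
    rw [h6]
    exact H22.mli_add (H22.mli_sub (H22.mli_add (H22.mli_neg h2) h4) h3) h1
  have hbp : b = principalBlock M H := by
    rw [H22.block_eq_of_mem hb hβ]
    exact (H22.blockOf_eq_of_mem (χ := H22.oneIrr H) hβp)
  have hind0 := (third_main_general (H := H) hM b ⟨_, hind⟩).2 hbp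
  intro g
  have h1 := hind0.2.2 β hβ (H22.oneIrr G) (H22.oneIrr_mem_principal) g
  have h2 := hind.2.2 β hβ χ hχB g
  have h3 : centralChar (fun _ : G => (1 : ℂ)) g - centralChar χ.1 g =
      (inducedCentralChar H β.1 g - centralChar χ.1 g) -
        (inducedCentralChar H β.1 g - centralChar (H22.oneIrr G).1 g) := by
    show centralChar (H22.oneIrr G).1 g - _ = _
    ring
  rw [h3]
  exact H22.mli_sub h2 h1

/-- A character in a 2-block with a Sylow defect group whose values at odd elements centralizing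
the defect group and their inverses agree lies in the principal block. -/
theorem principal_of_real_on_odd (hM : IsPModular 2 M) (χ : IrrCharacter G) (P : Sylow 2 G)
    (hD : IsDefectGroup 2 M (blockOf M χ.1) (P : Subgroup G))
    (hreal : ∀ o ∈ Subgroup.centralizer ((P : Subgroup G) : Set G), Odd (orderOf o) →
      χ.1 o⁻¹ = χ.1 o) : χ ∈ principalBlock M G := by
  haveI hp2 : Fact (Nat.Prime 2) := ⟨Nat.prime_two⟩
  obtain ⟨b, ⟨hb, -, hind⟩, -⟩ := first_main_two hM (H22.isBlock_blockOf χ) hD
  exact principal_aux hM χ P _ rfl b hb hind hreal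

end Main

end Cfsg.Agent.H21
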