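import Cfsg.Agent.Lib.H21.CentralProd
import Cfsg.Agent.Lib.H23.Ito2

/-!
# Reynolds: blocks with a normal defect group
-/

set_option autoImplicit false
set_option linter.unusedSectionVars false
set_option linter.style.haveILetI false
set_option linter.unusedSimpArgs false

namespace Cfsg.Agent.H21

open scoped ComplexConjugate
open Cfsg Module Cfsg.Agent.H22

universe u

variable {G : Type u} [Group G] [Finite G]
variable {p : ℕ} [hp : Fact p.Prime] {M : Ideal AlgInt} [hMp : M.IsPrime]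
variable {P : Subgroup G}

/-- If `G = P C_G(P)` and `ξ` lies above `lam`, then `deg lam` divides `ξ` on `C_G(P)`. -/
theorem value_dvd_of_cov (hG : P ⊔ Subgroup.centralizer (P : Set G) = ⊤) (ξ : IrrCharacter G)
    {lam : IrrCharacter P} (hlam : ∑ n : P, conj (lam.1 n) * ξ.1 n ≠ 0) {c : G}
    (hc : c ∈ Subgroup.centralizer (P : Set G)) :
    ∃ w : ℂ, IsIntegral ℤ w ∧ ξ.1 c = (charDegree lam.1 : ℂ) * w := by
  classical
  haveI hPn := normal_of_sup hG
  haveI hCn := centralizer_normal_of_sup hG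
  have hcovP : ∀ g : G, ∃ n ∈ P, ∃ c ∈ Subgroup.centralizer (P : Set G), g = n * c := exists_decomp hG
  have hcovC : ∀ g : G, ∃ n ∈ Subgroup.centralizer (P : Set G),
      ∃ c ∈ Subgroup.centralizer ((Subgroup.centralizer (P : Set G) : Subgroup G) : Set G), g = n * c := by
    intro g
    obtain ⟨u, hu, c, hc, rfl⟩ := exists_decomp hG g
    refine ⟨c, hc, u, ?_, (Subgroup.mem_centralizer_iff.mp hc u hu)⟩
    rw [Subgroup.mem_centralizer_iff]
    intro c' hc'
    exact (Subgroup.mem_centralizer_iff.mp hc' u hu).symm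
  obtain ⟨m₁, hm₁, h1⟩ := restrict_eq hcovP ξ hlam
  obtain ⟨μ, hμ⟩ := exists_constituent (Subgroup.centralizer (P : Set G)) ξ
  obtain ⟨m₂, hm₂, h2⟩ := restrict_eq hcovC ξ hμ
  have hprod := degree_product hG ξ h1 h2
  have hdeg1 : charDegree ξ.1 = m₁ * charDegree lam.1 := by
    have h3 := h1 1
    rw [OneMemClass.coe_one, irr_one_eq ξ, irr_one_eq lam] at h3
    exact_mod_cast h3
  have hm₂' : m₂ = charDegree lam.1 := by
    rw [← hprod] at hdeg1
    exact Nat.eq_of_mul_eq_mul_left (Nat.pos_of_ne_zero hm₁) hdeg1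
  refine ⟨μ.1 ⟨c, hc⟩, irr_isIntegral' μ _, ?_⟩
  rw [← hm₂']
  exact h2 ⟨c, hc⟩

/-- Transitivity of constituents. -/
theorem const_of_expansion {L : Type*} [Group L] [Finite L] {X : L → ℂ} (hX : IsCharacter L X)
    (K : Subgroup L) {ξ : IrrCharacter L} (hξ : classInner X ξ.1 ≠ 0) (θ : IrrCharacter K)
    (hθ : ∑ n : K, conj (θ.1 n) * ξ.1 n ≠ 0) : ∑ n : K, conj (θ.1 n) * X n ≠ 0 := by
  classical
  have hexp := classFunction_expansion X (isClassFunction_of_isCharacter hX)
  choose m hm using fun ξ' : IrrCharacter L => classInner_isNat hX ξ'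
  choose n hn using fun ξ' : IrrCharacter L =>
    classInner_isNat (isCharacter_restrict K (isCharacter_of_irr ξ'.2)) θ
  have hK : ∀ ξ' : IrrCharacter L, ∑ x : K, conj (θ.1 x) * ξ'.1 x = (Nat.card K : ℂ) * (n ξ' : ℂ) := by
    intro ξ'
    rw [← hn ξ']
    unfold classInner
    rw [← mul_assoc, mul_inv_cancel₀ (by exact_mod_cast Nat.card_pos.ne'), one_mul]
    exact Finset.sum_congr rfl fun _ _ => mul_comm _ _
  have hsum : ∑ x : K, conj (θ.1 x) * X x =
      (Nat.card K : ℂ) * ((∑ ξ' : IrrCharacter L, m ξ' * n ξ' : ℕ) : ℂ) := by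
    have h1 : ∀ x : K, X x = ∑ ξ' : IrrCharacter L, (m ξ' : ℂ) * ξ'.1 x := by
      intro x
      have := congrFun hexp x
      simp only [Finset.sum_apply, Pi.smul_apply, smul_eq_mul, hm] at this
      exact this
    calc ∑ x : K, conj (θ.1 x) * X x
        = ∑ x : K, ∑ ξ' : IrrCharacter L, (m ξ' : ℂ) * (conj (θ.1 x) * ξ'.1 x) := by
          refine Finset.sum_congr rfl fun x _ => ?_
          rw [h1 x, Finset.mul_sum]
          exact Finset.sum_congr rfl fun _ _ => by ring
      _ = ∑ ξ' : IrrCharacter L, (m ξ' : ℂ) * ∑ x : K, conj (θ.1 x) * ξ'.1 x := by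
          rw [Finset.sum_comm]
          exact Finset.sum_congr rfl fun _ _ => by rw [Finset.mul_sum]
      _ = _ := by
          push_cast
          rw [Finset.mul_sum]
          refine Finset.sum_congr rfl fun ξ' _ => ?_
          rw [hK ξ']
          ring
  rw [hsum]
  have hmξ : m ξ ≠ 0 := by
    intro h0
    apply hξ
    rw [hm, h0]
    simp
  have hnξ : n ξ ≠ 0 := by
    intro h0
    apply hθ
    rw [hK, h0]
    simp
  have hpos : 0 < ∑ ξ' : IrrCharacter L, m ξ' * n ξ' :=
    Finset.sum_pos' (fun _ _ => Nat.zero_le _) ⟨ξ, Finset.mem_univ _, Nat.pos_of_ne_zero (Nat.mul_ne_zero hmξ hnξ)⟩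
  refine mul_ne_zero (by exact_mod_cast Nat.card_pos.ne') ?_
  exact_mod_cast hpos.ne'

theorem charDegree_conjIrr [hPn : P.Normal] (t : G) (θ : IrrCharacter P) :
    charDegree (conjIrr P t θ).1 = charDegree θ.1 := by
  have h1 : ((charDegree (conjIrr P t θ).1 : ℕ) : ℂ) = charDegree θ.1 := by
    rw [← irr_one_eq, ← irr_one_eq, conjIrr_apply]
    refine congrArg θ.1 (Subtype.ext ?_)
    simp
  exact_mod_cast h1

/-- For `P` normal in `G` and `lam` below `χ`, `deg lam` divides `χ` on `C_G(P)`. -/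
theorem value_dvd_of_normal [hPn : P.Normal] (χ : IrrCharacter G) {lam : IrrCharacter P}
    (hlam : ∑ n : P, conj (lam.1 n) * χ.1 n ≠ 0) {c : G}
    (hc : c ∈ Subgroup.centralizer (P : Set G)) :
    ∃ w : ℂ, IsIntegral ℤ w ∧ χ.1 c = (charDegree lam.1 : ℂ) * w := by
  classical
  let L : Subgroup G := P ⊔ Subgroup.centralizer (P : Set G)
  have hPL : P ≤ L := le_sup_left
  have hCL : Subgroup.centralizer (P : Set G) ≤ L := le_sup_right
  let P' : Subgroup L := P.subgroupOf L
  have hG' : P' ⊔ Subgroup.centralizer (P' : Set L) = ⊤ := by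
    rw [eq_top_iff]
    rintro ⟨l, hl⟩ -
    have hl' : l ∈ ((P ⊔ Subgroup.centralizer (P : Set G) : Subgroup G) : Set G) := hl
    rw [Subgroup.normal_mul] at hl'
    obtain ⟨x, hx, y, hy, rfl⟩ := hl'
    have hxL : x ∈ L := hPL hx
    have hyL : y ∈ L := hCL hy
    have : (⟨x * y, hl⟩ : L) = ⟨x, hxL⟩ * ⟨y, hyL⟩ := rfl
    rw [this]
    refine Subgroup.mul_mem_sup ?_ ?_
    · exact hx
    · rw [Subgroup.mem_centralizer_iff]
      intro h hh
      apply Subtype.ext
      exact Subgroup.mem_centralizer_iff.mp hy h.1 hh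
  have hcL : c ∈ L := hCL hc
  have hcL' : (⟨c, hcL⟩ : L) ∈ Subgroup.centralizer (P' : Set L) := by
    rw [Subgroup.mem_centralizer_iff]
    intro h hh
    apply Subtype.ext
    exact Subgroup.mem_centralizer_iff.mp hc h.1 hh
  have hX : IsCharacter L (fun x : L => χ.1 x) := isCharacter_restrict L (isCharacter_of_irr χ.2)
  have hexp := classFunction_expansion (fun x : L => χ.1 x) (isClassFunction_of_isCharacter hX)
  have hterm : ∀ ξ : IrrCharacter L, ∃ w : ℂ, IsIntegral ℤ w ∧
      classInner (fun x : L => χ.1 x) ξ.1 * ξ.1 ⟨c, hcL⟩ = (charDegree lam.1 : ℂ) * w := by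
    intro ξ
    obtain ⟨m, hm⟩ := classInner_isNat hX ξ
    by_cases hm0 : classInner (fun x : L => χ.1 x) ξ.1 = 0
    · exact ⟨0, isIntegral_zero, by rw [hm0]; simp⟩
    obtain ⟨lam', hlam'⟩ := exists_constituent P' ξ
    obtain ⟨w, hw, hξ⟩ := value_dvd_of_cov hG' ξ hlam' hcL'
    -- transfer `lam'` to `P`
    let e : P' ≃* P := Subgroup.subgroupOfEquivOfLe hPL
    have hlam2 := const_of_expansion hX P' hm0 lam' hlam'
    let lam₃ : IrrCharacter P := irrMap e lam'
    have hlam3 : ∑ n : P, conj (lam₃.1 n) * χ.1 n ≠ 0 := by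
      intro h0
      apply hlam2
      rw [← Equiv.sum_comp e.toEquiv] at h0
      rw [← h0]
      refine Finset.sum_congr rfl fun n _ => ?_
      have h3 : lam₃.1 (e n) = lam'.1 n := irrMap_apply' e lam' n
      show conj (lam'.1 n) * χ.1 ((n : L) : G) = conj (lam₃.1 (e n)) * χ.1 ((e n : P) : G)
      rw [h3]
      rfl
    have hdeg3 : charDegree lam₃.1 = charDegree lam'.1 := by
      have h1 : ((charDegree lam₃.1 : ℕ) : ℂ) = charDegree lam'.1 := by
        rw [← irr_one_eq, ← irr_one_eq]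
        have := irrMap_apply' e lam' 1
        rw [map_one] at this
        exact this
      exact_mod_cast h1
    obtain ⟨t, ht⟩ := exists_conj_of_eq (G := G) (N := P) (θ₀ := lam) (θ₂ := lam₃) (fun n => by
      rw [← cc_eq_indCC χ lam₃ hlam3 n, ← cc_eq_indCC χ lam hlam n])
    have hdeg4 : charDegree lam.1 = charDegree lam'.1 := by
      rw [← hdeg3, ← ht, charDegree_conjIrr]
    refine ⟨(m : ℂ) * w, ?_, ?_⟩
    · exact (isIntegral_natCast (a := m)).mul hw
    · rw [hξ, hm, hdeg4]
      ring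
  choose w hw hwe using hterm
  refine ⟨∑ ξ, w ξ, IsIntegral.sum _ fun ξ _ => hw ξ, ?_⟩
  have h1 := congrFun hexp ⟨c, hcL⟩
  simp only [Finset.sum_apply, Pi.smul_apply, smul_eq_mul] at h1
  rw [h1, Finset.mul_sum]
  exact Finset.sum_congr rfl fun ξ _ => hwe ξ

/-- `p^a deg(lam)` divides the degree of every member of a block above `lam`, if `y₀` in a defect
class centralizes the normal `p`-subgroup `P`. -/
theorem pow_mul_degree_dvd_of_normal (hM : IsPModular p M) [hPn : P.Normal] (hP : IsPGroup p P)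
    {B : Set (IrrCharacter G)} (hB : IsPBlock M B) {y₀ : G} (hy₀ : IsDefectClass M B y₀)
    (hyC : y₀ ∈ Subgroup.centralizer (P : Set G)) {ξ : IrrCharacter G} (hξ : ξ ∈ B)
    {lam : IrrCharacter P} (hlam : ∑ n : P, conj (lam.1 n) * ξ.1 n ≠ 0) :
    p ^ minExp p B * charDegree lam.1 ∣ charDegree ξ.1 := by
  classical
  have hpp := hp.out
  obtain ⟨d, hd⟩ := IsPGroup.iff_card.mp hP
  have hlamdvd : charDegree lam.1 ∣ p ^ d := by
    rw [← hd]
    exact H22.charDegree_dvd_card lam
  obtain ⟨e, -, he⟩ := (Nat.dvd_prime_pow hpp).mp hlamdvd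
  obtain ⟨w, hw, hval⟩ := value_dvd_of_normal ξ hlam hyC
  have hyind := index_factorization_of_defect hM hB hy₀
  rw [he] at hval ⊢
  set a := minExp p B with ha
  rw [← pow_add]
  by_contra hnd
  have hd0 : charDegree ξ.1 ≠ 0 := (irr_charDegree_pos ξ.2).ne'
  set b := (charDegree ξ.1).factorization p with hb
  have hba : b < a + e := by
    by_contra hle
    apply hnd
    exact (pow_dvd_pow p (not_lt.mp hle)).trans (Nat.ordProj_dvd _ p)
  set t := charDegree ξ.1 / p ^ b with ht
  have hmt : p ^ b * t = charDegree ξ.1 := Nat.ordProj_mul_ordCompl_eq_self _ p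
  have htp : ¬ p ∣ t := Nat.not_dvd_ordCompl hpp hd0
  set I := (Subgroup.centralizer ({y₀} : Set G)).index with hI
  set s := I / p ^ a with hs
  have hIs : p ^ a * s = I := by
    rw [hs, ← hyind]
    exact Nat.ordProj_mul_ordCompl_eq_self I p
  have hcc : (charDegree ξ.1 : ℂ) * cc y₀ ξ = (I : ℂ) * ((p ^ e : ℕ) : ℂ) * w := by
    have h1 : ξ.1 1 ≠ 0 := irr_one_ne_zero' ξ
    unfold cc centralChar
    rw [hval, irr_one_eq ξ]
    have h2 : (charDegree ξ.1 : ℂ) ≠ 0 := by exact_mod_cast hd0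
    field_simp
    simp only [hI]
    ring
  have hcc2 : (t : ℂ) * cc y₀ ξ = ((p ^ (a + e - b) * s : ℕ) : ℂ) * w := by
    have hpb : ((p ^ b : ℕ) : ℂ) ≠ 0 := by exact_mod_cast (pow_pos hpp.pos b).ne'
    apply mul_left_cancel₀ hpb
    have h5 : p ^ b * (p ^ (a + e - b) * s) = I * p ^ e := by
      rw [← mul_assoc, ← pow_add, Nat.add_sub_cancel' hba.le, ← hIs, pow_add]
      ring
    calc ((p ^ b : ℕ) : ℂ) * ((t : ℂ) * cc y₀ ξ) = ((p ^ b * t : ℕ) : ℂ) * cc y₀ ξ := by
          push_cast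
          ring
      _ = (I : ℂ) * ((p ^ e : ℕ) : ℂ) * w := by rw [hmt, hcc]
      _ = ((p ^ b * (p ^ (a + e - b) * s) : ℕ) : ℂ) * w := by
          rw [h5]
          push_cast
          ring
      _ = _ := by
          push_cast
          ring
  have hmli : MemLocalIdeal M ((t : ℂ) * cc y₀ ξ) := by
    rw [hcc2]
    refine mli_mul_right ?_ (mlr_of_isIntegral hw)
    rw [mli_natCast_iff hM]
    exact Dvd.dvd.mul_right (dvd_pow_self p (by omega)) s
  rcases (mli_mul_iff (mlr_natCast t) (cc_mlr y₀ ξ)).mp hmli with h6 | h6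
  · exact not_mli_natCast_of_odd hM htp h6
  · exact hy₀.2.2 ξ hξ h6

theorem comm_of_degrees_one {K : Type*} [Group K] [Finite K]
    (h : ∀ lam : IrrCharacter K, charDegree lam.1 = 1) (a c : K) : a * c = c * a := by
  classical
  have h1 := sum_degree_sq (G := K)
  have h2 : ∑ lam : IrrCharacter K, charDegree lam.1 ^ 2 = Nat.card (IrrCharacter K) := by
    simp [h, Nat.card_eq_fintype_card]
  have h3 := card_irr_eq_card_conjClasses (G := K)
  have h4 : Nat.card (ConjClasses K) = Nat.card K := by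
    rw [← h3, ← h2]
    convert h1
  have h5 : commProb K = 1 := by
    rw [commProb_def', h4]
    exact div_self (by exact_mod_cast Nat.card_pos.ne')
  haveI := commProb_eq_one_iff.mp h5
  exact mul_comm' a c

theorem reynolds_main (hM : IsPModular p M) {B : Set (IrrCharacter G)} (hB : IsPBlock M B)
    [hPn : P.Normal] (hD : IsDefectGroup p M B P) :
    (∀ a ∈ P, ∀ c ∈ P, a * c = c * a) ↔ ∀ χ ∈ B, blockHeight p B χ.1 = 0 := by
  classical
  have hpp := hp.out
  have hP : IsPGroup p P := defect_isPGroup hD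
  constructor
  · intro hcomm χ hχ
    have h1 := Cfsg.Agent.H23.ito_dvd χ.2 P hcomm
    have h2 := (Nat.factorization_le_iff_dvd (irr_charDegree_pos χ.2).ne'
      Subgroup.index_ne_zero_of_finite).2 h1 p
    rw [← minExp_eq_index hM hB hD] at h2
    show (charDegree χ.1).factorization p - minExp p B = 0
    omega
  · intro hh
    obtain ⟨y₀, hy₀⟩ := exists_defectClass hB
    obtain ⟨χ₀, hχ₀⟩ := block_nonempty hB
    obtain ⟨x, hx, hxC, -⟩ := exists_conj_pPart_center hM hB hD hχ₀ (hy₀.2.2 χ₀ hχ₀)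
    have hCn : (Subgroup.centralizer (P : Set G)).Normal := Cfsg.Agent.H01.centralizer_normal inferInstance
    have hyC : y₀ ∈ Subgroup.centralizer (P : Set G) := by
      obtain ⟨u, hu⟩ := isConj_iff.mp hx.symm
      rw [← hu]
      exact hCn.conj_mem _ hxC u
    obtain ⟨d, hd⟩ := IsPGroup.iff_card.mp hP
    have hdeg : ∀ lam : IrrCharacter P, charDegree lam.1 = 1 := by
      intro lam
      obtain ⟨χ, hχ, hne⟩ := exists_const_in_block hM hP hB lam
      have h1 := pow_mul_degree_dvd_of_normal hM hP hB hy₀ hyC hχ hne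
      have hlamdvd : charDegree lam.1 ∣ p ^ d := by
        rw [← hd]
        exact H22.charDegree_dvd_card lam
      obtain ⟨e, -, he⟩ := (Nat.dvd_prime_pow hpp).mp hlamdvd
      rw [he] at h1 ⊢
      rw [← pow_add] at h1
      have h2 := (Nat.Prime.pow_dvd_iff_le_factorization hpp (irr_charDegree_pos χ.2).ne').1 h1
      rw [height_zero_iff hχ (hh χ hχ)] at h2
      have : e = 0 := by omega
      rw [this, pow_zero]
    intro a ha c hc
    have := comm_of_degrees_one hdeg (⟨a, ha⟩ : P) ⟨c, hc⟩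
    exact congrArg Subtype.val this

end Cfsg.Agent.H21
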