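import Cfsg.Agent.Lib.H21.SymSylow

/-!
# Abstract wreath products inside a group: the abelianization of `Q ≀ S` has exponent two
-/

set_option autoImplicit false
set_option linter.unusedSectionVars false
set_option linter.style.haveILetI false
set_option linter.unusedSimpArgs false

namespace Cfsg.Agent.H21.SpS

open Equiv

section Abstract

variable {G A ι : Type*} [Group G] [Group A] [Fintype ι] [DecidableEq ι]
  (M : (ι → A) →* G) (T : Perm ι →* G)

/-- The wreath product in `G`. -/
def wrS (hTM : ∀ (π : Perm ι) (c : ι → A), T π * M c * (T π)⁻¹ = M (c ∘ ⇑π⁻¹))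
    (Q : Subgroup A) (S : Subgroup (Perm ι)) : Subgroup G where
  carrier := {g | ∃ c : ι → A, (∀ i, c i ∈ Q) ∧ ∃ π ∈ S, g = M c * T π}
  mul_mem' := by
    rintro _ _ ⟨c, hc, π, hπ, rfl⟩ ⟨d, hd, σ, hσ, rfl⟩
    refine ⟨c * (d ∘ ⇑π⁻¹), fun i => mul_mem (hc i) (hd _), π * σ, mul_mem hπ hσ, ?_⟩
    rw [map_mul, map_mul, ← hTM]
    group
  one_mem' := ⟨1, fun _ => one_mem _, 1, one_mem _, by simp⟩
  inv_mem' := by
    rintro _ ⟨c, hc, π, hπ, rfl⟩
    refine ⟨c⁻¹ ∘ ⇑π, fun i => inv_mem (hc _), π⁻¹, inv_mem hπ, ?_⟩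
    have h1 := hTM π⁻¹ c⁻¹
    rw [inv_inv] at h1
    rw [← h1, map_inv, map_inv]
    group

variable (hTM : ∀ (π : Perm ι) (c : ι → A), T π * M c * (T π)⁻¹ = M (c ∘ ⇑π⁻¹))

include hTM in
/-- The exponent property for the wreath product. -/
theorem wrS_good (Q : Subgroup A) (S : Subgroup (Perm ι)) (hQ : SymS.Good 2 Q) (hS : SymS.Good 2 S) :
    SymS.Good 2 (wrS M T hTM Q S) := by
  classical
  rintro _ ⟨c, hc, π, hπ, rfl⟩
  have hM : ∀ d : ι → A, (∀ i, d i ∈ Q) → M d ∈ wrS M T hTM Q S := fun d hd =>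
    ⟨d, hd, 1, one_mem _, by simp⟩
  have hTT : ∀ σ ∈ S, T σ ∈ wrS M T hTM Q S := fun σ hσ =>
    ⟨1, fun _ => one_mem _, σ, hσ, by simp⟩
  -- the square
  have h1 : (M c * T π) ^ 2 = M c * M c * (((M c)⁻¹ * (T π * M c * (T π)⁻¹)) * T (π ^ 2)) := by
    rw [pow_two, pow_two, map_mul]
    group
  rw [h1]
  refine mul_mem ?_ (mul_mem ?_ ?_)
  · -- the base part modulo commutators
    have hsingle : ∀ (i : ι) (a : A), a ∈ (⁅Q, Q⁆ : Subgroup A) →
        M (Pi.mulSingle i a) ∈ (⁅wrS M T hTM Q S, wrS M T hTM Q S⁆ : Subgroup G) := by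
      intro i a ha
      let φ : A →* G := M.comp (MonoidHom.mulSingle (fun _ : ι => A) i)
      have h3 : φ a ∈ (⁅Q, Q⁆ : Subgroup A).map φ := ⟨_, ha, rfl⟩
      rw [Subgroup.map_commutator] at h3
      have hle : Q.map φ ≤ wrS M T hTM Q S := by
        rintro _ ⟨a, ha, rfl⟩
        refine hM _ fun j => ?_
        by_cases hj : j = i
        · subst hj
          simpa [φ] using ha
        · simp [φ, Pi.mulSingle_eq_of_ne hj, one_mem]
      exact Subgroup.commutator_mono hle hle h3
    have hpart : ∀ s : Finset ι, M (fun i => if i ∈ s then c i ^ 2 else 1) ∈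
        (⁅wrS M T hTM Q S, wrS M T hTM Q S⁆ : Subgroup G) := by
      intro s
      induction s using Finset.induction_on with
      | empty =>
        have h2 : (fun i => if i ∈ (∅ : Finset ι) then c i ^ 2 else 1) = (1 : ι → A) := by
          funext i
          simp
        rw [h2, map_one]
        exact one_mem _
      | insert a s ha ih =>
        have h2 : (fun i => if i ∈ insert a s then c i ^ 2 else 1) =
            (fun i => if i ∈ s then c i ^ 2 else 1) * Pi.mulSingle a (c a ^ 2) := by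
          funext i
          by_cases hi : i = a
          · subst hi
            simp [ha]
          · simp [Finset.mem_insert, hi, Pi.mulSingle_eq_of_ne hi]
        rw [h2, map_mul]
        exact mul_mem ih (hsingle a _ (hQ _ (hc a)))
    have h2 : M c * M c = M (fun i => if i ∈ (Finset.univ : Finset ι) then c i ^ 2 else 1) := by
      rw [← map_mul]
      congr 1
      funext i
      simp [pow_two]
    rw [h2]
    exact hpart _
  · have h4 := Subgroup.commutator_mem_commutator (inv_mem (hM c hc)) (hTT π hπ)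
    rw [commutatorElement_def, inv_inv] at h4
    have h5 : (M c)⁻¹ * (T π * M c * (T π)⁻¹) = (M c)⁻¹ * T π * M c * (T π)⁻¹ := by
      group
    rw [h5]
    exact h4
  · have h3 : T (π ^ 2) ∈ (⁅S, S⁆ : Subgroup (Perm ι)).map T := ⟨_, hS _ hπ, rfl⟩
    rw [Subgroup.map_commutator] at h3
    have hle : S.map T ≤ wrS M T hTM Q S := by
      rintro _ ⟨a, ha, rfl⟩
      exact hTT a ha
    exact Subgroup.commutator_mono hle hle h3

include hTM in
/-- The order of the wreath product. -/
theorem card_wrS (hsep : ∀ (c : ι → A) (π : Perm ι), M c * T π = 1 → c = 1 ∧ π = 1)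
    (Q : Subgroup A) (S : Subgroup (Perm ι)) :
    Nat.card (wrS M T hTM Q S) = Nat.card Q ^ Fintype.card ι * Nat.card S := by
  classical
  let F : (ι → Q) × S → wrS M T hTM Q S := fun x =>
    ⟨M (fun i => (x.1 i : A)) * T x.2, fun i => (x.1 i : A), fun i => (x.1 i).2, x.2, x.2.2, rfl⟩
  have hF : Function.Bijective F := by
    constructor
    · rintro ⟨c, π⟩ ⟨d, σ⟩ h
      have h1 : M (fun i => (c i : A)) * T π = M (fun i => (d i : A)) * T σ :=
        congrArg Subtype.val h
      have h2 : M ((fun i => (d i : A))⁻¹ * fun i => (c i : A)) * T (π.1 * σ.1⁻¹) = 1 := by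
        rw [map_mul, map_mul, map_inv, map_inv]
        calc _ = (M fun i => (d i : A))⁻¹ * (M (fun i => (c i : A)) * T π) * (T σ)⁻¹ := by group
          _ = _ := by rw [h1]; group
      obtain ⟨h3, h4⟩ := hsep _ _ h2
      have h5 : c = d := by
        funext i
        apply Subtype.ext
        have := congrFun h3 i
        simp only [Pi.mul_apply, Pi.inv_apply, Pi.one_apply] at this
        exact (inv_mul_eq_one.1 this).symm
      have h6 : π = σ := Subtype.ext (mul_inv_eq_one.1 h4)
      rw [h5, h6]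
    · rintro ⟨_, c, hc, π, hπ, rfl⟩
      exact ⟨(fun i => ⟨c i, hc i⟩, ⟨π, hπ⟩), rfl⟩
  rw [← Nat.card_congr (Equiv.ofBijective F hF), Nat.card_prod, Nat.card_fun,
    Nat.card_eq_fintype_card (α := ι)]

end Abstract

end Cfsg.Agent.H21.SpS
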