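import Cfsg.Agent.Lib.H21.SpSylowA
import Cfsg.Agent.Lib.Lead.SL2Quat
import Cfsg.Agent.Lib.Lead.SpOrder
import Cfsg.Agent.Lib.Lead.CardSL

/-!
# Sylow 2-subgroups of symplectic groups in odd characteristic
-/

set_option autoImplicit false
set_option linter.unusedSectionVars false
set_option linter.style.haveILetI false
set_option linter.unusedSimpArgs false

namespace Cfsg.Agent.H21.SpS

open Equiv Matrix
open scoped MatrixGroups

section Mat

variable {F : Type*} [Field F] {n : ℕ}

/-- The block matrix of a family of elements of `SL₂`. -/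
def blk (c : Fin n → SL(2, F)) : Matrix (Fin n ⊕ Fin n) (Fin n ⊕ Fin n) F :=
  fromBlocks (diagonal fun i => (c i).1 0 0) (diagonal fun i => (c i).1 0 1)
    (diagonal fun i => (c i).1 1 0) (diagonal fun i => (c i).1 1 1)

theorem blk_mul (c d : Fin n → SL(2, F)) : blk (c * d) = blk c * blk d := by
  simp only [blk, fromBlocks_multiply, diagonal_mul_diagonal, diagonal_add]
  congr 1 <;> (congr 1; funext i; simp [Matrix.mul_apply, Fin.sum_univ_two])

theorem blk_one : blk (1 : Fin n → SL(2, F)) = 1 := by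
  simp only [blk]
  rw [← fromBlocks_one]
  congr 1 <;> ext i j <;> by_cases h : i = j <;> simp [h, diagonal_apply]

theorem blk_mem (c : Fin n → SL(2, F)) : blk c ∈ symplecticGroup (Fin n) F := by
  rw [SymplecticGroup.mem_iff]
  simp only [J, blk, fromBlocks_transpose, fromBlocks_multiply, diagonal_transpose, Matrix.mul_zero,
    Matrix.zero_mul, Matrix.mul_neg, Matrix.neg_mul, Matrix.mul_one, Matrix.one_mul, zero_add,
    add_zero, diagonal_mul_diagonal]
  have hdet : ∀ i, (c i).1 0 0 * (c i).1 1 1 - (c i).1 0 1 * (c i).1 1 0 = 1 := by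
    intro i
    have := (c i).2
    rwa [Matrix.det_fin_two] at this
  congr 1
  · ext i j
    by_cases h : i = j
    · subst h
      simp [diagonal_apply, Matrix.add_apply, Matrix.neg_apply]
      ring
    · simp [diagonal_apply, h, Matrix.add_apply, Matrix.neg_apply]
  · ext i j
    by_cases h : i = j
    · subst h
      simp [diagonal_apply, Matrix.add_apply, Matrix.neg_apply, Matrix.one_apply]
      linear_combination (-1) * hdet i
    · simp [diagonal_apply, h, Matrix.add_apply, Matrix.neg_apply, Matrix.one_apply]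
  · ext i j
    by_cases h : i = j
    · subst h
      simp [diagonal_apply, Matrix.add_apply, Matrix.neg_apply, Matrix.one_apply]
      linear_combination hdet i
    · simp [diagonal_apply, h, Matrix.add_apply, Matrix.neg_apply, Matrix.one_apply]
  · ext i j
    by_cases h : i = j
    · subst h
      simp [diagonal_apply, Matrix.add_apply, Matrix.neg_apply]
      ring
    · simp [diagonal_apply, h, Matrix.add_apply, Matrix.neg_apply]

/-- The embedding of the base group. -/
def Mh : (Fin n → SL(2, F)) →* symplecticGroup (Fin n) F where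
  toFun c := ⟨blk c, blk_mem c⟩
  map_one' := Subtype.ext blk_one
  map_mul' c d := Subtype.ext (blk_mul c d)

/-- The permutation matrix. -/
def pm (π : Perm (Fin n)) : Matrix (Fin n) (Fin n) F :=
  Matrix.of fun i j => if π⁻¹ i = j then 1 else 0

@[simp] theorem pm_apply (π : Perm (Fin n)) (i j : Fin n) :
    (pm π : Matrix (Fin n) (Fin n) F) i j = if π⁻¹ i = j then 1 else 0 := rfl

theorem pm_mul (π σ : Perm (Fin n)) : (pm (π * σ) : Matrix (Fin n) (Fin n) F) = pm π * pm σ := by
  ext i j
  rw [Matrix.mul_apply, Finset.sum_eq_single (π⁻¹ i)]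
  · rw [pm_apply, pm_apply, pm_apply, if_pos rfl, one_mul, _root_.mul_inv_rev, Perm.mul_apply]
  · intro b _ hb
    rw [pm_apply, if_neg (fun h => hb h.symm), zero_mul]
  · simp

theorem pm_one : (pm 1 : Matrix (Fin n) (Fin n) F) = 1 := by
  ext i j
  simp [Matrix.one_apply]

theorem pm_transpose (π : Perm (Fin n)) : (pm π : Matrix (Fin n) (Fin n) F)ᵀ = pm π⁻¹ := by
  ext i j
  simp only [transpose_apply, pm_apply, inv_inv]
  by_cases h : π i = j
  · rw [if_pos h, if_pos]
    rw [← h]
    simp
  · rw [if_neg h, if_neg]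
    intro h2
    apply h
    rw [← h2]
    simp

theorem pm_conj (π : Perm (Fin n)) (d : Fin n → F) :
    (pm π : Matrix (Fin n) (Fin n) F) * diagonal d * pm π⁻¹ = diagonal (d ∘ ⇑π⁻¹) := by
  ext i j
  rw [Matrix.mul_apply, Finset.sum_eq_single (π⁻¹ i)]
  · have hh : π (π⁻¹ i) = i := by simp
    rw [Matrix.mul_diagonal, pm_apply, pm_apply, if_pos rfl, inv_inv, one_mul, hh,
      diagonal_apply]
    by_cases h : i = j
    · subst h
      simp
    · rw [if_neg h, if_neg h, mul_zero]
  · intro b _ hb
    rw [Matrix.mul_diagonal, pm_apply, if_neg (fun h => hb h.symm)]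
    simp
  · simp

/-- The block matrix of a permutation. -/
def tm (π : Perm (Fin n)) : Matrix (Fin n ⊕ Fin n) (Fin n ⊕ Fin n) F :=
  fromBlocks (pm π) 0 0 (pm π)

theorem tm_mul (π σ : Perm (Fin n)) :
    (tm (π * σ) : Matrix (Fin n ⊕ Fin n) (Fin n ⊕ Fin n) F) = tm π * tm σ := by
  simp [tm, fromBlocks_multiply, pm_mul]

theorem tm_one : (tm 1 : Matrix (Fin n ⊕ Fin n) (Fin n ⊕ Fin n) F) = 1 := by
  simp [tm, pm_one, fromBlocks_one]

theorem tm_mem (π : Perm (Fin n)) :
    (tm π : Matrix (Fin n ⊕ Fin n) (Fin n ⊕ Fin n) F) ∈ symplecticGroup (Fin n) F := by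
  rw [SymplecticGroup.mem_iff]
  simp only [J, tm, fromBlocks_transpose, fromBlocks_multiply, Matrix.mul_zero,
    Matrix.zero_mul, Matrix.mul_neg, Matrix.neg_mul, Matrix.mul_one, Matrix.one_mul, zero_add,
    add_zero, transpose_zero, pm_transpose, ← pm_mul, mul_inv_cancel, pm_one, neg_zero]

/-- The embedding of the top group. -/
def Th : Perm (Fin n) →* symplecticGroup (Fin n) F where
  toFun π := ⟨tm π, tm_mem π⟩
  map_one' := Subtype.ext tm_one
  map_mul' a b := Subtype.ext (tm_mul a b)

theorem Th_conj (π : Perm (Fin n)) (c : Fin n → SL(2, F)) :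
    Th π * Mh c * (Th π)⁻¹ = Mh (c ∘ ⇑π⁻¹) := by
  rw [← map_inv]
  apply Subtype.ext
  show tm π * blk c * tm π⁻¹ = blk (c ∘ ⇑π⁻¹)
  simp only [tm, blk, fromBlocks_multiply, Matrix.mul_zero, Matrix.zero_mul, zero_add, add_zero]
  rw [pm_conj, pm_conj, pm_conj, pm_conj]
  rfl

theorem sep (c : Fin n → SL(2, F)) (π : Perm (Fin n)) (h : Mh c * Th π = 1) : c = 1 ∧ π = 1 := by
  have h1 : blk c * tm π = 1 := congrArg Subtype.val h
  simp only [blk, tm, fromBlocks_multiply, Matrix.mul_zero, Matrix.zero_mul, zero_add, add_zero] at h1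
  rw [← fromBlocks_one, fromBlocks_inj] at h1
  obtain ⟨h00, h01, h10, h11⟩ := h1
  have hdet : ∀ i, (c i).1 0 0 * (c i).1 1 1 - (c i).1 0 1 * (c i).1 1 0 = 1 := by
    intro i
    have := (c i).2
    rwa [Matrix.det_fin_two] at this
  have ha : ∀ i, (c i).1 0 0 = (1 : Matrix (Fin n) (Fin n) F) i (π⁻¹ i) := by
    intro i
    have := congrFun (congrFun h00 i) (π⁻¹ i)
    simpa [diagonal_mul] using this
  have hb : ∀ i, (c i).1 0 1 = 0 := by
    intro i
    have := congrFun (congrFun h01 i) (π⁻¹ i)
    simpa [diagonal_mul] using this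
  have hc : ∀ i, (c i).1 1 0 = 0 := by
    intro i
    have := congrFun (congrFun h10 i) (π⁻¹ i)
    simpa [diagonal_mul] using this
  have hd : ∀ i, (c i).1 1 1 = (1 : Matrix (Fin n) (Fin n) F) i (π⁻¹ i) := by
    intro i
    have := congrFun (congrFun h11 i) (π⁻¹ i)
    simpa [diagonal_mul] using this
  have hfix : ∀ i, π⁻¹ i = i := by
    intro i
    by_contra hne
    have h2 := hdet i
    rw [ha, hd, hb, Matrix.one_apply_ne (fun h => hne h.symm)] at h2
    simp at h2
  have ha' : ∀ i, (c i).1 0 0 = 1 := fun i => by rw [ha, hfix, Matrix.one_apply_eq]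
  have hd' : ∀ i, (c i).1 1 1 = 1 := fun i => by rw [hd, hfix, Matrix.one_apply_eq]
  constructor
  · funext i
    apply Subtype.ext
    ext a b
    fin_cases a <;> fin_cases b
    · simp [ha']
    · simp [hb]
    · simp [hc]
    · simp [hd']
  · ext i
    have := hfix i
    rw [Equiv.Perm.inv_eq_iff_eq] at this
    simp [← this]

end Mat

section Quat

/-- In generalized quaternion groups `x²` is a commutator. -/
theorem quat_sq_mem (n : ℕ) (hn0 : n ≠ 0) (hn : Even n) (x : QuaternionGroup n) :
    x ^ 2 ∈ commutator (QuaternionGroup n) := by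
  haveI : NeZero (2 * n) := ⟨by omega⟩
  have h1 : (QuaternionGroup.a 2 : QuaternionGroup n) ∈ commutator (QuaternionGroup n) := by
    have h := Subgroup.commutator_mem_commutator (Subgroup.mem_top (QuaternionGroup.a 1 : QuaternionGroup n))
      (Subgroup.mem_top (QuaternionGroup.xa 0 : QuaternionGroup n))
    rw [commutatorElement_def] at h
    have h0 : (QuaternionGroup.a 1 : QuaternionGroup n) * QuaternionGroup.xa 0 =
        QuaternionGroup.a 2 * (QuaternionGroup.xa 0 * QuaternionGroup.a 1) := by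
      simp only [QuaternionGroup.a_mul_xa, QuaternionGroup.xa_mul_a]
      congr 1
      ring
    have h2 : (QuaternionGroup.a 1 : QuaternionGroup n) * QuaternionGroup.xa 0 *
        (QuaternionGroup.a 1)⁻¹ * (QuaternionGroup.xa 0)⁻¹ = QuaternionGroup.a 2 := by
      rw [h0]
      group
    rw [h2] at h
    exact h
  have h2 : ∀ k : ℕ, (QuaternionGroup.a ((2 : ZMod (2 * n)) * (k : ZMod (2 * n))) : QuaternionGroup n) ∈
      commutator (QuaternionGroup n) := by
    intro k
    have h3 := pow_mem h1 k
    have h4 : (QuaternionGroup.a (2 : ZMod (2 * n)) : QuaternionGroup n) ^ k =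
        QuaternionGroup.a ((2 : ZMod (2 * n)) * (k : ZMod (2 * n))) := by
      clear h3
      induction k with
      | zero => simp
      | succ k ih =>
        rw [pow_succ, ih, QuaternionGroup.a_mul_a]
        congr 1
        push_cast
        ring
    rwa [h4] at h3
  cases x with
  | a i =>
    obtain ⟨k, rfl⟩ := ZMod.natCast_zmod_surjective i
    have h3 : (QuaternionGroup.a (k : ZMod (2 * n)) : QuaternionGroup n) ^ 2 =
        QuaternionGroup.a ((2 : ZMod (2 * n)) * (k : ZMod (2 * n))) := by
      rw [pow_two, QuaternionGroup.a_mul_a]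
      congr 1
      ring
    rw [h3]
    exact h2 k
  | xa i =>
    rw [QuaternionGroup.xa_sq]
    obtain ⟨m, hm⟩ := hn
    have h3 : ((n : ℕ) : ZMod (2 * n)) = (2 : ZMod (2 * n)) * ((m : ℕ) : ZMod (2 * n)) := by
      have hm' := congrArg (Nat.cast : ℕ → ZMod (2 * n)) hm
      rw [hm']
      push_cast
      ring
    rw [h3]
    exact h2 m

end Quat

end Cfsg.Agent.H21.SpS
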