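import Cfsg.Agent.Lib.H21.SpSylowB

/-!
# Sylow 2-subgroups of symplectic groups: the main statement
-/

set_option autoImplicit false
set_option linter.unusedSectionVars false
set_option linter.style.haveILetI false
set_option linter.unusedSimpArgs false

namespace Cfsg.Agent.H21.SpS

open Equiv Matrix
open scoped MatrixGroups

theorem val_key {q : ℕ} (hq : Odd q) (hq1 : 1 < q) {i : ℕ} (hi : i ≠ 0) :
    padicValNat 2 (q ^ (2 * i) - 1) = padicValNat 2 (q ^ 2 - 1) + padicValNat 2 i := by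
  have h2q : 2 ∣ q - 1 := (Nat.Odd.sub_odd hq odd_one).two_dvd
  have hq2 : ¬ 2 ∣ q := by
    rw [← even_iff_two_dvd]
    exact Nat.not_even_iff_odd.2 hq
  have h1 := padicValNat.pow_two_sub_pow (y := 1) hq1 h2q hq2 (n := 2 * i) (by omega) (even_two_mul i)
  have h2 := padicValNat.pow_two_sub_pow (y := 1) hq1 h2q hq2 (n := 2) (by omega) even_two
  rw [one_pow] at h1 h2
  rw [padicValNat.mul (by omega) hi] at h1
  rw [padicValNat.self (by norm_num)] at h1 h2
  omega

theorem val_prod {q : ℕ} (hq : Odd q) (hq1 : 1 < q) (m : ℕ) :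
    padicValNat 2 (∏ i ∈ Finset.range m, (q ^ (2 * (i + 1)) - 1)) =
      m * padicValNat 2 (q ^ 2 - 1) + padicValNat 2 (Nat.factorial m) := by
  have hne : ∀ i, q ^ (2 * (i + 1)) - 1 ≠ 0 := by
    intro i
    have : 1 < q ^ (2 * (i + 1)) := Nat.one_lt_pow (by omega) hq1
    omega
  induction m with
  | zero => simp
  | succ m ih =>
    rw [Finset.prod_range_succ, padicValNat.mul (Finset.prod_ne_zero_iff.2 fun i _ => hne i) (hne m),
      ih, val_key hq hq1 (Nat.succ_ne_zero m), Nat.factorial_succ,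
      padicValNat.mul (Nat.succ_ne_zero m) (Nat.factorial_ne_zero m)]
    ring

theorem sp_val {F : Type*} [Field F] [Fintype F] (hF : Odd (Fintype.card F)) (m : ℕ) :
    (Nat.card (symplecticGroup (Fin m) F)).factorization 2 =
      m * padicValNat 2 (Fintype.card F ^ 2 - 1) + padicValNat 2 (Nat.factorial m) := by
  have hq1 : 1 < Fintype.card F := Fintype.one_lt_card
  have hne : ∀ i, Fintype.card F ^ (2 * (i + 1)) - 1 ≠ 0 := by
    intro i
    have : 1 < Fintype.card F ^ (2 * (i + 1)) := Nat.one_lt_pow (by omega) hq1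
    omega
  rw [Cfsg.Agent.Lead.card_Sp rfl m, Nat.factorization_def _ Nat.prime_two,
    padicValNat.mul (pow_ne_zero _ (by omega)) (Finset.prod_ne_zero_iff.2 fun i _ => hne i),
    val_prod hF hq1, padicValNat.pow]
  have h0 : padicValNat 2 (Fintype.card F) = 0 := by
    apply padicValNat.eq_zero_of_not_dvd
    rw [← even_iff_two_dvd]
    exact Nat.not_even_iff_odd.2 hF
  rw [h0]
  ring

theorem sl2_val {F : Type*} [Field F] [Fintype F] [DecidableEq F] (hF : Odd (Fintype.card F)) :
    (Nat.card (SL(2, F))).factorization 2 = padicValNat 2 (Fintype.card F ^ 2 - 1) := by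
  have hq1 : 1 < Fintype.card F := Fintype.one_lt_card
  set q := Fintype.card F with hq
  have h1 := Cfsg.Agent.Lead.card_SL (F := F) 2 (by norm_num)
  rw [Fin.prod_univ_two] at h1
  simp only [Fin.val_zero, Fin.val_one, pow_zero, pow_one, ← hq] at h1
  have hq2 : 1 < q ^ 2 := Nat.one_lt_pow (by norm_num) hq1
  have h2 : q ^ 2 - q = q * (q - 1) := by
    rw [Nat.mul_sub, mul_one, pow_two]
  have h3 : (q - 1) * Nat.card (SL(2, F)) = (q - 1) * ((q ^ 2 - 1) * q) := by
    rw [h1, h2]
    ring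
  have h4 : Nat.card (SL(2, F)) = (q ^ 2 - 1) * q :=
    Nat.eq_of_mul_eq_mul_left (by omega) h3
  rw [h4, Nat.factorization_def _ Nat.prime_two, padicValNat.mul (by omega) (by omega)]
  have h0 : padicValNat 2 q = 0 := by
    apply padicValNat.eq_zero_of_not_dvd
    rw [← even_iff_two_dvd]
    exact Nat.not_even_iff_odd.2 hF
  rw [h0, add_zero]

/-- The main theorem. -/
theorem sp_main {F : Type*} [Field F] [Fintype F] (hF : Odd (Fintype.card F)) (n : ℕ)
    (P : Sylow 2 (symplecticGroup (Fin n) F)) :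
    ∀ x : (P : Subgroup (symplecticGroup (Fin n) F)),
      x ^ 2 ∈ commutator (P : Subgroup (symplecticGroup (Fin n) F)) := by
  classical
  haveI : Fact (Nat.Prime 2) := ⟨Nat.prime_two⟩
  haveI : Finite (symplecticGroup (Fin n) F) := Subtype.finite
  obtain ⟨Q₀⟩ : Nonempty (Sylow 2 (SL(2, F))) := inferInstance
  obtain ⟨S₀⟩ : Nonempty (Sylow 2 (Perm (Fin n))) := inferInstance
  have hQ : SymS.Good 2 (Q₀ : Subgroup (SL(2, F))) := by
    obtain ⟨k, hk, ⟨e⟩⟩ := Cfsg.Agent.Lead.sl2_sylow_quat hF Q₀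
    intro x hx
    have h1 := quat_sq_mem (2 ^ k) (by positivity) (by
      exact (Nat.even_pow' (by omega)).2 even_two) (e ⟨x, hx⟩)
    let f : QuaternionGroup (2 ^ k) →* SL(2, F) :=
      (Q₀ : Subgroup (SL(2, F))).subtype.comp e.symm.toMonoidHom
    have h2 : f ((e ⟨x, hx⟩) ^ 2) ∈ (commutator (QuaternionGroup (2 ^ k))).map f := ⟨_, h1, rfl⟩
    rw [commutator_def, Subgroup.map_commutator] at h2
    have hle : (⊤ : Subgroup (QuaternionGroup (2 ^ k))).map f ≤ (Q₀ : Subgroup (SL(2, F))) := by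
      rintro _ ⟨y, -, rfl⟩
      exact (e.symm y).2
    have h3 := Subgroup.commutator_mono hle hle h2
    have h4 : f ((e ⟨x, hx⟩) ^ 2) = x ^ 2 := by
      rw [map_pow]
      congr 1
      simp [f]
    rwa [h4] at h3
  have hS : SymS.Good 2 (S₀ : Subgroup (Perm (Fin n))) := (SymS.good_sylow n S₀).1
  let W := wrS Mh Th Th_conj (Q₀ : Subgroup (SL(2, F))) (S₀ : Subgroup (Perm (Fin n)))
  have hWg : SymS.Good 2 W := wrS_good Mh Th Th_conj _ _ hQ hS
  have hWc : Nat.card W = 2 ^ (Nat.card (symplecticGroup (Fin n) F)).factorization 2 := by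
    rw [card_wrS Mh Th Th_conj sep, sp_val hF, Fintype.card_fin, Q₀.card_eq_multiplicity,
      S₀.card_eq_multiplicity, sl2_val hF, Nat.card_eq_fintype_card (α := Perm (Fin n)),
      Fintype.card_perm, Fintype.card_fin, Nat.factorization_def _ Nat.prime_two, ← pow_mul,
      ← pow_add, mul_comm (padicValNat 2 (Fintype.card F ^ 2 - 1)) n]
  let S' : Sylow 2 (symplecticGroup (Fin n) F) := Sylow.ofCard W hWc
  obtain ⟨g, hg⟩ := MulAction.exists_smul_eq (symplecticGroup (Fin n) F) S' P
  have hP : (P : Subgroup (symplecticGroup (Fin n) F)) = W.map (MulAut.conj g).toMonoidHom := by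
    rw [← hg]
    ext x
    rfl
  have hgood : SymS.Good 2 (P : Subgroup (symplecticGroup (Fin n) F)) := by
    rw [hP]
    exact hWg.map _
  intro x
  have h1 := hgood x x.2
  rw [← Subgroup.map_subtype_commutator] at h1
  obtain ⟨y, hy, hyx⟩ := h1
  have : y = x ^ 2 := Subtype.ext hyx
  rwa [← this]

end Cfsg.Agent.H21.SpS
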