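import Cfsg.Agent.Lib.H21.Subsec
import Cfsg.Agent.Lib.H22.PIndex

/-!
# Orthogonality for subsections
-/

set_option autoImplicit false
set_option linter.unusedSectionVars false
set_option linter.style.haveILetI false
set_option linter.unusedSimpArgs false

namespace Cfsg.Agent.H21

open scoped ComplexConjugate
open Cfsg Module Cfsg.Agent.H22

universe u

section Kernel

variable {H : Type u} [Group H] [Finite H]
variable {p : ℕ} [hp : Fact p.Prime] {M : Ideal AlgInt} [hMp : M.IsPrime]

/-- The block kernel `∑_{ψ ∈ b} ψ(y) conj ψ(c)`. -/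
noncomputable def kerK (b : Set (IrrCharacter H)) (y c : H) : ℂ :=
  ∑ ψ : IrrCharacter H, eB b ψ * (ψ.1 y * conj (ψ.1 c))

theorem blockPart_eq_kernel (b : Set (IrrCharacter H)) (φ : H → ℂ) (y : H) :
    blockPart b φ y = (Nat.card H : ℂ)⁻¹ * ∑ c, φ c * kerK b y c := by
  rw [blockPart_eq]
  unfold classInner kerK
  simp only [Finset.mul_sum, Finset.sum_mul]
  rw [Finset.sum_comm]
  refine Finset.sum_congr rfl fun ψ _ => ?_
  refine Finset.sum_congr rfl fun c _ => ?_
  ring

theorem kerK_isClass (b : Set (IrrCharacter H)) (y : H) : IsClassFunction H (kerK b y) := by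
  intro c k
  unfold kerK
  simp only [irr_conj']

theorem kerK_singular (hM : IsPModular p M) {b : Set (IrrCharacter H)} (hb : IsPBlock M b) {y c : H}
    (hy : ¬ p ∣ orderOf y) (hc : p ∣ orderOf c) : kerK b y c = 0 :=
  block_orth_regular_singular hM hb hy hc

/-- The Hermitian product of block kernels. -/
theorem sum_kerK_mul (b b' : Set (IrrCharacter H)) (y y' : H) :
    (Nat.card H : ℂ)⁻¹ * ∑ c, kerK b y c * conj (kerK b' y' c) =
      ∑ ψ : IrrCharacter H, eB b ψ * eB b' ψ * (ψ.1 y * conj (ψ.1 y')) := by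
  classical
  unfold kerK
  simp only [map_sum, map_mul, Complex.conj_conj]
  have h1 : ∀ c : H, (∑ ψ : IrrCharacter H, eB b ψ * (ψ.1 y * conj (ψ.1 c))) *
      (∑ ψ' : IrrCharacter H, conj (eB b' ψ') * (conj (ψ'.1 y') * ψ'.1 c)) =
      ∑ ψ : IrrCharacter H, ∑ ψ' : IrrCharacter H, eB b ψ * ψ.1 y * (conj (eB b' ψ') * conj (ψ'.1 y')) *
        (ψ'.1 c * conj (ψ.1 c)) := by
    intro c
    rw [Finset.sum_mul]
    refine Finset.sum_congr rfl fun ψ _ => ?_
    rw [Finset.mul_sum]
    refine Finset.sum_congr rfl fun ψ' _ => ?_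
    ring
  simp only [h1]
  rw [Finset.sum_comm, Finset.mul_sum]
  refine Finset.sum_congr rfl fun ψ _ => ?_
  rw [Finset.sum_comm, Finset.mul_sum]
  rw [Finset.sum_eq_single ψ]
  · have h2 := classInner_irr ψ ψ
    unfold classInner at h2
    rw [if_pos rfl] at h2
    simp only [← Finset.mul_sum]
    rw [mul_left_comm, h2, mul_one, eB_conj]
    ring
  · intro ψ' _ hne
    have h2 := classInner_irr ψ' ψ
    unfold classInner at h2
    rw [if_neg hne] at h2
    simp only [← Finset.mul_sum]
    rw [mul_left_comm, h2, mul_zero]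
  · intro h
    exact absurd (Finset.mem_univ _) h

end Kernel

section Orth

variable {G : Type u} [Group G] [Finite G]
variable {p : ℕ} [hp : Fact p.Prime] {M : Ideal AlgInt} [hMp : M.IsPrime]

/-- `z c ~ z c'` in `G` iff `c ~ c'` in `C(z)`, for `p`-regular `c, c'`. -/
theorem conj_mul_iff {z : G} {k : ℕ} (hz : orderOf z = p ^ k)
    {c c' : Subgroup.centralizer ({z} : Set G)} (hc : ¬ p ∣ orderOf c) (hc' : ¬ p ∣ orderOf c') :
    IsConj (z * (c : G)) (z * (c' : G)) ↔ IsConj c c' := by
  constructor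
  · intro h
    obtain ⟨u, hu⟩ := isConj_iff.mp h
    have hp1 := isPPart_mul_centralizer c hz hc
    have hp2 := isPPart_mul_centralizer c' hz hc'
    have hp3 := isPPart_conj hp1 u
    rw [hu] at hp3
    have hux : u * z * u⁻¹ = z := pPart_unique hp3 hp2
    have huC : u ∈ Subgroup.centralizer ({z} : Set G) := by
      rw [Subgroup.mem_centralizer_singleton_iff]
      exact mul_inv_eq_iff_eq_mul.mp hux
    refine isConj_iff.mpr ⟨⟨u, huC⟩, Subtype.ext ?_⟩
    simp only [Subgroup.coe_mul, Subgroup.coe_inv]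
    have h2 : u * (z * (c : G)) * u⁻¹ = z * (u * (c : G) * u⁻¹) := by
      have h3 : u * z = z * u := mul_inv_eq_iff_eq_mul.mp hux
      rw [← mul_assoc, h3]
      group
    rw [h2] at hu
    exact mul_left_cancel hu
  · intro h
    obtain ⟨u, hu⟩ := isConj_iff.mp h
    refine isConj_iff.mpr ⟨u, ?_⟩
    rw [← hu]
    simp only [Subgroup.coe_mul, Subgroup.coe_inv]
    have h3 : (u : G) * z = z * (u : G) := Subgroup.mem_centralizer_singleton_iff.mp u.2
    calc (u : G) * (z * (c : G)) * (u : G)⁻¹ = ((u : G) * z) * (c : G) * (u : G)⁻¹ := by group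
      _ = z * ((u : G) * (c : G) * (u : G)⁻¹) := by rw [h3]; group

/-- The centralizer of `z c` in `G` has the order of the centralizer of `c` in `C(z)`. -/
theorem card_centralizer_mul {z : G} {k : ℕ} (hz : orderOf z = p ^ k)
    {c : Subgroup.centralizer ({z} : Set G)} (hc : ¬ p ∣ orderOf c) :
    Nat.card (Subgroup.centralizer ({z * (c : G)} : Set G)) =
      Nat.card (Subgroup.centralizer ({c} : Set (Subgroup.centralizer ({z} : Set G)))) := by
  rw [card_centralizer_subtype]
  have hcomm : Commute z (c : G) := (Subgroup.mem_centralizer_singleton_iff.mp c.2).symm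
  have hc' : ¬ p ∣ orderOf (c : G) := by rwa [Subgroup.orderOf_coe]
  congr 2
  apply le_antisymm
  · intro u hu
    have := centralizer_mul_le hcomm hz hc' hu
    exact ⟨this.2, this.1⟩
  · rintro u ⟨hu1, hu2⟩
    have hu1' : u ∈ Subgroup.centralizer ({(c : G)} : Set G) := hu1
    have hu2' : u ∈ Subgroup.centralizer ({z} : Set G) := hu2
    rw [Subgroup.mem_centralizer_singleton_iff] at hu1' hu2' ⊢
    rw [← mul_assoc, hu2', mul_assoc, hu1', mul_assoc]

/-- Column orthogonality, for subsections. -/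
theorem sum_column_section (hM : IsPModular p M) {z : G} {k : ℕ} (hz : orderOf z = p ^ k)
    {b : Set (IrrCharacter (Subgroup.centralizer ({z} : Set G)))} (hb : IsPBlock M b)
    {y c' : Subgroup.centralizer ({z} : Set G)} (hy : ¬ p ∣ orderOf y) (hc' : ¬ p ∣ orderOf c') :
    ∑ c : Subgroup.centralizer ({z} : Set G), kerK b y c *
        ∑ ζ : IrrCharacter G, ζ.1 (z * (c : G)) * conj (ζ.1 (z * (c' : G))) =
      (Nat.card (Subgroup.centralizer ({z} : Set G)) : ℂ) * kerK b y c' := by
  classical
  have h1 : ∀ c : Subgroup.centralizer ({z} : Set G), kerK b y c *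
      ∑ ζ : IrrCharacter G, ζ.1 (z * (c : G)) * conj (ζ.1 (z * (c' : G))) =
      (Nat.card (Subgroup.centralizer ({c'} : Set (Subgroup.centralizer ({z} : Set G)))) : ℂ) *
        (classIndicator c' c * kerK b y c) := by
    intro c
    by_cases hc : p ∣ orderOf c
    · rw [kerK_singular hM hb hy hc]
      ring
    · by_cases hconj : IsConj c c'
      · have h2 := (conj_mul_iff hz hc hc').mpr hconj
        rw [column_orthogonality_of_isConj h2, card_centralizer_mul hz hc']
        unfold classIndicator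
        rw [if_pos hconj]
        ring
      · have h2 : ¬ IsConj (z * (c : G)) (z * (c' : G)) := fun h3 =>
          hconj ((conj_mul_iff hz hc hc').mp h3)
        rw [column_orthogonality_of_not_isConj h2]
        unfold classIndicator
        rw [if_neg hconj]
        ring
  simp only [h1]
  rw [← Finset.mul_sum, sum_isConj _ (kerK_isClass b y) c', ← mul_assoc]
  congr 1
  have := (Subgroup.centralizer ({c'} : Set (Subgroup.centralizer ({z} : Set G)))).card_mul_index
  exact_mod_cast this

/-- **Orthogonality for subsections.** -/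
theorem subsection_orth (hM : IsPModular p M) {z : G} {k : ℕ} (hz : orderOf z = p ^ k)
    {b b' : Set (IrrCharacter (Subgroup.centralizer ({z} : Set G)))} (hb : IsPBlock M b)
    (hb' : IsPBlock M b') {y y' : Subgroup.centralizer ({z} : Set G)} (hy : ¬ p ∣ orderOf y)
    (hy' : ¬ p ∣ orderOf y') :
    ∑ ζ : IrrCharacter G,
      blockPart b (fun c : Subgroup.centralizer ({z} : Set G) => ζ.1 (z * (c : G))) y *
        conj (blockPart b' (fun c : Subgroup.centralizer ({z} : Set G) => ζ.1 (z * (c : G))) y') =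
      ∑ ψ : IrrCharacter (Subgroup.centralizer ({z} : Set G)),
        eB b ψ * eB b' ψ * (ψ.1 y * conj (ψ.1 y')) := by
  classical
  have hC0 : (Nat.card (Subgroup.centralizer ({z} : Set G)) : ℂ) ≠ 0 := card_ne_zero_C
  rw [← sum_kerK_mul]
  simp only [blockPart_eq_kernel]
  simp only [map_mul, map_sum, map_inv₀, Complex.conj_natCast]
  have h1 : ∀ ζ : IrrCharacter G, (Nat.card (Subgroup.centralizer ({z} : Set G)) : ℂ)⁻¹ * (∑ c : (Subgroup.centralizer ({z} : Set G)), ζ.1 (z * (c : G)) * kerK b y c) *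
      ((Nat.card (Subgroup.centralizer ({z} : Set G)) : ℂ)⁻¹ * ∑ c' : (Subgroup.centralizer ({z} : Set G)), conj (ζ.1 (z * (c' : G))) * conj (kerK b' y' c')) =
      (Nat.card (Subgroup.centralizer ({z} : Set G)) : ℂ)⁻¹ * (Nat.card (Subgroup.centralizer ({z} : Set G)) : ℂ)⁻¹ * ∑ c' : (Subgroup.centralizer ({z} : Set G)), conj (kerK b' y' c') * ∑ c : (Subgroup.centralizer ({z} : Set G)),
        kerK b y c * (ζ.1 (z * (c : G)) * conj (ζ.1 (z * (c' : G)))) := by
    intro ζ
    have : (∑ c : (Subgroup.centralizer ({z} : Set G)), ζ.1 (z * (c : G)) * kerK b y c) * (∑ c' : (Subgroup.centralizer ({z} : Set G)), conj (ζ.1 (z * (c' : G))) * conj (kerK b' y' c')) =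
        ∑ c' : (Subgroup.centralizer ({z} : Set G)), conj (kerK b' y' c') * ∑ c : (Subgroup.centralizer ({z} : Set G)), kerK b y c * (ζ.1 (z * (c : G)) * conj (ζ.1 (z * (c' : G)))) := by
      rw [Finset.mul_sum]
      refine Finset.sum_congr rfl fun c' _ => ?_
      rw [Finset.sum_mul, Finset.mul_sum]
      refine Finset.sum_congr rfl fun c _ => ?_
      ring
    calc _ = (Nat.card (Subgroup.centralizer ({z} : Set G)) : ℂ)⁻¹ * (Nat.card (Subgroup.centralizer ({z} : Set G)) : ℂ)⁻¹ * ((∑ c : (Subgroup.centralizer ({z} : Set G)), ζ.1 (z * (c : G)) * kerK b y c) *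
          (∑ c' : (Subgroup.centralizer ({z} : Set G)), conj (ζ.1 (z * (c' : G))) * conj (kerK b' y' c'))) := by ring
      _ = _ := by rw [this]
  simp only [h1]
  rw [← Finset.mul_sum, Finset.sum_comm]
  have h2 : ∀ c' : (Subgroup.centralizer ({z} : Set G)), ∑ ζ : IrrCharacter G, conj (kerK b' y' c') * ∑ c : (Subgroup.centralizer ({z} : Set G)),
      kerK b y c * (ζ.1 (z * (c : G)) * conj (ζ.1 (z * (c' : G)))) =
      (Nat.card (Subgroup.centralizer ({z} : Set G)) : ℂ) * (kerK b y c' * conj (kerK b' y' c')) := by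
    intro c'
    by_cases hc' : p ∣ orderOf c'
    · rw [kerK_singular hM hb' hy' hc']
      simp
    · rw [← Finset.mul_sum, Finset.sum_comm]
      simp only [← Finset.mul_sum]
      rw [sum_column_section hM hz hb hy hc']
      ring
  simp only [h2]
  rw [← Finset.mul_sum, ← mul_assoc, mul_assoc _ _ (Nat.card (Subgroup.centralizer ({z} : Set G)) : ℂ), inv_mul_cancel₀ hC0, mul_one]

end Orth

end Cfsg.Agent.H21
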