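import Cfsg.Agent.Lib.H21.Subsec2
import Cfsg.Agent.Lib.H22.Rank1
import Cfsg.Agent.Lib.H05.Comp6

/-!
# Principal blocks of centralizers (third main theorem in the language of induced blocks)
-/

set_option autoImplicit false
set_option linter.unusedSectionVars false
set_option linter.style.haveILetI false
set_option linter.unusedSimpArgs false

namespace Cfsg.Agent.H21

open scoped ComplexConjugate
open Cfsg Module Cfsg.Agent.H22

universe u

section Third

variable {G : Type u} [Group G] [Finite G]
variable {p : ℕ} [hp : Fact p.Prime] {M : Ideal AlgInt} [hMp : M.IsPrime]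

/-- Induced blocks and Brauer pairs. -/
theorem mem_brSet_of_induced {Q : Subgroup G}
    {b : Set (IrrCharacter (Subgroup.centralizer (Q : Set G)))} {B : Set (IrrCharacter G)}
    (hind : IsInducedBlock M (Subgroup.centralizer (Q : Set G)) b B) :
    b ⊆ brSet M Q (blockCoeff B) := by
  intro ξ hξ
  obtain ⟨χ₀, hχ₀⟩ := block_nonempty hind.2.1
  have h1 := induced_congr hind hξ hχ₀ (blockCoeff_isClass B)
    (blockCoeff_mlr' (blockSat_of_isBlock hind.2.1))
  have h2 : om χ₀ (blockCoeff B) = 1 := by
    rw [funext (blockCoeff_eq_ofOm B), om_ofOm, eB_apply_mem hχ₀]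
  rw [h2] at h1
  show MemLocalIdeal M (bw Q ξ (blockCoeff B) - 1)
  have h3 : bw Q ξ (blockCoeff B) =
      ∑ h : Subgroup.centralizer (Q : Set G), blockCoeff B h * (ξ.1 h / ξ.1 1) := by
    unfold bw om brT
    rw [Finset.mul_sum]
    refine Finset.sum_congr rfl fun c _ => ?_
    ring
  rw [h3]
  exact h1

theorem induced_principal_iff_aux (hM : IsPModular p M) {Q : Subgroup G} (hQ : IsPGroup p Q)
    {b : Set (IrrCharacter (Subgroup.centralizer (Q : Set G)))} (hb : IsPBlock M b) :
    IsInducedBlock M (Subgroup.centralizer (Q : Set G)) b (principalBlock M G) ↔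
      b = principalBlock M (Subgroup.centralizer (Q : Set G)) := by
  classical
  constructor
  · intro hind
    refine third_main hM hQ ?_
    rw [isBrauerPairOf_iff]
    exact ⟨⟨hQ, hb⟩, principalBlock_isBlock, mem_brSet_of_induced hind⟩
  · rintro rfl
    have hpair := isBrauerPairOf_principal hM hQ
    rw [isBrauerPairOf_iff] at hpair
    have h1 := hpair.2.2 (oneIrr_mem_principal (G := Subgroup.centralizer (Q : Set G)) (M := M))
    refine ⟨principalBlock_isBlock, principalBlock_isBlock, fun ξ hξ χ hχ g => ?_⟩
    have hcl : IsClassFunction G (classIndicator g) := classIndicator_isClass g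
    have hR : ∀ y, MemLocalRing M (classIndicator g y) := classIndicator_mlr g
    have h2 := bw_eq_om hM hQ principalBlock_isBlock h1 hχ hcl hR
    have h3 : MemLocalIdeal M (bw Q ξ (classIndicator g) - bw Q (oneIrr _) (classIndicator g)) :=
      ZR_congr (brC_mem_ZR (ad_of_class hcl _) hR)
        (block_sameBlock principalBlock_isBlock hξ oneIrr_mem_principal)
    rw [om_classIndicator] at h2
    rw [inducedCentralChar_eq_bw]
    have h4 := mli_add h3 h2
    have h5 : centralChar χ.1 g = cc g χ := rfl
    rw [h5]
    convert h4 using 1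
    ring

theorem induced_principal_iff_eq (hM : IsPModular p M) {Q H : Subgroup G} (hQ : IsPGroup p Q)
    (hH : H = Subgroup.centralizer (Q : Set G)) {b : Set (IrrCharacter H)} (hb : IsPBlock M b) :
    IsInducedBlock M H b (principalBlock M G) ↔ b = principalBlock M H := by
  subst hH
  exact induced_principal_iff_aux hM hQ hb

/-- **Brauer's third main theorem**, for the centralizer of a `p`-element. -/
theorem induced_principal_iff (hM : IsPModular p M) {z : G} {k : ℕ} (hz : orderOf z = p ^ k)
    {b : Set (IrrCharacter (Subgroup.centralizer ({z} : Set G)))} (hb : IsPBlock M b) :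
    IsInducedBlock M (Subgroup.centralizer ({z} : Set G)) b (principalBlock M G) ↔
      b = principalBlock M (Subgroup.centralizer ({z} : Set G)) :=
  induced_principal_iff_eq hM (isPGroup_zpowers_of_orderOf hz) (centralizer_zpowers z).symm hb

theorem indBlocks_principal (hM : IsPModular p M) {z : G} {k : ℕ} (hz : orderOf z = p ^ k) :
    indBlocks M z (principalBlock M G) =
      {principalBlock M (Subgroup.centralizer ({z} : Set G))} := by
  classical
  ext b
  unfold indBlocks
  simp only [Finset.mem_filter, Finset.mem_singleton, mem_blocksF]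
  constructor
  · rintro ⟨h1, h2⟩
    exact (induced_principal_iff hM hz h1).mp h2
  · rintro rfl
    exact ⟨principalBlock_isBlock, (induced_principal_iff hM hz principalBlock_isBlock).mpr rfl⟩

/-- For a `p`-element `z`, the principal block of `G` at `z y` is the principal block part. -/
theorem eB_mul_section_eq (hM : IsPModular p M) {z : G} {k : ℕ} (hz : orderOf z = p ^ k)
    (ζ : IrrCharacter G) (y : Subgroup.centralizer ({z} : Set G)) (hy : ¬ p ∣ orderOf y) :
    eB (principalBlock M G) ζ * ζ.1 (z * y) =
      blockPart (principalBlock M (Subgroup.centralizer ({z} : Set G)))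
        (fun c : Subgroup.centralizer ({z} : Set G) => ζ.1 (z * (c : G))) y := by
  classical
  have h1 := sum_induced_blockPart hM hz principalBlock_isBlock ζ y hy
  have h2 : (blocksF M (Subgroup.centralizer ({z} : Set G))).filter
      (fun b => IsInducedBlock M (Subgroup.centralizer ({z} : Set G)) b (principalBlock M G)) =
      {principalBlock M (Subgroup.centralizer ({z} : Set G))} := indBlocks_principal hM hz
  rw [h2, Finset.sum_singleton] at h1
  exact h1.symm

/-- Norm of the section of the principal block. -/
theorem principal_section_norm (hM : IsPModular p M) {z : G} {k : ℕ} (hz : orderOf z = p ^ k)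
    (y : Subgroup.centralizer ({z} : Set G)) (hy : ¬ p ∣ orderOf y) :
    ∑ ζ : IrrCharacter G, eB (principalBlock M G) ζ * (ζ.1 (z * y) * conj (ζ.1 (z * y))) =
      ∑ ψ : IrrCharacter (Subgroup.centralizer ({z} : Set G)),
        eB (principalBlock M (Subgroup.centralizer ({z} : Set G))) ψ * (ψ.1 y * conj (ψ.1 y)) := by
  classical
  have hb : IsPBlock M (principalBlock M (Subgroup.centralizer ({z} : Set G))) :=
    principalBlock_isBlock
  have h := subsection_orth hM hz hb hb hy hy
  have h1 : ∀ ψ : IrrCharacter (Subgroup.centralizer ({z} : Set G)),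
      eB (principalBlock M (Subgroup.centralizer ({z} : Set G))) ψ *
        eB (principalBlock M (Subgroup.centralizer ({z} : Set G))) ψ =
      eB (principalBlock M (Subgroup.centralizer ({z} : Set G))) ψ :=
    fun ψ => congrFun (eB_mul_self _) ψ
  simp only [h1] at h
  rw [← h]
  refine Finset.sum_congr rfl fun ζ _ => ?_
  rw [← eB_mul_section_eq hM hz ζ y hy, map_mul, eB_conj]
  have h2 := congrFun (eB_mul_self (principalBlock M G)) ζ
  simp only [Pi.mul_apply] at h2
  calc eB (principalBlock M G) ζ * (ζ.1 (z * y) * conj (ζ.1 (z * y)))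
      = (eB (principalBlock M G) ζ * eB (principalBlock M G) ζ) * (ζ.1 (z * y) * conj (ζ.1 (z * y))) := by rw [h2]
    _ = _ := by ring

/-- The "block lemma": characters of the principal block are constant on the cosets of a normal
`p'`-subgroup of the centralizer of a `p`-element. -/
theorem principal_mul_core (hM : IsPModular p M) {z : G} {k : ℕ} (hz : orderOf z = p ^ k)
    {χ : IrrCharacter G} (hχ : χ ∈ principalBlock M G)
    (N : Subgroup (Subgroup.centralizer ({z} : Set G))) [hN : N.Normal]
    (hcop : (Nat.card N).Coprime p) {w : Subgroup.centralizer ({z} : Set G)} (hw : w ∈ N) :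
    χ.1 (z * (w : G)) = χ.1 z := by
  classical
  have hwr : ¬ p ∣ orderOf w := by
    intro hd
    have h1 : orderOf (⟨w, hw⟩ : N) ∣ Nat.card N := orderOf_dvd_natCard _
    rw [Subgroup.orderOf_mk] at h1
    have := hcop.symm.eq_one_of_dvd (hd.trans h1)
    exact hp.out.one_lt.ne' this
  have h1r : ¬ p ∣ orderOf (1 : Subgroup.centralizer ({z} : Set G)) := by
    rw [orderOf_one]
    intro hd
    exact hp.out.one_lt.ne' (Nat.dvd_one.mp hd)
  have h1 := eB_mul_section_eq hM hz χ w hwr
  have h2 := eB_mul_section_eq hM hz χ 1 h1r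
  rw [eB_apply_mem hχ, one_mul] at h1 h2
  rw [h1]
  have h3 : χ.1 z = blockPart (principalBlock M (Subgroup.centralizer ({z} : Set G)))
      (fun c : Subgroup.centralizer ({z} : Set G) => χ.1 (z * (c : G))) 1 := by
    rw [← h2]
    simp
  rw [h3, blockPart_eq, blockPart_eq]
  refine Finset.sum_congr rfl fun ψ _ => ?_
  by_cases hψ : ψ ∈ principalBlock M (Subgroup.centralizer ({z} : Set G))
  · rw [principal_trivial_on_normal hM N hcop ψ hψ w hw]
  · rw [eB_apply_not_mem hψ, zero_mul, zero_mul]

end Third

section NPC

variable {H : Type u} [Group H] [Finite H]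
variable {p : ℕ} [hp : Fact p.Prime] {M : Ideal AlgInt} [hMp : M.IsPrime]

/-- If `N` is a normal subgroup of `p`-power index and order prime to `p`, the principal block
consists of the irreducible characters with `N` in their kernel. -/
theorem principal_eq_of_npc (hM : IsPModular p M) (O : Subgroup H) [hO : O.Normal]
    (hcop : (Nat.card O).Coprime p) (hk : ∃ k : ℕ, O.index = p ^ k) :
    principalBlock M H = {χ : IrrCharacter H | ∀ n ∈ O, χ.1 n = χ.1 1} := by
  classical
  ext χ
  constructor
  · intro hχ n hn
    exact principal_trivial_on_normal hM O hcop χ hχ n hn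
  · intro hχ
    have h1 : SameBlock M (fun _ : H => (1 : ℂ)) χ.1 := by
      have h2 := sameBlock_of_regular hM (oneIrr H) χ (fun x hx => by
        have hxO : x ∈ O := by
          by_contra hn
          exact hx (dvd_orderOf_of_not_mem hk hn)
        have h3 : cc x (oneIrr H) - cc x χ = 0 := by
          unfold cc centralChar oneIrr
          simp only
          have hne : χ.1 1 ≠ 0 := by
            rw [one_eq_charDegree (isCharacter_of_irr χ.2)]
            exact_mod_cast (irr_charDegree_pos χ.2).ne'
          rw [hχ x hxO, mul_div_assoc, mul_div_assoc, div_self hne, div_self one_ne_zero, sub_self]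
        rw [h3]
        exact mli_zero)
      exact h2
    exact h1

/-- Sum of the squares of the degrees of the characters with a normal subgroup in their kernel. -/
theorem sum_degree_sq_of_normal (O : Subgroup H) [hO : O.Normal] (S : Set (IrrCharacter H))
    (hS : ∀ χ, χ ∈ S ↔ ∀ n ∈ O, χ.1 n = χ.1 1) :
    ∑ χ : IrrCharacter H, eB S χ * (χ.1 1 * conj (χ.1 1)) = (O.index : ℂ) := by
  classical
  -- `∑_{n ∈ O} ∑_χ χ(n) conj χ(1) = |H|`
  have h1 : ∑ n : H, (if n ∈ O then ∑ χ : IrrCharacter H, χ.1 n * conj (χ.1 1) else 0) =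
      (Nat.card H : ℂ) := by
    rw [Finset.sum_eq_single (1 : H)]
    · rw [if_pos O.one_mem, column_orthogonality_of_isConj (IsConj.refl (1 : H))]
      congr 1
      have h0 : Subgroup.centralizer ({(1 : H)} : Set H) = ⊤ := by
        ext x
        simp [Subgroup.mem_centralizer_singleton_iff]
      rw [h0, Nat.card_congr Subgroup.topEquiv.toEquiv]
    · intro n _ hn
      split_ifs with hnO
      · exact column_orthogonality_of_not_isConj (fun h => hn (isConj_one_right.mp h.symm))
      · rfl
    · intro h
      exact absurd (Finset.mem_univ _) h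
  have h2 : ∀ χ : IrrCharacter H, ∑ n : H, (if n ∈ O then χ.1 n else 0) =
      (Nat.card O : ℂ) * (eB S χ * χ.1 1) := by
    intro χ
    by_cases hχ : χ ∈ S
    · rw [eB_apply_mem hχ, one_mul]
      have h3 : ∀ n : H, (if n ∈ O then χ.1 n else 0) = if n ∈ O then χ.1 1 else 0 := by
        intro n
        split_ifs with hn
        · exact (hS χ).mp hχ n hn
        · rfl
      simp only [h3]
      rw [Finset.sum_ite, Finset.sum_const_zero, add_zero, Finset.sum_const, nsmul_eq_mul]
      congr 1
      rw [Nat.card_eq_fintype_card, Fintype.card_subtype]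
    · rw [eB_apply_not_mem hχ, zero_mul, mul_zero]
      have hne : ∃ x ∈ O, χ.1 x ≠ χ.1 1 := by
        by_contra hcon
        push Not at hcon
        exact hχ ((hS χ).mpr hcon)
      have h3 := sum_normal_mul_eq_zero O χ hne 1
      simpa using h3
  have h3 : ∑ n : H, (if n ∈ O then ∑ χ : IrrCharacter H, χ.1 n * conj (χ.1 1) else 0) =
      (Nat.card O : ℂ) * ∑ χ : IrrCharacter H, eB S χ * (χ.1 1 * conj (χ.1 1)) := by
    have h4 : ∀ n : H, (if n ∈ O then ∑ χ : IrrCharacter H, χ.1 n * conj (χ.1 1) else 0) =
        ∑ χ : IrrCharacter H, (if n ∈ O then χ.1 n else 0) * conj (χ.1 1) := by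
      intro n
      split_ifs with hn
      · rfl
      · simp
    simp only [h4]
    rw [Finset.sum_comm, Finset.mul_sum]
    refine Finset.sum_congr rfl fun χ _ => ?_
    rw [← Finset.sum_mul, h2 χ]
    ring
  rw [h1] at h3
  have h5 : (Nat.card H : ℂ) = (Nat.card O : ℂ) * (O.index : ℂ) := by
    rw [← Nat.cast_mul, Subgroup.card_mul_index]
  rw [h5] at h3
  have h6 : (Nat.card O : ℂ) ≠ 0 := by exact_mod_cast Nat.card_pos.ne'
  exact (mul_left_cancel₀ h6 h3).symm

/-- Real finsums of squared norms over a set of characters. -/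
theorem finsum_norm_sq_cast {G : Type u} [Group G] [Finite G] (S : Set (IrrCharacter G))
    (f : IrrCharacter G → ℂ) :
    (((∑ᶠ ζ ∈ S, ‖f ζ‖ ^ 2 : ℝ)) : ℂ) = ∑ ζ : IrrCharacter G, eB S ζ * (f ζ * conj (f ζ)) := by
  classical
  rw [← finsum_mem_irr]
  have h1 : ∀ ζ, f ζ * conj (f ζ) = ((‖f ζ‖ ^ 2 : ℝ) : ℂ) := by
    intro ζ
    rw [Complex.mul_conj, Complex.normSq_eq_norm_sq]
  simp only [h1]
  rw [finsum_mem_eq_finite_toFinset_sum _ (Set.toFinite S),
    finsum_mem_eq_finite_toFinset_sum _ (Set.toFinite S)]
  push_cast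
  rfl

/-- `S0947` (i). -/
theorem principal_norm_sum (hM : IsPModular p M) {G : Type u} [Group G] [Finite G]
    {z : G} {k : ℕ} (hz : orderOf z = p ^ k) (y : Subgroup.centralizer ({z} : Set G))
    (hy : ¬ p ∣ orderOf y) :
    ∑ᶠ ζ ∈ principalBlock M G, ‖(ζ : G → ℂ) (z * (y : G))‖ ^ 2 =
      ∑ᶠ χ ∈ principalBlock M (Subgroup.centralizer ({z} : Set G)),
        ‖(χ : Subgroup.centralizer ({z} : Set G) → ℂ) y‖ ^ 2 := by
  classical
  have h := principal_section_norm hM hz y hy
  rw [← finsum_norm_sq_cast, ← finsum_norm_sq_cast (principalBlock M _)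
    (fun χ : IrrCharacter (Subgroup.centralizer ({z} : Set G)) => χ.1 y)] at h
  exact_mod_cast h

/-- The sum of squares of a `p`-regular column of the principal block, when there is a normal
`p`-complement. -/
theorem principal_column_npc (hM : IsPModular p M) (O : Subgroup H) [hO : O.Normal]
    (hcop : (Nat.card O).Coprime p) (hk : ∃ k : ℕ, O.index = p ^ k) {y : H}
    (hy : ¬ p ∣ orderOf y) :
    ∑ᶠ χ ∈ principalBlock M H, ‖(χ : H → ℂ) y‖ ^ 2 =
      ((p ^ (Nat.card H).factorization p : ℕ) : ℝ) := by
  classical
  have hyO : y ∈ O := by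
    by_contra hn
    exact hy (dvd_orderOf_of_not_mem hk hn)
  have hS := principal_eq_of_npc hM O hcop hk
  have h1 := sum_degree_sq_of_normal O (principalBlock M H) (fun χ => by rw [hS]; rfl)
  have h2 := finsum_norm_sq_cast (principalBlock M H) (fun χ => χ.1 y)
  have h3 : ∑ ζ : IrrCharacter H, eB (principalBlock M H) ζ * (ζ.1 y * conj (ζ.1 y)) =
      ∑ χ : IrrCharacter H, eB (principalBlock M H) χ * (χ.1 1 * conj (χ.1 1)) := by
    refine Finset.sum_congr rfl fun χ _ => ?_
    by_cases hχ : χ ∈ principalBlock M H
    · rw [principal_trivial_on_normal hM O hcop χ hχ y hyO]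
    · rw [eB_apply_not_mem hχ, zero_mul, zero_mul]
  rw [h3, h1] at h2
  have h4 : O.index = p ^ (Nat.card H).factorization p := by
    obtain ⟨k, hk⟩ := hk
    rw [hk]
    have h5 : Nat.card H = Nat.card O * p ^ k := by rw [← hk, Subgroup.card_mul_index]
    have h6 : (Nat.card H).factorization p = k := by
      rw [h5, Nat.factorization_mul (Nat.card_pos.ne') (pow_ne_zero _ hp.out.ne_zero)]
      have h7 : (Nat.card O).factorization p = 0 :=
        Nat.factorization_eq_zero_of_not_dvd (fun hd => by
          have := hcop.symm.eq_one_of_dvd hd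
          exact hp.out.one_lt.ne' this)
      rw [Finsupp.add_apply, h7, Nat.factorization_pow, Finsupp.smul_apply,
        Nat.Prime.factorization_self hp.out]
      simp
    rw [h6]
  rw [h4] at h2
  exact_mod_cast h2

end NPC

end Cfsg.Agent.H21
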