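import Mathlib
import Cfsg.Agent.Lib.H03.Orbit
import Cfsg.Agent.Lib.H17.Mg3

/-! # Maximal subgroups above Sylow 2-subgroups of symmetric and alternating groups -/

set_option autoImplicit false
set_option linter.unusedSectionVars false
set_option linter.style.haveILetI false
set_option linter.unusedSimpArgs false
set_option linter.unusedVariables false
set_option linter.style.longLine false

namespace Cfsg.Agent.H21.SylSn

open Equiv Equiv.Perm MulAction

variable {X : Type} [Fintype X] [DecidableEq X]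

theorem conj_swap (g : Perm X) (x y : X) : g * swap x y * g⁻¹ = swap (g x) (g y) :=
  (Equiv.swap_apply_apply g x y).symm

theorem swap_mem_trans {N : Subgroup (Perm X)} {x y z : X} (hxy : swap x y ∈ N)
    (hyz : swap y z ∈ N) : swap x z ∈ N := by
  by_cases h1 : x = y
  · subst h1; exact hyz
  by_cases h2 : y = z
  · subst h2; exact hxy
  by_cases h3 : x = z
  · subst h3; rw [swap_self]; exact N.one_mem
  have h := N.mul_mem (N.mul_mem hxy hyz) (N.inv_mem hxy)
  rw [conj_swap] at h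
  have h4 : swap x y y = x := swap_apply_right x y
  have h5 : swap x y z = z := swap_apply_of_ne_of_ne (Ne.symm h3) (Ne.symm h2)
  rwa [h4, h5] at h

theorem top_of_swaps {N : Subgroup (Perm X)} (h : ∀ x y, swap x y ∈ N) : N = ⊤ := by
  rw [eq_top_iff, ← Equiv.Perm.closure_isSwap, Subgroup.closure_le]
  rintro _ ⟨x, y, _, rfl⟩
  exact h x y

/-- Two swaps of a 2-group sharing a point coincide. -/
theorem no_three {T : Subgroup (Perm X)} (hT : IsPGroup 2 T) {x y z : X} (hy : y ≠ x) (hz : z ≠ x)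
    (h1 : swap x y ∈ T) (h2 : swap x z ∈ T) : y = z := by
  by_contra hyz
  have h3 : (swap x y * swap x z).IsThreeCycle :=
    isThreeCycle_swap_mul_swap_same hy.symm hz.symm hyz
  have h4 := T.mul_mem h1 h2
  obtain ⟨k, hk⟩ := hT ⟨_, h4⟩
  have h5 : (swap x y * swap x z) ^ (2 ^ k) = 1 := by
    have := congrArg (Subtype.val) hk
    simpa using this
  have h6 := orderOf_dvd_of_pow_eq_one h5
  rw [h3.orderOf] at h6
  have h7 := Nat.Prime.dvd_of_dvd_pow Nat.prime_three h6
  omega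

/-- A Sylow 2-subgroup contains a swap at each of the points it moves. -/
theorem partner (R : Sylow 2 (Perm X)) {t : Perm X} (ht : t ∈ R) {x : X} (hx : t x ≠ x) :
    ∃ y, y ≠ x ∧ swap x y ∈ R := by
  classical
  -- The setwise stabiliser of the orbit
  let O : Set X := {y | ∃ s ∈ R, s x = y}
  let K : Subgroup (Perm X) :=
    { carrier := {g | ∀ y, y ∈ O ↔ g y ∈ O}
      one_mem' := fun y => Iff.rfl
      mul_mem' := fun {a b} ha hb y => (hb y).trans (ha (b y))
      inv_mem' := fun {a} ha y => by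
        have := ha (a⁻¹ y)
        have h2 : a (a⁻¹ y) = y := a.apply_symm_apply y
        rw [h2] at this
        exact this.symm }
  have hRK : (R : Subgroup (Perm X)) ≤ K := by
    intro g hg y
    constructor
    · rintro ⟨s, hs, rfl⟩
      exact ⟨g * s, R.mul_mem hg hs, rfl⟩
    · rintro ⟨s, hs, h2⟩
      refine ⟨g⁻¹ * s, R.mul_mem (R.inv_mem hg) hs, ?_⟩
      show g⁻¹ (s x) = y
      rw [h2]
      exact g.symm_apply_apply y
  have hxO : x ∈ O := ⟨1, R.one_mem, rfl⟩
  have htO : t x ∈ O := ⟨t, ht, rfl⟩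
  set y := t x with hy
  have hsK : swap x y ∈ K := by
    intro z
    by_cases h1 : z = x
    · subst h1; simp only [swap_apply_left]; exact ⟨fun _ => htO, fun _ => hxO⟩
    by_cases h2 : z = y
    · subst h2; simp only [swap_apply_right]; exact ⟨fun _ => hxO, fun _ => htO⟩
    rw [swap_apply_of_ne_of_ne h1 h2]
  let P : Sylow 2 K := R.subtype hRK
  have hQ : IsPGroup 2 (Subgroup.zpowers (⟨swap x y, hsK⟩ : K)) := by
    rw [IsPGroup.iff_card]
    refine ⟨1, ?_⟩
    rw [Nat.card_zpowers, pow_one, orderOf_eq_prime_iff]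
    refine ⟨?_, ?_⟩
    · apply Subtype.ext
      show (swap x y) ^ 2 = 1
      rw [sq, swap_mul_self]
    · intro h3
      have := congrArg Subtype.val h3
      have h5 : swap x y = 1 := this
      exact hx.symm (swap_eq_one_iff.mp h5)
  obtain ⟨P', hP'⟩ := hQ.exists_le_sylow
  obtain ⟨c, hc⟩ := MulAction.exists_smul_eq K P' P
  have h1 : (⟨swap x y, hsK⟩ : K) ∈ (P' : Subgroup K) := hP' (Subgroup.mem_zpowers _)
  have h2 : c * (⟨swap x y, hsK⟩ : K) * c⁻¹ ∈ (P : Subgroup K) := by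
    rw [← hc, Sylow.coe_subgroup_smul]
    exact Subgroup.smul_mem_pointwise_smul _ (MulAut.conj c) _ h1
  have h3 : (c : Perm X) * swap x y * (c : Perm X)⁻¹ ∈ (R : Subgroup (Perm X)) := by
    have h4 : c * (⟨swap x y, hsK⟩ : K) * c⁻¹ ∈ (R.subtype hRK : Subgroup K) := h2
    rw [Sylow.coe_subtype, Subgroup.mem_subgroupOf] at h4
    simpa using h4
  rw [conj_swap] at h3
  -- now pull back by the orbit
  have hcx : (c : Perm X) x ∈ O := (c.2 x).1 hxO
  obtain ⟨s, hs, hsx⟩ := hcx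
  refine ⟨s⁻¹ ((c : Perm X) y), ?_, ?_⟩
  · intro h6
    have h7 : (c : Perm X) y = s x := by
      rw [← h6]; exact (s.apply_symm_apply _).symm
    rw [hsx] at h7
    exact hx ((c : Perm X).injective h7)
  · have h8 := R.mul_mem (R.mul_mem (R.inv_mem hs) h3) (R.inv_mem (R.inv_mem hs))
    rw [conj_swap] at h8
    have h9 : s⁻¹ ((c : Perm X) x) = x := by
      rw [← hsx]; exact s.symm_apply_apply x
    rwa [h9] at h8

/-- Two proper subgroups above `R` generating everything preclude a unique coatom above `R`. -/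
theorem not_unique {G : Type*} [Group G] [Finite G] {R H₁ H₂ : Subgroup G} (h1 : R ≤ H₁) (h2 : R ≤ H₂)
    (hH1 : H₁ ≠ ⊤) (hH2 : H₂ ≠ ⊤) (hs : H₁ ⊔ H₂ = ⊤) : ¬ ∃! M : Subgroup G, IsCoatom M ∧ R ≤ M := by
  rintro ⟨M, ⟨hM, hRM⟩, huniq⟩
  obtain h3 | ⟨M₁, hM₁, h3⟩ := eq_top_or_exists_le_coatom H₁
  · exact hH1 h3
  obtain h4 | ⟨M₂, hM₂, h4⟩ := eq_top_or_exists_le_coatom H₂
  · exact hH2 h4
  have h5 := huniq M₁ ⟨hM₁, h1.trans h3⟩
  have h6 := huniq M₂ ⟨hM₂, h2.trans h4⟩
  subst h5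
  subst h6
  apply hM.1
  rw [eq_top_iff, ← hs]
  exact sup_le h3 h4

/-- If every subgroup above `R` not below `M₀` is everything, `M₀` is the unique coatom above `R`. -/
theorem unique_of_key {G : Type*} [Group G] {R M₀ : Subgroup G} (h1 : R ≤ M₀) (h2 : M₀ ≠ ⊤)
    (h3 : ∀ N : Subgroup G, R ≤ N → ¬ N ≤ M₀ → N = ⊤) : ∃! M : Subgroup G, IsCoatom M ∧ R ≤ M := by
  refine ⟨M₀, ⟨⟨h2, ?_⟩, h1⟩, ?_⟩
  · intro N hN
    exact h3 N (h1.trans hN.le) hN.not_ge
  · rintro M ⟨hM, hRM⟩
    have h4 : M ≤ M₀ := by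
      by_contra h5
      exact hM.1 (h3 M hRM h5)
    by_contra h5
    exact h2 (hM.2 M₀ (lt_of_le_of_ne h4 h5))

/-- The stabiliser of the system of pairs swapped by `T`. -/
def pairStab (T : Subgroup (Perm X)) : Subgroup (Perm X) where
  carrier := {g | ∀ x y, swap x y ∈ T ↔ swap (g x) (g y) ∈ T}
  one_mem' := fun x y => Iff.rfl
  mul_mem' := fun {a b} ha hb x y => (hb x y).trans (ha (b x) (b y))
  inv_mem' := fun {a} ha x y => by
    have := ha (a⁻¹ x) (a⁻¹ y)
    have h2 : ∀ z, a (a⁻¹ z) = z := fun z => a.apply_symm_apply z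
    rw [h2, h2] at this
    exact this.symm

theorem le_pairStab (T : Subgroup (Perm X)) : T ≤ pairStab T := by
  intro g hg x y
  rw [← conj_swap]
  constructor
  · intro h
    exact T.mul_mem (T.mul_mem hg h) (T.inv_mem hg)
  · intro h
    have := T.mul_mem (T.mul_mem (T.inv_mem hg) h) hg
    simpa [mul_assoc] using this

/-- The double transposition exchanging two pairs stabilises the pair system. -/
theorem exch_mem_pairStab {T : Subgroup (Perm X)} (hT : IsPGroup 2 T) {a b c d : X}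
    (hab : a ≠ b) (hac : a ≠ c) (had : a ≠ d) (hbc : b ≠ c) (hbd : b ≠ d) (hcd : c ≠ d)
    (h1 : swap a b ∈ T) (h2 : swap c d ∈ T) : swap a c * swap b d ∈ pairStab T := by
  set g := swap a c * swap b d with hg
  have hga : g a = c := by
    simp [hg, Perm.mul_apply, swap_apply_of_ne_of_ne hab had]
  have hgb : g b = d := by
    have : swap a c d = d := swap_apply_of_ne_of_ne (Ne.symm had) (Ne.symm hcd)
    simp [hg, Perm.mul_apply, this]
  have hgc : g c = a := by
    simp [hg, Perm.mul_apply, swap_apply_of_ne_of_ne (Ne.symm hbc) hcd]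
  have hgd : g d = b := by
    have : swap a c b = b := swap_apply_of_ne_of_ne (Ne.symm hab) hbc
    simp [hg, Perm.mul_apply, this]
  have hgo : ∀ x, x ≠ a → x ≠ b → x ≠ c → x ≠ d → g x = x := by
    intro x h3 h4 h5 h6
    simp [hg, Perm.mul_apply, swap_apply_of_ne_of_ne h4 h6, swap_apply_of_ne_of_ne h3 h5]
  have hgg : ∀ x, g (g x) = x := by
    intro x
    by_cases h3 : x = a
    · subst h3; rw [hga, hgc]
    by_cases h4 : x = b
    · subst h4; rw [hgb, hgd]
    by_cases h5 : x = c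
    · subst h5; rw [hgc, hga]
    by_cases h6 : x = d
    · subst h6; rw [hgd, hgb]
    rw [hgo x h3 h4 h5 h6, hgo x h3 h4 h5 h6]
  have hforward : ∀ x y, swap x y ∈ T → swap (g x) (g y) ∈ T := by
    intro x y hxy
    by_cases hne : x = y
    · subst hne; rw [swap_self]; exact T.one_mem
    have huniq : ∀ {u v w : X}, u ≠ v → swap u v ∈ T → u ≠ w → swap u w ∈ T → v = w := by
      intro u v w h3 h4 h5 h6
      exact no_three hT (Ne.symm h3) (Ne.symm h5) h4 h6
    have hba : swap b a ∈ T := by rwa [swap_comm]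
    have hdc : swap d c ∈ T := by rwa [swap_comm]
    have hyx : swap y x ∈ T := by rwa [swap_comm]
    by_cases h3 : x = a
    · subst h3
      have := huniq hne hxy hab h1
      subst this
      rw [hga, hgb]; exact h2
    by_cases h4 : x = b
    · subst h4
      have := huniq hne hxy (Ne.symm hab) hba
      subst this
      rw [hgb, hga]; rwa [swap_comm]
    by_cases h5 : x = c
    · subst h5
      have := huniq hne hxy hcd h2
      subst this
      rw [hgc, hgd]; exact h1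
    by_cases h6 : x = d
    · subst h6
      have := huniq hne hxy (Ne.symm hcd) hdc
      subst this
      rw [hgd, hgc]; rwa [swap_comm]
    have h7 : y ≠ a := by
      rintro rfl
      exact h4 (huniq (Ne.symm hne) hyx hab h1)
    have h8 : y ≠ b := by
      rintro rfl
      exact h3 (huniq (Ne.symm hne) hyx (Ne.symm hab) hba)
    have h9 : y ≠ c := by
      rintro rfl
      exact h6 (huniq (Ne.symm hne) hyx hcd h2)
    have h10 : y ≠ d := by
      rintro rfl
      exact h5 (huniq (Ne.symm hne) hyx (Ne.symm hcd) hdc)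
    rw [hgo x h3 h4 h5 h6, hgo y h7 h8 h9 h10]
    exact hxy
  intro x y
  refine ⟨hforward x y, fun h => ?_⟩
  have := hforward _ _ h
  rwa [hgg, hgg] at this

/-- The stabiliser of the bipartition `{S, Sᶜ}`. -/
def biStab (S : Set X) : Subgroup (Perm X) where
  carrier := {g | (∀ y, y ∈ S ↔ g y ∈ S) ∨ (∀ y, y ∈ S ↔ g y ∉ S)}
  one_mem' := Or.inl fun y => Iff.rfl
  mul_mem' := by
    rintro a b (ha | ha) (hb | hb)
    · exact Or.inl fun y => (hb y).trans (ha (b y))
    · exact Or.inr fun y => (hb y).trans (not_congr (ha (b y)))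
    · exact Or.inr fun y => (hb y).trans (ha (b y))
    · refine Or.inl fun y => (hb y).trans ?_
      rw [ha (b y)]
      show ¬ ¬ (a (b y)) ∈ S ↔ (a (b y)) ∈ S
      exact not_not
  inv_mem' := by
    rintro a (ha | ha)
    · refine Or.inl fun y => ?_
      have := ha (a⁻¹ y)
      have h2 : a (a⁻¹ y) = y := a.apply_symm_apply y
      rw [h2] at this
      exact this.symm
    · refine Or.inr fun y => ?_
      have := ha (a⁻¹ y)
      have h2 : a (a⁻¹ y) = y := a.apply_symm_apply y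
      rw [h2] at this
      rw [this, not_not]

theorem swap_mem_biStab_same {S : Set X} {x y : X} (h : x ∈ S ↔ y ∈ S) : swap x y ∈ biStab S := by
  refine Or.inl fun z => ?_
  by_cases h1 : z = x
  · subst h1; rw [swap_apply_left]; exact h
  by_cases h2 : z = y
  · subst h2; rw [swap_apply_right]; exact h.symm
  rw [swap_apply_of_ne_of_ne h1 h2]

/-- Case II: no fixed points, an invariant bipartition. -/
theorem case_two (R : Sylow 2 (Perm X)) (hn : 5 ≤ Fintype.card X)
    (hmove : ∀ x, ∃ y, y ≠ x ∧ swap x y ∈ R) (S : Set X) {a₀ c₀ : X} (ha₀ : a₀ ∈ S) (hc₀ : c₀ ∉ S)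
    (hS : (R : Subgroup (Perm X)) ≤ biStab S) :
    ∃ H₁ H₂ : Subgroup (Perm X), (R : Subgroup (Perm X)) ≤ H₁ ∧ (R : Subgroup (Perm X)) ≤ H₂ ∧
      H₁ ≠ ⊤ ∧ H₂ ≠ ⊤ ∧ H₁ ⊔ H₂ = ⊤ := by
  have hpg : IsPGroup 2 (R : Subgroup (Perm X)) := R.isPGroup'
  -- partners stay on the same side
  have hside : ∀ x y, y ≠ x → swap x y ∈ R → (x ∈ S ↔ y ∈ S) := by
    intro x y hxy hs
    rcases hS hs with h | h
    · have := h x
      rwa [swap_apply_left] at this
    · exfalso
      obtain ⟨e, he⟩ : ∃ e, e ∉ ({x, y} : Finset X) := by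
        by_contra hc
        push Not at hc
        have h1 : (Finset.univ : Finset X) ⊆ {x, y} := fun z _ => hc z
        have h2 := Finset.card_le_card h1
        have h3 : ({x, y} : Finset X).card ≤ 2 := Finset.card_le_two
        rw [Finset.card_univ] at h2
        omega
      simp only [Finset.mem_insert, Finset.mem_singleton, not_or] at he
      have := h e
      rw [swap_apply_of_ne_of_ne he.1 he.2] at this
      exact (iff_not_self this).elim
  obtain ⟨b, hba, hab⟩ := hmove a₀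
  obtain ⟨d, hdc, hcd⟩ := hmove c₀
  have hbS : b ∈ S := (hside _ _ hba hab).1 ha₀
  have hdS : d ∉ S := fun h => hc₀ ((hside _ _ hdc hcd).2 h)
  have hac : a₀ ≠ c₀ := fun h => hc₀ (h ▸ ha₀)
  have had : a₀ ≠ d := fun h => hdS (h ▸ ha₀)
  have hbc : b ≠ c₀ := fun h => hc₀ (h ▸ hbS)
  have hbd : b ≠ d := fun h => hdS (h ▸ hbS)
  have hg : swap a₀ c₀ * swap b d ∈ pairStab (R : Subgroup (Perm X)) :=
    exch_mem_pairStab hpg (Ne.symm hba) hac had hbc hbd (Ne.symm hdc) hab hcd
  refine ⟨biStab S, pairStab (R : Subgroup (Perm X)), hS, le_pairStab _, ?_, ?_, ?_⟩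
  · intro h
    have h1 : swap a₀ c₀ ∈ biStab S := by rw [h]; trivial
    rcases h1 with h2 | h2
    · have := h2 a₀
      rw [swap_apply_left] at this
      exact hc₀ (this.1 ha₀)
    · have := h2 b
      rw [swap_apply_of_ne_of_ne hba hbc] at this
      exact (iff_not_self this).elim
  · intro h
    have h1 : swap b c₀ ∈ pairStab (R : Subgroup (Perm X)) := by rw [h]; trivial
    have h2 := (h1 a₀ b).1 hab
    rw [swap_apply_of_ne_of_ne (Ne.symm hba) hac, swap_apply_left] at h2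
    exact hbc (no_three hpg hba (Ne.symm hac) hab h2)
  · set L := biStab S ⊔ pairStab (R : Subgroup (Perm X)) with hL
    have hsame : ∀ x y, (x ∈ S ↔ y ∈ S) → swap x y ∈ L := fun x y h =>
      (le_sup_left : biStab S ≤ L) (swap_mem_biStab_same h)
    have hgL : swap a₀ c₀ * swap b d ∈ L := (le_sup_right : _ ≤ L) hg
    obtain ⟨e, he⟩ : ∃ e, e ∉ ({a₀, b, c₀, d} : Finset X) := by
      by_contra hc
      push Not at hc
      have h1 : (Finset.univ : Finset X) ⊆ {a₀, b, c₀, d} := fun z _ => hc z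
      have h2 := Finset.card_le_card h1
      have h3 : ({a₀, b, c₀, d} : Finset X).card ≤ 4 := Finset.card_le_four
      rw [Finset.card_univ] at h2
      omega
    simp only [Finset.mem_insert, Finset.mem_singleton, not_or] at he
    obtain ⟨he1, he2, he3, he4⟩ := he
    have hge : (swap a₀ c₀ * swap b d) e = e := by
      simp [Perm.mul_apply, swap_apply_of_ne_of_ne he2 he4, swap_apply_of_ne_of_ne he1 he3]
    have hga : (swap a₀ c₀ * swap b d) a₀ = c₀ := by
      simp [Perm.mul_apply, swap_apply_of_ne_of_ne (Ne.symm hba) had]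
    have hgc : (swap a₀ c₀ * swap b d) c₀ = a₀ := by
      simp [Perm.mul_apply, swap_apply_of_ne_of_ne (Ne.symm hbc) (Ne.symm hdc)]
    -- a crossing swap
    obtain ⟨u, v, hu, hv, huv⟩ : ∃ u v, u ∈ S ∧ v ∉ S ∧ swap u v ∈ L := by
      by_cases heS : e ∈ S
      · have h1 := L.mul_mem (L.mul_mem hgL (hsame a₀ e ⟨fun _ => heS, fun _ => ha₀⟩)) (L.inv_mem hgL)
        rw [conj_swap, hga, hge] at h1
        refine ⟨e, c₀, heS, hc₀, ?_⟩
        rwa [swap_comm]
      · have h1 := L.mul_mem (L.mul_mem hgL (hsame c₀ e ⟨fun h => (hc₀ h).elim, fun h => (heS h).elim⟩)) (L.inv_mem hgL)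
        rw [conj_swap, hgc, hge] at h1
        exact ⟨a₀, e, ha₀, heS, h1⟩
    have hcross : ∀ x y, x ∈ S → y ∉ S → swap x y ∈ L := by
      intro x y hx hy
      have h1 := hsame x u ⟨fun _ => hu, fun _ => hx⟩
      have h2 := hsame v y ⟨fun h => (hv h).elim, fun h => (hy h).elim⟩
      exact swap_mem_trans (swap_mem_trans h1 huv) h2
    apply top_of_swaps
    intro x y
    by_cases hx : x ∈ S
    · by_cases hy : y ∈ S
      · exact hsame x y ⟨fun _ => hy, fun _ => hx⟩
      · exact hcross x y hx hy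
    · by_cases hy : y ∈ S
      · rw [swap_comm]; exact hcross y x hy hx
      · exact hsame x y ⟨fun h => (hx h).elim, fun h => (hy h).elim⟩

/-- A transitive 2-group has an invariant bipartition. -/
theorem exists_bipartition {P α : Type*} [Group P] [Finite P] [MulAction P α]
    [IsPretransitive P α] (hP : IsPGroup 2 P) (x z : α) (hxz : x ≠ z) :
    ∃ S : Set α, x ∈ S ∧ (∃ w, w ∉ S) ∧ ∀ g : P, (∀ y, y ∈ S ↔ g • y ∈ S) ∨ (∀ y, y ∈ S ↔ g • y ∉ S) := by
  classical
  obtain ⟨m, hm⟩ := IsPGroup.iff_card.mp hP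
  have hst : IsPGroup 2 (stabilizer P x) := hP.to_subgroup _
  obtain ⟨j, hj⟩ := IsPGroup.iff_card.mp hst
  have hne : stabilizer P x ≠ ⊤ := by
    intro h
    obtain ⟨g, hg⟩ := exists_smul_eq P x z
    have : g ∈ stabilizer P x := by rw [h]; trivial
    rw [mem_stabilizer_iff] at this
    exact hxz (this.symm.trans hg)
  have hjm : j < m := by
    by_contra hc
    push Not at hc
    apply hne
    apply Subgroup.eq_top_of_card_eq
    apply Nat.dvd_antisymm (Subgroup.card_subgroup_dvd_card _)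
    rw [hj, hm]
    exact pow_dvd_pow 2 hc
  have : Fact (Nat.Prime 2) := ⟨Nat.prime_two⟩
  obtain ⟨W, hWc, hW⟩ := Sylow.exists_subgroup_card_pow_prime_le 2 (m := m - 1)
    (by rw [hm]; exact pow_dvd_pow 2 (Nat.sub_le m 1)) (stabilizer P x) hj (by omega)
  have hidx : W.index = 2 := by
    have h1 := W.card_mul_index
    rw [hWc, hm] at h1
    have h2 : 2 ^ m = 2 ^ (m - 1) * 2 := by
      rw [← pow_succ]; congr 1; omega
    rw [h2] at h1
    exact Nat.eq_of_mul_eq_mul_left (by positivity) h1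
  have hWmul : ∀ {a b : P}, a ∉ W → b ∉ W → a * b ∈ W := by
    intro a b ha hb
    rw [Subgroup.mul_mem_iff_of_index_two hidx]
    exact ⟨fun h => (ha h).elim, fun h => (hb h).elim⟩
  have hWmul2 : ∀ {a b : P}, a ∉ W → b ∈ W → a * b ∉ W := by
    intro a b ha hb h
    rw [Subgroup.mul_mem_iff_of_index_two hidx] at h
    exact ha (h.2 hb)
  let S : Set α := {y | ∃ w ∈ W, w • x = y}
  have hout : ∀ g : P, g ∉ W → ∀ y, y ∈ S ↔ g • y ∉ S := by
    intro g hg y
    constructor
    · rintro ⟨w, hw, rfl⟩ ⟨w', hw', h3⟩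
      have h4 : w'⁻¹ * (g * w) ∈ stabilizer P x := by
        rw [mem_stabilizer_iff, mul_smul, mul_smul, ← h3, inv_smul_smul]
      have h5 := hW h4
      have h6 := W.mul_mem hw' h5
      rw [mul_inv_cancel_left] at h6
      exact hWmul2 hg hw h6
    · intro h
      obtain ⟨s, rfl⟩ := exists_smul_eq P x y
      by_cases hs : s ∈ W
      · exact ⟨s, hs, rfl⟩
      · exfalso
        apply h
        exact ⟨g * s, hWmul hg hs, mul_smul _ _ _⟩
  have hne2 : ∃ g : P, g ∉ W := by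
    by_contra hc
    push Not at hc
    have : W = ⊤ := by rw [eq_top_iff]; exact fun g _ => hc g
    rw [this, Subgroup.index_top] at hidx
    omega
  obtain ⟨g₀, hg₀⟩ := hne2
  have hxS : x ∈ S := ⟨1, W.one_mem, one_smul _ _⟩
  refine ⟨S, hxS, ⟨g₀ • x, (hout g₀ hg₀ x).1 hxS⟩, fun g => ?_⟩
  by_cases hg : g ∈ W
  · refine Or.inl fun y => ⟨?_, ?_⟩
    · rintro ⟨w, hw, rfl⟩
      exact ⟨g * w, W.mul_mem hg hw, mul_smul _ _ _⟩
    · rintro ⟨w, hw, h3⟩
      refine ⟨g⁻¹ * w, W.mul_mem (W.inv_mem hg) hw, ?_⟩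
      rw [mul_smul, h3, inv_smul_smul]
  · exact Or.inr (hout g hg)

/-- A fixed point with a transitive action on the rest, or two subgroups as wanted. -/
theorem two_or_rest (R : Sylow 2 (Perm X)) (hn : 5 ≤ Fintype.card X) :
    (∃ x₀, (∀ t ∈ R, t x₀ = x₀) ∧ ∀ y z, y ≠ x₀ → z ≠ x₀ → ∃ t ∈ R, t y = z) ∨
    ∃ H₁ H₂ : Subgroup (Perm X), (R : Subgroup (Perm X)) ≤ H₁ ∧ (R : Subgroup (Perm X)) ≤ H₂ ∧
      H₁ ≠ ⊤ ∧ H₂ ≠ ⊤ ∧ H₁ ⊔ H₂ = ⊤ := by
  by_cases hf : ∃ x₀, ∀ t ∈ R, t x₀ = x₀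
  · obtain ⟨x₀, hx₀⟩ := hf
    by_cases ht : ∀ y z, y ≠ x₀ → z ≠ x₀ → ∃ t ∈ R, t y = z
    · exact Or.inl ⟨x₀, hx₀, ht⟩
    right
    push Not at ht
    obtain ⟨y, z, hy, hz, hyz⟩ := ht
    let H₁ : Subgroup (Perm X) := stabilizer (Perm X) x₀
    let O : Set X := {w | ∃ s ∈ R, s y = w}
    let H₂ : Subgroup (Perm X) :=
      { carrier := {g | ∀ w, w ∈ O ↔ g w ∈ O}
        one_mem' := fun w => Iff.rfl
        mul_mem' := fun {a b} ha hb w => (hb w).trans (ha (b w))
        inv_mem' := fun {a} ha w => by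
          have := ha (a⁻¹ w)
          have h2 : a (a⁻¹ w) = w := a.apply_symm_apply w
          rw [h2] at this
          exact this.symm }
    have hswapH₂ : ∀ u v, (u ∈ O ↔ v ∈ O) → swap u v ∈ H₂ := by
      intro u v h w
      by_cases h1 : w = u
      · subst h1; rw [swap_apply_left]; exact h
      by_cases h2 : w = v
      · subst h2; rw [swap_apply_right]; exact h.symm
      rw [swap_apply_of_ne_of_ne h1 h2]
    have hyO : y ∈ O := ⟨1, R.one_mem, rfl⟩
    have hzO : z ∉ O := by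
      rintro ⟨s, hs, h3⟩
      exact hyz s hs h3
    have hx₀O : x₀ ∉ O := by
      rintro ⟨s, hs, h3⟩
      apply hy
      have h4 := hx₀ s hs
      exact s.injective (h3.trans h4.symm)
    refine ⟨H₁, H₂, ?_, ?_, ?_, ?_, ?_⟩
    · intro t ht
      exact hx₀ t ht
    · intro g hg w
      constructor
      · rintro ⟨s, hs, rfl⟩
        exact ⟨g * s, R.mul_mem hg hs, rfl⟩
      · rintro ⟨s, hs, h2⟩
        refine ⟨g⁻¹ * s, R.mul_mem (R.inv_mem hg) hs, ?_⟩
        show g⁻¹ (s y) = w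
        rw [h2]
        exact g.symm_apply_apply w
    · intro h
      have h1 : swap x₀ y ∈ H₁ := by rw [h]; trivial
      have h2 : swap x₀ y • x₀ = x₀ := h1
      rw [Perm.smul_def, swap_apply_left] at h2
      exact hy h2
    · intro h
      have h1 : swap y z ∈ H₂ := by rw [h]; trivial
      have := (h1 y).1 hyO
      rw [swap_apply_left] at this
      exact hzO this
    · apply top_of_swaps
      have h1 : ∀ u v, u ≠ x₀ → v ≠ x₀ → swap u v ∈ H₁ ⊔ H₂ := by
        intro u v hu hv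
        apply (le_sup_left : H₁ ≤ H₁ ⊔ H₂)
        show swap u v • x₀ = x₀
        exact swap_apply_of_ne_of_ne (Ne.symm hu) (Ne.symm hv)
      have h2 : swap x₀ z ∈ H₁ ⊔ H₂ :=
        (le_sup_right : H₂ ≤ H₁ ⊔ H₂) (hswapH₂ _ _ ⟨fun h => (hx₀O h).elim, fun h => (hzO h).elim⟩)
      have h3 : ∀ v, swap x₀ v ∈ H₁ ⊔ H₂ := by
        intro v
        by_cases hv : v = x₀
        · subst hv; rw [swap_self]; exact Subgroup.one_mem _
        exact swap_mem_trans h2 (h1 z v hz hv)
      intro u v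
      by_cases hu : u = x₀
      · subst hu; exact h3 v
      by_cases hv : v = x₀
      · subst hv; rw [swap_comm]; exact h3 u
      exact h1 u v hu hv
  · right
    push Not at hf
    have hmove : ∀ x, ∃ y, y ≠ x ∧ swap x y ∈ R := by
      intro x
      obtain ⟨t, ht, hx⟩ := hf x
      exact partner R ht hx
    have hnon : ∃ x z : X, x ≠ z := by
      have : Nontrivial X := Fintype.one_lt_card_iff_nontrivial.mp (by omega)
      exact exists_pair_ne X
    obtain ⟨x, z, hxz⟩ := hnon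
    by_cases ht : ∀ y, ∃ t ∈ R, t x = y
    · -- transitive case
      have : IsPretransitive (R : Subgroup (Perm X)) X := by
        refine ⟨fun u v => ?_⟩
        obtain ⟨s, hs, h1⟩ := ht u
        obtain ⟨s', hs', h2⟩ := ht v
        refine ⟨⟨s' * s⁻¹, R.mul_mem hs' (R.inv_mem hs)⟩, ?_⟩
        show s' (s⁻¹ u) = v
        rw [← h1]
        show s' (s⁻¹ (s x)) = v
        rw [show s⁻¹ (s x) = x from s.symm_apply_apply x, h2]
      obtain ⟨S, hxS, ⟨w, hw⟩, hS⟩ := exists_bipartition (P := (R : Subgroup (Perm X))) R.isPGroup' x z hxz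
      exact case_two R hn hmove S hxS hw (fun g hg => hS ⟨g, hg⟩)
    · push Not at ht
      obtain ⟨w, hw⟩ := ht
      let S : Set X := {y | ∃ t ∈ R, t x = y}
      have hxS : x ∈ S := ⟨1, R.one_mem, rfl⟩
      have hwS : w ∉ S := by
        rintro ⟨t, ht, h⟩
        exact hw t ht h
      refine case_two R hn hmove S hxS hwS ?_
      intro g hg
      refine Or.inl fun y => ⟨?_, ?_⟩
      · rintro ⟨s, hs, rfl⟩
        exact ⟨g * s, R.mul_mem hg hs, rfl⟩
      · rintro ⟨s, hs, h2⟩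
        refine ⟨g⁻¹ * s, R.mul_mem (R.inv_mem hg) hs, ?_⟩
        show g⁻¹ (s x) = y
        rw [h2]
        exact g.symm_apply_apply y


/-- Reduction to the symmetric group: `T` normalises the even parts of `H₁` and `H₂`. -/
theorem an_join {T H₁ H₂ : Subgroup (Perm X)} (h1 : T ≤ H₁) (h2 : T ≤ H₂) {τ : Perm X} (hτ : τ ∈ T)
    (hsign : sign τ = -1) (hs : H₁ ⊔ H₂ = ⊤) :
    alternatingGroup X ≤ (H₁ ⊓ alternatingGroup X) ⊔ (H₂ ⊓ alternatingGroup X) := by
  set A := alternatingGroup X with hA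
  set L := (H₁ ⊓ A) ⊔ (H₂ ⊓ A) with hL
  have hLA : L ≤ A := sup_le inf_le_right inf_le_right
  have hAn : A.Normal := alternatingGroup.normal
  have hconj : ∀ t ∈ T, ∀ l ∈ L, t * l * t⁻¹ ∈ L := by
    intro t ht
    have h3 : L ≤ L.comap (MulAut.conj t).toMonoidHom := by
      apply sup_le
      · rintro g ⟨hg1, hg2⟩
        apply (le_sup_left : H₁ ⊓ A ≤ L)
        exact ⟨H₁.mul_mem (H₁.mul_mem (h1 ht) hg1) (H₁.inv_mem (h1 ht)), hAn.conj_mem g hg2 t⟩
      · rintro g ⟨hg1, hg2⟩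
        apply (le_sup_right : H₂ ⊓ A ≤ L)
        exact ⟨H₂.mul_mem (H₂.mul_mem (h2 ht) hg1) (H₂.inv_mem (h2 ht)), hAn.conj_mem g hg2 t⟩
    intro l hl
    exact h3 hl
  let U : Subgroup (Perm X) :=
    { carrier := {g | ∃ l ∈ L, ∃ t ∈ T, g = l * t}
      one_mem' := ⟨1, L.one_mem, 1, T.one_mem, by simp⟩
      mul_mem' := by
        rintro _ _ ⟨l₁, hl₁, t₁, ht₁, rfl⟩ ⟨l₂, hl₂, t₂, ht₂, rfl⟩
        exact ⟨l₁ * (t₁ * l₂ * t₁⁻¹), L.mul_mem hl₁ (hconj t₁ ht₁ l₂ hl₂), t₁ * t₂, T.mul_mem ht₁ ht₂, by group⟩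
      inv_mem' := by
        rintro _ ⟨l, hl, t, ht, rfl⟩
        exact ⟨t⁻¹ * l⁻¹ * t⁻¹⁻¹, hconj _ (T.inv_mem ht) _ (L.inv_mem hl), t⁻¹, T.inv_mem ht, by group⟩ }
  have hsgn : ∀ g : Perm X, sign g = 1 ∨ sign g = -1 := fun g => Int.units_eq_one_or _
  have hmemA : ∀ g : Perm X, sign g = -1 → g * τ⁻¹ ∈ A := by
    intro g hg
    rw [hA, mem_alternatingGroup, Perm.sign_mul, sign_inv, hg, hsign]
    rfl
  have hH₁U : H₁ ≤ U := by
    intro g hg
    rcases hsgn g with h | h
    · exact ⟨g, (le_sup_left : H₁ ⊓ A ≤ L) ⟨hg, h⟩, 1, T.one_mem, by simp⟩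
    · exact ⟨g * τ⁻¹, (le_sup_left : H₁ ⊓ A ≤ L) ⟨H₁.mul_mem hg (H₁.inv_mem (h1 hτ)), hmemA g h⟩, τ, hτ, by group⟩
  have hH₂U : H₂ ≤ U := by
    intro g hg
    rcases hsgn g with h | h
    · exact ⟨g, (le_sup_right : H₂ ⊓ A ≤ L) ⟨hg, h⟩, 1, T.one_mem, by simp⟩
    · exact ⟨g * τ⁻¹, (le_sup_right : H₂ ⊓ A ≤ L) ⟨H₂.mul_mem hg (H₂.inv_mem (h2 hτ)), hmemA g h⟩, τ, hτ, by group⟩
  have hU : U = ⊤ := by
    rw [eq_top_iff, ← hs]
    exact sup_le hH₁U hH₂U
  intro a ha
  have hau : a ∈ U := by rw [hU]; trivial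
  obtain ⟨l, hl, t, ht, rfl⟩ := hau
  have h3 : t ∈ A := by
    have := A.mul_mem (A.inv_mem (hLA hl)) ha
    rwa [inv_mul_cancel_left] at this
  exact L.mul_mem hl ((le_sup_left : H₁ ⊓ A ≤ L) ⟨h1 ht, h3⟩)

/-- The alternating group version of `not_unique`. -/
theorem an_not_unique {R₀ : Subgroup (alternatingGroup X)} {T H₁ H₂ : Subgroup (Perm X)}
    (hR₀ : R₀.map (alternatingGroup X).subtype ≤ T) (h1 : T ≤ H₁) (h2 : T ≤ H₂)
    {τ : Perm X} (hτ : τ ∈ T) (hsign : sign τ = -1)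
    (hH1 : H₁ ≠ ⊤) (hH2 : H₂ ≠ ⊤) (hs : H₁ ⊔ H₂ = ⊤) :
    ¬ ∃! M : Subgroup (alternatingGroup X), IsCoatom M ∧ R₀ ≤ M := by
  have hR : ∀ r ∈ R₀, (r : Perm X) ∈ T := fun r hr => hR₀ ⟨r, hr, rfl⟩
  have hprop : ∀ H : Subgroup (Perm X), τ ∈ H → H ≠ ⊤ → H.subgroupOf (alternatingGroup X) ≠ ⊤ := by
    intro H hτH hH h
    apply hH
    rw [eq_top_iff]
    intro g _
    have hAH : ∀ a ∈ alternatingGroup X, a ∈ H := by
      intro a ha
      have : (⟨a, ha⟩ : alternatingGroup X) ∈ H.subgroupOf (alternatingGroup X) := by rw [h]; trivial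
      exact this
    rcases Int.units_eq_one_or (sign g) with h3 | h3
    · exact hAH g h3
    · have h4 : g * τ⁻¹ ∈ alternatingGroup X := by
        rw [mem_alternatingGroup, Perm.sign_mul, sign_inv, h3, hsign]
        rfl
      have h5 := H.mul_mem (hAH _ h4) hτH
      rwa [inv_mul_cancel_right] at h5
  refine not_unique (H₁ := H₁.subgroupOf (alternatingGroup X)) (H₂ := H₂.subgroupOf (alternatingGroup X)) ?_ ?_
    (hprop H₁ (h1 hτ) hH1) (hprop H₂ (h2 hτ) hH2) ?_
  · intro r hr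
    exact h1 (hR r hr)
  · intro r hr
    exact h2 (hR r hr)
  · have h3 := an_join h1 h2 hτ hsign hs
    rw [eq_top_iff]
    rintro ⟨a, ha⟩ _
    have h4 : (H₁ ⊓ alternatingGroup X) ⊔ (H₂ ⊓ alternatingGroup X) ≤ (H₁.subgroupOf (alternatingGroup X) ⊔ H₂.subgroupOf (alternatingGroup X)).map (alternatingGroup X).subtype := by
      rw [Subgroup.map_sup, Subgroup.subgroupOf_map_subtype, Subgroup.subgroupOf_map_subtype]
    obtain ⟨b, hb, hba⟩ := h4 (h3 ha)
    have : b = ⟨a, ha⟩ := Subtype.ext hba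
    rwa [this] at hb

theorem exists_swap (R : Sylow 2 (Perm X)) (hn : 2 ≤ Fintype.card X) : ∃ x y, x ≠ y ∧ swap x y ∈ R := by
  have hd : 2 ∣ Nat.card (Perm X) := by
    rw [Nat.card_eq_fintype_card, Fintype.card_perm]
    exact Nat.dvd_factorial (by norm_num) hn
  have : Fact (Nat.Prime 2) := ⟨Nat.prime_two⟩
  have h1 := R.ne_bot_of_dvd_card hd
  obtain ⟨t, ht, h2⟩ := (Subgroup.ne_bot_iff_exists_ne_one).mp h1 |>.elim (fun a ha => (⟨a.1, a.2, fun h => ha (Subtype.ext h)⟩ : ∃ t, t ∈ (R : Subgroup (Perm X)) ∧ t ≠ 1))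
  obtain ⟨x, hx⟩ : ∃ x, t x ≠ x := by
    by_contra hc
    push Not at hc
    exact h2 (Equiv.ext hc)
  obtain ⟨y, hy, hxy⟩ := partner R ht hx
  exact ⟨x, y, Ne.symm hy, hxy⟩

theorem odd_fixed (R : Sylow 2 (Perm X)) (hn : ¬ 2 ∣ Fintype.card X) : ∃ x₀, ∀ t ∈ R, t x₀ = x₀ := by
  have : Fact (Nat.Prime 2) := ⟨Nat.prime_two⟩
  obtain ⟨x₀, hx₀⟩ := IsPGroup.nonempty_fixed_point_of_prime_not_dvd_card (R.isPGroup' : IsPGroup 2 (R : Subgroup (Perm X))) X
    (by rwa [Nat.card_eq_fintype_card])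
  exact ⟨x₀, fun t ht => hx₀ ⟨t, ht⟩⟩

theorem trans_rest (R : Sylow 2 (Perm X)) {x₀ : X} (hx₀ : ∀ t ∈ R, t x₀ = x₀) {k : ℕ}
    (hk : Fintype.card X = 2 ^ k + 1) : ∀ y z, y ≠ x₀ → z ≠ x₀ → ∃ t ∈ R, t y = z := by
  classical
  let G' : Subgroup (Perm X) := stabilizer (Perm X) x₀
  have hRG : (R : Subgroup (Perm X)) ≤ G' := fun t ht => hx₀ t ht
  let P : Sylow 2 G' := R.subtype hRG
  have : Fact (Nat.Prime 2) := ⟨Nat.prime_two⟩
  let α := {y : X // y ≠ x₀}
  have hfix : ∀ g : G', (g : Perm X) x₀ = x₀ := fun g => g.2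
  letI act : MulAction G' α :=
    { smul := fun g y => ⟨(g : Perm X) y.1, fun h => y.2 ((g : Perm X).injective (h.trans (hfix g).symm))⟩
      one_smul := fun y => rfl
      mul_smul := fun a b y => rfl }
  have hsm : ∀ (g : G') (y : α), ((g • y : α) : X) = (g : Perm X) y.1 := fun g y => rfl
  haveI htr : IsPretransitive G' α := by
    refine ⟨fun y z => ?_⟩
    have h0 : swap y.1 z.1 ∈ G' := by
      show swap y.1 z.1 • x₀ = x₀
      exact swap_apply_of_ne_of_ne (Ne.symm y.2) (Ne.symm z.2)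
    refine ⟨⟨_, h0⟩, Subtype.ext ?_⟩
    rw [hsm]
    exact swap_apply_left _ _
  have hcard : Nat.card α = 2 ^ k := by
    rw [Nat.card_eq_fintype_card]
    have : Fintype.card α = Fintype.card X - 1 := by
      show Fintype.card {y : X // ¬ y = x₀} = _
      rw [Fintype.card_subtype_compl, Fintype.card_subtype_eq]
    rw [this, hk, Nat.add_sub_cancel]
  haveI h3 := H03.isPretransitive_sylow (G := G') (α := α) k hcard P
  intro y z hy hz
  obtain ⟨g, hg⟩ := exists_smul_eq (P : Subgroup G') (⟨y, hy⟩ : α) (⟨z, hz⟩ : α)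
  have hgR : ((g : G') : Perm X) ∈ (R : Subgroup (Perm X)) := g.2
  exact ⟨_, hgR, congrArg Subtype.val hg⟩

/-- A 2-transitivity criterion. -/
theorem prim_of {N : Subgroup (Perm X)} {x₀ : X}
    (hN : ∀ y z, y ≠ x₀ → z ≠ x₀ → ∃ t ∈ N, t x₀ = x₀ ∧ t y = z) {h : Perm X} (hh : h ∈ N)
    (hmv : h x₀ ≠ x₀) : IsPreprimitive N X := by
  set y₀ := h x₀ with hy₀
  have hto : ∀ a, ∃ g ∈ N, g a = x₀ := by
    intro a
    by_cases ha : a = x₀
    · subst ha; exact ⟨1, N.one_mem, rfl⟩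
    obtain ⟨t, ht, _, h2⟩ := hN a y₀ ha hmv
    refine ⟨h⁻¹ * t, N.mul_mem (N.inv_mem hh) ht, ?_⟩
    show h⁻¹ (t a) = x₀
    rw [h2, hy₀]
    exact h.symm_apply_apply x₀
  have hbase : ∀ a b, a ≠ b → ∃ g ∈ N, g a = x₀ ∧ g b = y₀ := by
    intro a b hab
    obtain ⟨g, hg, hga⟩ := hto a
    have hb : g b ≠ x₀ := fun h2 => hab (g.injective (hga.trans h2.symm))
    obtain ⟨t, ht, h3, h4⟩ := hN (g b) y₀ hb hmv
    refine ⟨t * g, N.mul_mem ht hg, ?_, h4⟩
    show t (g a) = x₀
    rw [hga, h3]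
  apply isPreprimitive_of_is_two_pretransitive
  rw [is_two_pretransitive_iff]
  intro a b c d hab hcd
  obtain ⟨g₁, hg₁, h1, h2⟩ := hbase a b hab
  obtain ⟨g₂, hg₂, h3, h4⟩ := hbase c d hcd
  refine ⟨⟨g₂⁻¹ * g₁, N.mul_mem (N.inv_mem hg₂) hg₁⟩, ?_, ?_⟩
  · show g₂⁻¹ (g₁ a) = c
    rw [h1, ← h3]
    exact g₂.symm_apply_apply c
  · show g₂⁻¹ (g₁ b) = d
    rw [h2, ← h4]
    exact g₂.symm_apply_apply d

theorem key_S (R : Sylow 2 (Perm X)) {x₀ : X} (hx₀ : ∀ t ∈ R, t x₀ = x₀)
    (htr : ∀ y z, y ≠ x₀ → z ≠ x₀ → ∃ t ∈ R, t y = z) (hn : 2 ≤ Fintype.card X)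
    {N : Subgroup (Perm X)} (hRN : (R : Subgroup (Perm X)) ≤ N) {h : Perm X} (hh : h ∈ N)
    (hmv : h x₀ ≠ x₀) : N = ⊤ := by
  have hp : IsPreprimitive N X := by
    refine prim_of (x₀ := x₀) (fun y z hy hz => ?_) hh hmv
    obtain ⟨t, ht, h2⟩ := htr y z hy hz
    exact ⟨t, hRN ht, hx₀ t ht, h2⟩
  obtain ⟨a, b, hab, hs⟩ := exists_swap R hn
  exact subgroup_eq_top_of_isPreprimitive_of_isSwap_mem hp (swap a b) ⟨a, b, hab, rfl⟩ (hRN hs)

/-- Partners of the points other than the fixed point. -/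
theorem hmove_of (R : Sylow 2 (Perm X)) {x₀ : X} (hx₀ : ∀ t ∈ R, t x₀ = x₀)
    (htr : ∀ y z, y ≠ x₀ → z ≠ x₀ → ∃ t ∈ R, t y = z) (hn : 3 ≤ Fintype.card X) :
    ∀ x, x ≠ x₀ → ∃ y, y ≠ x ∧ y ≠ x₀ ∧ swap x y ∈ R := by
  intro x hx
  obtain ⟨r, hr⟩ : ∃ r, r ∉ ({x₀, x} : Finset X) := by
    by_contra hc
    push Not at hc
    have h1 : (Finset.univ : Finset X) ⊆ {x₀, x} := fun z _ => hc z
    have h2 := Finset.card_le_card h1
    have h3 : ({x₀, x} : Finset X).card ≤ 2 := Finset.card_le_two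
    rw [Finset.card_univ] at h2
    omega
  simp only [Finset.mem_insert, Finset.mem_singleton, not_or] at hr
  obtain ⟨t, ht, h2⟩ := htr x r hx hr.1
  have hmv : t x ≠ x := by rw [h2]; exact hr.2
  obtain ⟨y, hy, hs⟩ := partner R ht hmv
  refine ⟨y, hy, ?_, hs⟩
  rintro rfl
  have h3 := hx₀ _ hs
  rw [swap_apply_right] at h3
  exact hx h3

theorem trans_even (R : Sylow 2 (Perm X)) {x₀ : X} (hx₀ : ∀ t ∈ R, t x₀ = x₀)
    (htr : ∀ y z, y ≠ x₀ → z ≠ x₀ → ∃ t ∈ R, t y = z) (hn : 5 ≤ Fintype.card X) :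
    ∀ y z, y ≠ x₀ → z ≠ x₀ → ∃ t ∈ R, sign t = 1 ∧ t y = z := by
  intro y z hy hz
  obtain ⟨t, ht, h2⟩ := htr y z hy hz
  rcases Int.units_eq_one_or (sign t) with h3 | h3
  · exact ⟨t, ht, h3, h2⟩
  have hm := hmove_of R hx₀ htr (by omega)
  obtain ⟨y', hy'1, hy'2, hy'3⟩ := hm y hy
  obtain ⟨r, hr⟩ : ∃ r, r ∉ ({x₀, y, y'} : Finset X) := by
    by_contra hc
    push Not at hc
    have h1 : (Finset.univ : Finset X) ⊆ {x₀, y, y'} := fun z _ => hc z
    have h2 := Finset.card_le_card h1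
    have h3 : ({x₀, y, y'} : Finset X).card ≤ 3 := Finset.card_le_three
    rw [Finset.card_univ] at h2
    omega
  simp only [Finset.mem_insert, Finset.mem_singleton, not_or] at hr
  obtain ⟨s, hs1, hs2, hs3⟩ := hm r hr.1
  have hsy : y ≠ s := by
    rintro rfl
    exact hr.2.2 (no_three R.isPGroup' hr.2.1 hy'1 (by rwa [swap_comm]) hy'3)
  refine ⟨t * swap r s, R.mul_mem ht hs3, ?_, ?_⟩
  · rw [Perm.sign_mul, h3, sign_swap (Ne.symm hs1)]
    rfl
  · show t (swap r s y) = z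
    rw [swap_apply_of_ne_of_ne (Ne.symm hr.2.1) hsy, h2]

theorem sign_double {a b c d : X} (hab : a ≠ b) (hcd : c ≠ d) : sign (swap a b * swap c d) = 1 := by
  rw [Perm.sign_mul, sign_swap hab, sign_swap hcd]
  rfl

/-- The size when a fixed point comes with a transitive action on the rest. -/
theorem card_of_rest (R : Sylow 2 (Perm X)) (hn : 5 ≤ Fintype.card X) {x₀ : X} (hx₀ : ∀ t ∈ R, t x₀ = x₀)
    (htr : ∀ y z, y ≠ x₀ → z ≠ x₀ → ∃ t ∈ R, t y = z) : ∃ k : ℕ, 2 ≤ k ∧ Fintype.card X = 2 ^ k + 1 := by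
  have hne : ∃ y, y ≠ x₀ := by
    have : Nontrivial X := Fintype.one_lt_card_iff_nontrivial.mp (by omega)
    exact exists_ne x₀
  obtain ⟨y, hy⟩ := hne
  have : Fact (Nat.Prime 2) := ⟨Nat.prime_two⟩
  obtain ⟨k, hk⟩ := (R.isPGroup' : IsPGroup 2 (R : Subgroup (Perm X))).card_orbit y
  have h1 : orbit (R : Subgroup (Perm X)) y = {x₀}ᶜ := by
    ext z
    simp only [Set.mem_compl_iff, Set.mem_singleton_iff]
    constructor
    · rintro ⟨t, rfl⟩ h2
      apply hy
      have h3 := hx₀ t.1 t.2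
      exact t.1.injective (h2.trans h3.symm)
    · intro hz
      obtain ⟨t, ht, h2⟩ := htr y z hy hz
      exact ⟨⟨t, ht⟩, h2⟩
  have h2 : Nat.card ({x₀}ᶜ : Set X) = Fintype.card X - 1 := by
    rw [Nat.card_coe_set_eq, Set.ncard_compl, Set.ncard_singleton, Nat.card_eq_fintype_card]
  rw [h1, h2] at hk
  refine ⟨k, ?_, by omega⟩
  by_contra hc
  have : k = 0 ∨ k = 1 := by omega
  rcases this with rfl | rfl <;> omega

theorem supp_two (a b c d y : X) (h : (swap a b * swap c d) y ≠ y) : y = a ∨ y = b ∨ y = c ∨ y = d := by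
  by_contra hc
  push Not at hc
  apply h
  show swap a b (swap c d y) = y
  rw [swap_apply_of_ne_of_ne hc.2.2.1 hc.2.2.2, swap_apply_of_ne_of_ne hc.1 hc.2.1]

/-- The main case of the alternating group: `k ≥ 3`, at least nine points. -/
theorem key_A3 (R : Sylow 2 (Perm X)) {x₀ : X} (hx₀ : ∀ t ∈ R, t x₀ = x₀)
    (htr : ∀ y z, y ≠ x₀ → z ≠ x₀ → ∃ t ∈ R, t y = z) (hn : 9 ≤ Fintype.card X)
    {N : Subgroup (Perm X)} (hRN : ∀ t ∈ R, sign t = 1 → t ∈ N) {h : Perm X} (hh : h ∈ N)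
    (hmv : h x₀ ≠ x₀) : alternatingGroup X ≤ N := by
  have hev := trans_even R hx₀ htr (by omega)
  have hp : IsPreprimitive N X := by
    refine prim_of (x₀ := x₀) (fun y z hy hz => ?_) hh hmv
    obtain ⟨t, ht, h1, h2⟩ := hev y z hy hz
    exact ⟨t, hRN t ht h1, hx₀ t ht, h2⟩
  have hm := hmove_of R hx₀ htr (by omega)
  have hm' : ∀ x, ∃ y, x ≠ x₀ → (y ≠ x ∧ y ≠ x₀ ∧ swap x y ∈ R) := by
    intro x
    by_cases hx : x = x₀
    · exact ⟨x, fun h => (h hx).elim⟩
    · obtain ⟨y, hy⟩ := hm x hx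
      exact ⟨y, fun _ => hy⟩
  choose q hq using hm'
  have hpg : IsPGroup 2 (R : Subgroup (Perm X)) := R.isPGroup'
  have hqq : ∀ x, x ≠ x₀ → q (q x) = x := by
    intro x hx
    obtain ⟨h1, h2, h3⟩ := hq x hx
    obtain ⟨h4, h5, h6⟩ := hq (q x) h2
    exact no_three hpg h4 (Ne.symm h1) h6 (by rwa [swap_comm])
  have hpick : ∀ F : Finset X, F.card < 9 → ∃ r, r ∉ F := by
    intro F hF
    by_contra hc
    push Not at hc
    have h1 : (Finset.univ : Finset X) ⊆ F := fun z _ => hc z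
    have h2 := Finset.card_le_card h1
    rw [Finset.card_univ] at h2
    omega
  -- a first double transposition
  obtain ⟨a, ha⟩ := hpick {x₀} (by simp)
  simp only [Finset.mem_singleton] at ha
  obtain ⟨c, hc⟩ := hpick {x₀, a, q a} (lt_of_le_of_lt Finset.card_le_three (by norm_num))
  simp only [Finset.mem_insert, Finset.mem_singleton, not_or] at hc
  obtain ⟨hc1, hc2, hc3⟩ := hc
  obtain ⟨qa1, qa2, qa3⟩ := hq a ha
  obtain ⟨qc1, qc2, qc3⟩ := hq c hc1
  have hqca : q c ≠ a := by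
    intro h5
    apply hc3
    rw [← h5, hqq c hc1]
  have hqcb : q c ≠ q a := by
    intro h5
    apply hc2
    rw [← hqq c hc1, h5, hqq a ha]
  have ht0 : swap a (q a) * swap c (q c) ∈ N :=
    hRN _ (R.mul_mem qa3 qc3) (sign_double (Ne.symm qa1) (Ne.symm qc1))
  -- move `a` to `x₀`
  obtain ⟨g, hg, hga⟩ : ∃ g ∈ N, g a = x₀ := by
    obtain ⟨t, ht, h1, h2⟩ := hev a (h x₀) ha hmv
    refine ⟨h⁻¹ * t, N.mul_mem (N.inv_mem hh) (hRN t ht h1), ?_⟩
    show h⁻¹ (t a) = x₀
    rw [h2]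
    exact h.symm_apply_apply x₀
  set u := g (q a) with hu
  set v := g c with hv
  set w := g (q c) with hw
  have hinj : ∀ {y z}, y ≠ z → g y ≠ g z := fun hne h5 => hne (g.injective h5)
  have hux : u ≠ x₀ := by rw [← hga]; exact hinj qa1
  have hvx : v ≠ x₀ := by rw [← hga]; exact hinj hc2
  have hwx : w ≠ x₀ := by rw [← hga]; exact hinj hqca
  have huv : u ≠ v := hinj (Ne.symm hc3)
  have huw : u ≠ w := hinj (Ne.symm hqcb)
  have hvw : v ≠ w := hinj (Ne.symm qc1)
  have ht' : swap x₀ u * swap v w ∈ N := by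
    have := N.mul_mem (N.mul_mem hg ht0) (N.inv_mem hg)
    have h5 : g * (swap a (q a) * swap c (q c)) * g⁻¹
        = (g * swap a (q a) * g⁻¹) * (g * swap c (q c) * g⁻¹) := by group
    rw [h5, conj_swap, conj_swap, hga] at this
    exact this
  -- the point of overlap
  obtain ⟨z, hz, hzq⟩ : ∃ z, (z = u ∨ z = v ∨ z = w) ∧ (q z ≠ u ∧ q z ≠ v ∧ q z ≠ w) := by
    have qu := hqq u hux
    have qv := hqq v hvx
    have qw := hqq w hwx
    have nu := (hq u hux).1
    have nv := (hq v hvx).1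
    have nw := (hq w hwx).1
    by_cases e1 : q u = v
    · refine ⟨w, Or.inr (Or.inr rfl), ?_, ?_, nw⟩
      · intro e2
        rw [e2] at qw
        exact hvw (e1.symm.trans qw)
      · intro e2
        rw [e2] at qw
        have h6 : q v = u := by rw [← e1]; exact qu
        exact huw (h6.symm.trans qw)
    by_cases e3 : q u = w
    · refine ⟨v, Or.inr (Or.inl rfl), ?_, nv, ?_⟩
      · intro e2
        rw [e2] at qv
        exact hvw (qv.symm.trans e3)
      · intro e2
        rw [e2] at qv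
        have h6 : q w = u := by rw [← e3]; exact qu
        exact huv (h6.symm.trans qv)
    · exact ⟨u, Or.inl rfl, nu, e1, e3⟩
  obtain ⟨hzu, hzv, hzw⟩ := hzq
  have hzx : z ≠ x₀ := by
    rcases hz with rfl | rfl | rfl <;> assumption
  obtain ⟨qz1, qz2, qz3⟩ := hq z hzx
  obtain ⟨r, hr⟩ := hpick {x₀, u, v, w, q u, q v, q w}
    (lt_of_le_of_lt ((Finset.card_insert_le x₀ _).trans (Nat.succ_le_succ Finset.card_le_six)) (by norm_num))
  simp only [Finset.mem_insert, Finset.mem_singleton, not_or] at hr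
  obtain ⟨hr0, hr1, hr2, hr3, hr4, hr5, hr6⟩ := hr
  obtain ⟨qr1, qr2, qr3⟩ := hq r hr0
  have hsu : ∀ y, y ≠ x₀ → r ≠ q y → q r ≠ y := by
    intro y hy h7 h8
    apply h7
    rw [← h8, hqq r hr0]
  have hs1 := hsu u hux hr4
  have hs2 := hsu v hvx hr5
  have hs3 := hsu w hwx hr6
  have hrz : z ≠ r := by
    rcases hz with rfl | rfl | rfl
    · exact Ne.symm hr1
    · exact Ne.symm hr2
    · exact Ne.symm hr3
  have hrq : r ≠ q z := by
    rcases hz with rfl | rfl | rfl <;> assumption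
  have hsq : q r ≠ q z := by
    intro h7
    apply hrz
    rw [← hqq z hzx, ← h7, hqq r hr0]
  have hsz : z ≠ q r := by
    rcases hz with rfl | rfl | rfl
    · exact Ne.symm hs1
    · exact Ne.symm hs2
    · exact Ne.symm hs3
  have ht1 : swap z (q z) * swap r (q r) ∈ N :=
    hRN _ (R.mul_mem qz3 qr3) (sign_double (Ne.symm qz1) (Ne.symm qr1))
  have h3c := H17.Marg.three_overlap (swap x₀ u * swap v w) (swap z (q z) * swap r (q r)) z
    (by
      intro y h7 h8
      have h9 := supp_two _ _ _ _ _ h7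
      have h10 := supp_two _ _ _ _ _ h8
      rcases h10 with rfl | rfl | rfl | rfl
      · rfl
      · exfalso
        rcases h9 with h11 | h11 | h11 | h11
        · exact qz2 h11
        · exact hzu h11
        · exact hzv h11
        · exact hzw h11
      · exfalso
        rcases h9 with h11 | h11 | h11 | h11
        · exact hr0 h11
        · exact hr1 h11
        · exact hr2 h11
        · exact hr3 h11
      · exfalso
        rcases h9 with h11 | h11 | h11 | h11
        · exact qr2 h11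
        · exact hs1 h11
        · exact hs2 h11
        · exact hs3 h11)
    (by
      show swap x₀ u (swap v w z) ≠ z
      rcases hz with rfl | rfl | rfl
      · rw [swap_apply_of_ne_of_ne huv huw, swap_apply_right]
        exact Ne.symm hux
      · rw [swap_apply_left, swap_apply_of_ne_of_ne hwx (Ne.symm huw)]
        exact Ne.symm hvw
      · rw [swap_apply_right, swap_apply_of_ne_of_ne hvx (Ne.symm huv)]
        exact hvw)
    (by
      show swap z (q z) (swap r (q r) z) ≠ z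
      rw [swap_apply_of_ne_of_ne hrz hsz, swap_apply_left]
      exact qz1)
  exact alternatingGroup_le_of_isPreprimitive_of_isThreeCycle_mem hp h3c
    (N.mul_mem (N.mul_mem (N.mul_mem ht' ht1) (N.inv_mem ht')) (N.inv_mem ht1))

/-- Subgroups of `A₅` of order divisible by `4`, transitive on the five points, are everything. -/
theorem a5_key (N : Subgroup (alternatingGroup (Fin 5))) (h4 : 4 ∣ Nat.card N) (x₀ : Fin 5)
    (ht : ∀ y, ∃ g ∈ N, (g : Perm (Fin 5)) x₀ = y) : N = ⊤ := by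
  have hc : Nat.card (alternatingGroup (Fin 5)) = 60 := by
    have h1 := two_mul_card_alternatingGroup (α := Fin 5)
    rw [Fintype.card_perm, Fintype.card_fin] at h1
    rw [Nat.card_eq_fintype_card]
    have h2 : Nat.factorial 5 = 120 := rfl
    omega
  have h5 : 5 ∣ Nat.card N := by
    have h1 := MulAction.index_stabilizer N x₀
    have h2 : MulAction.orbit N x₀ = Set.univ := by
      ext y
      simp only [Set.mem_univ, iff_true]
      obtain ⟨g, hg, h3⟩ := ht y
      exact ⟨⟨g, hg⟩, h3⟩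
    rw [h2, Set.ncard_univ, Nat.card_eq_fintype_card, Fintype.card_fin] at h1
    have h6 : (stabilizer N x₀).index ∣ Nat.card N := Subgroup.index_dvd_card _
    rwa [h1] at h6
  have h20 : 20 ∣ Nat.card N :=
    Nat.Coprime.mul_dvd_of_dvd_of_dvd (by norm_num) h4 h5
  have hcm := N.card_mul_index
  rw [hc] at hcm
  obtain ⟨m, hm⟩ := h20
  rw [hm] at hcm
  have h3 : m * N.index = 3 := by nlinarith
  have hidx : N.index = 1 ∨ N.index = 3 := by
    have h6 : N.index ∣ 3 := ⟨m, by rw [mul_comm]; exact h3.symm⟩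
    exact (Nat.dvd_prime Nat.prime_three).mp h6
  rcases hidx with hidx | hidx
  · exact Subgroup.index_eq_one.mp hidx
  exfalso
  haveI := alternatingGroup.isSimpleGroup_five
  let φ := MulAction.toPermHom (alternatingGroup (Fin 5)) (alternatingGroup (Fin 5) ⧸ N)
  rcases IsSimpleGroup.eq_bot_or_eq_top_of_normal φ.ker (MonoidHom.normal_ker φ) with h6 | h6
  · have h7 : Function.Injective φ := (MonoidHom.ker_eq_bot_iff φ).mp h6
    have h8 := Subgroup.card_dvd_of_injective φ h7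
    rw [Nat.card_perm, hc, ← Subgroup.index_eq_card, hidx] at h8
    revert h8
    decide
  · have h7 : N = ⊤ := by
      rw [eq_top_iff]
      intro g _
      have h8 : g ∈ φ.ker := by rw [h6]; trivial
      have h9 : φ g = 1 := h8
      have h10 : g • (QuotientGroup.mk 1 : alternatingGroup (Fin 5) ⧸ N) = QuotientGroup.mk 1 := by
        have := congrArg (fun f : Perm (alternatingGroup (Fin 5) ⧸ N) => f (QuotientGroup.mk 1)) h9
        exact this
      have h11 : (QuotientGroup.mk g : alternatingGroup (Fin 5) ⧸ N) = QuotientGroup.mk 1 := by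
        rw [← h10, MulAction.Quotient.smul_coe]
        simp
      have h12 := QuotientGroup.eq.mp h11
      simpa using h12
    rw [h7, Subgroup.index_top] at hidx
    omega

/-- The symmetric group. -/
theorem main_perm (hn : 5 ≤ Fintype.card X) (R : Sylow 2 (Perm X)) :
    (∃! M : Subgroup (Perm X), IsCoatom M ∧ (R : Subgroup (Perm X)) ≤ M) ↔
      ∃ k : ℕ, 2 ≤ k ∧ Fintype.card X = 2 ^ k + 1 := by
  constructor
  · intro huniq
    rcases two_or_rest R hn with ⟨x₀, hx₀, htr⟩ | ⟨H₁, H₂, h1, h2, h3, h4, h5⟩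
    · exact card_of_rest R hn hx₀ htr
    · exact (not_unique h1 h2 h3 h4 h5 huniq).elim
  · rintro ⟨k, hk, hcard⟩
    obtain ⟨x₀, hx₀⟩ := odd_fixed R (by
      rw [hcard]
      obtain ⟨j, rfl⟩ : ∃ j, k = j + 1 := ⟨k - 1, by omega⟩
      rw [pow_succ]
      omega)
    have htr := trans_rest R hx₀ hcard
    refine unique_of_key (M₀ := stabilizer (Perm X) x₀) (fun t ht => hx₀ t ht) ?_ ?_
    · intro h
      obtain ⟨a, b, hab, hs⟩ := exists_swap R (by omega)
      obtain ⟨y, hy⟩ : ∃ y, y ≠ x₀ := by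
        have : Nontrivial X := Fintype.one_lt_card_iff_nontrivial.mp (by omega)
        exact exists_ne x₀
      have h1 : swap x₀ y ∈ stabilizer (Perm X) x₀ := by rw [h]; trivial
      have h2 : swap x₀ y • x₀ = x₀ := h1
      rw [Perm.smul_def, swap_apply_left] at h2
      exact hy h2
    · intro N hRN hN
      obtain ⟨h, hh, hmv⟩ := SetLike.not_le_iff_exists.mp hN
      exact key_S R hx₀ htr (by omega) hRN hh hmv

/-- The alternating group, all in one. -/
theorem main_alt (n : ℕ) (hn : 5 ≤ n) (R₀ : Sylow 2 (alternatingGroup (Fin n))) :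
    (∃! M : Subgroup (alternatingGroup (Fin n)), IsCoatom M ∧ (R₀ : Subgroup (alternatingGroup (Fin n))) ≤ M) ↔
      ∃ k : ℕ, 2 ≤ k ∧ n = 2 ^ k + 1 := by
  have hcn : Fintype.card (Fin n) = n := Fintype.card_fin n
  have : Fact (Nat.Prime 2) := ⟨Nat.prime_two⟩
  -- the ambient Sylow subgroup
  have hQ : IsPGroup 2 ((R₀ : Subgroup (alternatingGroup (Fin n))).map (alternatingGroup (Fin n)).subtype) :=
    R₀.isPGroup'.map _
  obtain ⟨T, hT⟩ := hQ.exists_le_sylow
  have hR₀T : ∀ t ∈ T, ∀ ht : t ∈ alternatingGroup (Fin n), (⟨t, ht⟩ : alternatingGroup (Fin n)) ∈ (R₀ : Subgroup (alternatingGroup (Fin n))) := by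
    intro t ht ht2
    have h1 : IsPGroup 2 ((T : Subgroup (Perm (Fin n))).subgroupOf (alternatingGroup (Fin n))) :=
      T.isPGroup'.comap_of_injective _ (alternatingGroup (Fin n)).subtype_injective
    have h2 : (R₀ : Subgroup (alternatingGroup (Fin n))) ≤ (T : Subgroup (Perm (Fin n))).subgroupOf (alternatingGroup (Fin n)) := by
      intro r hr
      exact hT ⟨r, hr, rfl⟩
    have h3 := R₀.is_maximal' h1 h2
    rw [← h3]
    exact ht
  constructor
  · intro huniq
    rcases two_or_rest T (by rw [hcn]; exact hn) with ⟨x₀, hx₀, htr⟩ | ⟨H₁, H₂, h1, h2, h3, h4, h5⟩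
    · have := card_of_rest T (by rw [hcn]; exact hn) hx₀ htr
      rwa [hcn] at this
    · obtain ⟨a, b, hab, hs⟩ := exists_swap T (by rw [hcn]; omega)
      exact (an_not_unique hT h1 h2 hs (sign_swap hab) h3 h4 h5 huniq).elim
  · rintro ⟨k, hk, hcard⟩
    have hcard' : Fintype.card (Fin n) = 2 ^ k + 1 := by rw [hcn]; exact hcard
    obtain ⟨x₀, hx₀⟩ := odd_fixed T (by
      rw [hcard']
      obtain ⟨j, rfl⟩ : ∃ j, k = j + 1 := ⟨k - 1, by omega⟩
      rw [pow_succ]
      omega)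
    have htr := trans_rest T hx₀ hcard'
    have hmemT : ∀ t ∈ T, sign t = 1 → t ∈ (alternatingGroup (Fin n)) := fun t _ h => h
    refine unique_of_key (M₀ := (stabilizer (Perm (Fin n)) x₀).subgroupOf (alternatingGroup (Fin n)))
      (fun t ht => hx₀ _ (hT ⟨t, ht, rfl⟩)) ?_ ?_
    · intro h
      obtain ⟨y, hy⟩ : ∃ y, y ≠ x₀ := by
        have : Nontrivial (Fin n) := Fintype.one_lt_card_iff_nontrivial.mp (by omega)
        exact exists_ne x₀
      obtain ⟨z, hz⟩ : ∃ z, z ∉ ({x₀, y} : Finset (Fin n)) := by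
        by_contra hc
        push Not at hc
        have h1 : (Finset.univ : Finset (Fin n)) ⊆ {x₀, y} := fun z _ => hc z
        have h2 := Finset.card_le_card h1
        have h3 : ({x₀, y} : Finset (Fin n)).card ≤ 2 := Finset.card_le_two
        rw [Finset.card_univ] at h2
        omega
      simp only [Finset.mem_insert, Finset.mem_singleton, not_or] at hz
      have h0 : swap x₀ y * swap y z ∈ alternatingGroup (Fin n) :=
        sign_double (Ne.symm hy) (Ne.symm hz.2)
      have h1 : (⟨_, h0⟩ : alternatingGroup (Fin n)) ∈ (stabilizer (Perm (Fin n)) x₀).subgroupOf (alternatingGroup (Fin n)) := by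
        rw [h]; trivial
      have h2 : (swap x₀ y * swap y z) • x₀ = x₀ := h1
      rw [Perm.smul_def] at h2
      have h3 : swap x₀ y (swap y z x₀) = x₀ := h2
      rw [swap_apply_of_ne_of_ne (Ne.symm hy) (Ne.symm hz.1), swap_apply_left] at h3
      exact hy h3
    · intro N hRN hN
      obtain ⟨h, hh, hmv⟩ := SetLike.not_le_iff_exists.mp hN
      have hmv' : (h : Perm (Fin n)) x₀ ≠ x₀ := hmv
      by_cases hk3 : 3 ≤ k
      · have h9 : 9 ≤ Fintype.card (Fin n) := by
          rw [hcard']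
          have := Nat.pow_le_pow_right (show 0 < 2 by norm_num) hk3
          omega
        have hA : alternatingGroup (Fin n) ≤ N.map (alternatingGroup (Fin n)).subtype := by
          refine key_A3 T hx₀ htr h9 (h := (h : Perm (Fin n))) (fun t ht hs => ?_) ⟨h, hh, rfl⟩ hmv'
          exact ⟨⟨t, hs⟩, hRN (hR₀T t ht hs), rfl⟩
        rw [eq_top_iff]
        rintro ⟨a, ha⟩ _
        obtain ⟨b, hb, hba⟩ := hA ha
        have : b = ⟨a, ha⟩ := Subtype.ext hba
        rwa [this] at hb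
      · have hk2 : k = 2 := by omega
        subst hk2
        have hn5 : n = 5 := by omega
        subst hn5
        have h4 : 4 ∣ Nat.card N := by
          have h6 : (2 : ℕ) ^ 2 ∣ Nat.card (alternatingGroup (Fin 5)) := by
            have h1 := two_mul_card_alternatingGroup (α := Fin 5)
            rw [Fintype.card_perm, Fintype.card_fin] at h1
            rw [Nat.card_eq_fintype_card]
            have h2 : Nat.factorial 5 = 120 := rfl
            have h3 : Fintype.card (alternatingGroup (Fin 5)) = 60 := by omega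
            rw [h3]
            norm_num
          have h7 := R₀.pow_dvd_card_of_pow_dvd_card h6
          exact h7.trans (Subgroup.card_dvd_of_le hRN)
        have hev := trans_even T hx₀ htr (by omega)
        refine a5_key N h4 x₀ (fun y => ?_)
        by_cases hy : y = x₀
        · subst hy; exact ⟨1, N.one_mem, rfl⟩
        obtain ⟨t, ht, h5, h6⟩ := hev _ y hmv' hy
        refine ⟨(⟨t, h5⟩ : alternatingGroup (Fin 5)) * h, N.mul_mem (hRN (hR₀T t ht h5)) hh, ?_⟩
        exact h6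

end Cfsg.Agent.H21.SylSn
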