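import Mathlib

/-!
# Sylow subgroups of symmetric and alternating groups: `P / P'` has exponent `p`

The Sylow subgroup of `S_{pm + r}` is taken as `C_p ≀ Q` with `Q` a Sylow subgroup of `S_m`, acting on
`ZMod p × β`.
-/

set_option autoImplicit false
set_option linter.unusedSectionVars false
set_option linter.style.haveILetI false
set_option linter.unusedSimpArgs false

namespace Cfsg.Agent.H21.SymS

open Equiv

universe u

/-- The `p`-th power of each element lies in the derived subgroup. -/
def Good (p : ℕ) {G : Type*} [Group G] (H : Subgroup G) : Prop := ∀ x ∈ H, x ^ p ∈ ⁅H, H⁆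

theorem Good.map {p : ℕ} {G K : Type*} [Group G] [Group K] {H : Subgroup G} (h : Good p H)
    (φ : G →* K) : Good p (H.map φ) := by
  rintro _ ⟨y, hy, rfl⟩
  rw [← map_pow, ← Subgroup.map_commutator]
  exact ⟨_, h y hy, rfl⟩

section Wreath

variable {p : ℕ} [hp : Fact p.Prime] {β : Type*}

/-- The elements of the wreath product acting on `ZMod p × β`. -/
def fPerm (c : β → ZMod p) (π : Perm β) : Perm (ZMod p × β) where
  toFun x := (x.1 + c x.2, π x.2)
  invFun x := (x.1 - c (π⁻¹ x.2), π⁻¹ x.2)
  left_inv := by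
    intro x
    simp
  right_inv := by
    intro x
    simp

@[simp] theorem fPerm_apply (c : β → ZMod p) (π : Perm β) (x : ZMod p × β) :
    fPerm c π x = (x.1 + c x.2, π x.2) := rfl

theorem fPerm_mul (c d : β → ZMod p) (π σ : Perm β) :
    fPerm c π * fPerm d σ = fPerm (d + c ∘ σ) (π * σ) := by
  ext x
  · simp [add_assoc]
  · simp

theorem fPerm_one : fPerm (0 : β → ZMod p) (1 : Perm β) = 1 := by
  ext x
  · simp
  · simp

theorem fPerm_inv (c : β → ZMod p) (π : Perm β) :
    (fPerm c π)⁻¹ = fPerm (-(c ∘ ⇑π⁻¹)) π⁻¹ := by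
  rw [inv_eq_iff_mul_eq_one, fPerm_mul, ← fPerm_one (p := p) (β := β)]
  have h1 : π * π⁻¹ = 1 := mul_inv_cancel π
  have h2 : (-(c ∘ ⇑π⁻¹) + c ∘ ⇑π⁻¹) = 0 := by
    funext j
    simp
  rw [h1, h2]

theorem fPerm_inj {c d : β → ZMod p} {π σ : Perm β} (h : fPerm c π = fPerm d σ) :
    c = d ∧ π = σ := by
  constructor
  · funext j
    have := congrArg Prod.fst (congrArg (fun f : Perm (ZMod p × β) => f (0, j)) h)
    simpa using this
  · ext j
    have := congrArg Prod.snd (congrArg (fun f : Perm (ZMod p × β) => f (0, j)) h)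
    simpa using this

/-- The wreath product. -/
def wr (Q : Subgroup (Perm β)) : Subgroup (Perm (ZMod p × β)) where
  carrier := {f | ∃ c : β → ZMod p, ∃ π ∈ Q, f = fPerm c π}
  mul_mem' := by
    rintro _ _ ⟨c, π, hπ, rfl⟩ ⟨d, σ, hσ, rfl⟩
    exact ⟨_, _, mul_mem hπ hσ, fPerm_mul _ _ _ _⟩
  one_mem' := ⟨0, 1, one_mem _, fPerm_one.symm⟩
  inv_mem' := by
    rintro _ ⟨c, π, hπ, rfl⟩
    exact ⟨_, _, inv_mem hπ, fPerm_inv _ _⟩

theorem fPerm_mem (Q : Subgroup (Perm β)) (c : β → ZMod p) {π : Perm β} (hπ : π ∈ Q) :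
    fPerm c π ∈ wr (p := p) Q := ⟨c, π, hπ, rfl⟩

theorem card_wr [Fintype β] (Q : Subgroup (Perm β)) :
    Nat.card (wr (p := p) Q) = p ^ Fintype.card β * Nat.card Q := by
  classical
  haveI : NeZero p := ⟨hp.out.ne_zero⟩
  let F : (β → ZMod p) × Q → wr (p := p) Q := fun x => ⟨fPerm x.1 x.2, x.1, x.2, x.2.2, rfl⟩
  have hF : Function.Bijective F := by
    constructor
    · rintro ⟨c, π⟩ ⟨d, σ⟩ h
      have h1 := fPerm_inj (congrArg Subtype.val h)
      have h2 : π = σ := Subtype.ext h1.2
      exact Prod.ext h1.1 h2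
    · rintro ⟨_, c, π, hπ, rfl⟩
      exact ⟨(c, ⟨π, hπ⟩), rfl⟩
  rw [← Nat.card_congr (Equiv.ofBijective F hF), Nat.card_prod, Nat.card_fun, Nat.card_zmod,
    Nat.card_eq_fintype_card]

/-- The homomorphism from the top group. -/
def topHom (p : ℕ) [Fact p.Prime] (β : Type*) : Perm β →* Perm (ZMod p × β) where
  toFun σ := fPerm 0 σ
  map_one' := fPerm_one
  map_mul' a b := by
    rw [fPerm_mul]
    congr 1
    funext j
    simp

@[simp] theorem topHom_apply (σ : Perm β) : topHom p β σ = fPerm 0 σ := rfl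

/-- The additivity of the base group. -/
theorem fPerm_add (c d : β → ZMod p) : fPerm c 1 * fPerm d 1 = fPerm (c + d) (1 : Perm β) := by
  rw [fPerm_mul]
  congr 1
  funext j
  simp [add_comm]

theorem fPerm_decomp (d : β → ZMod p) (σ : Perm β) : fPerm d σ = fPerm 0 σ * fPerm d 1 := by
  rw [fPerm_mul]
  congr 1
  funext j
  simp

/-- A commutator in the wreath product. -/
theorem comm_fPerm (d : β → ZMod p) (σ : Perm β) :
    (fPerm d 1) * (fPerm 0 σ⁻¹) * (fPerm d 1)⁻¹ * (fPerm 0 σ⁻¹)⁻¹ = fPerm (d - d ∘ σ) 1 := by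
  rw [fPerm_inv, fPerm_inv]
  simp only [fPerm_mul]
  congr 1
  · funext j
    simp
    ring
  · simp

/-- Powers in the wreath product. -/
theorem fPerm_pow (c : β → ZMod p) (π : Perm β) (k : ℕ) :
    (fPerm c π) ^ k = fPerm (∑ i ∈ Finset.range k, c ∘ ⇑(π ^ i)) (π ^ k) := by
  induction k with
  | zero => simp [fPerm_one]
  | succ k ih =>
    rw [pow_succ, ih, fPerm_mul, pow_succ]
    congr 1
    rw [Finset.sum_range_succ', add_comm]
    funext j
    simp [Finset.sum_apply, pow_succ]

/-- The sum along an orbit, modulo augmentation. -/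
theorem csum_mem {T : Subgroup (Perm (ZMod p × β))} (c : β → ZMod p) (π : Perm β)
    (hT : ∀ i : ℕ, fPerm (c - c ∘ ⇑(π ^ i)) 1 ∈ T) (k : ℕ) (hk : (k : ZMod p) = 0) :
    fPerm (∑ i ∈ Finset.range k, c ∘ ⇑(π ^ i)) (1 : Perm β) ∈ T := by
  -- the elements of the base lying in `T` form an additive subgroup
  have hsub : ∀ s : Finset ℕ, fPerm (∑ i ∈ s, (c - c ∘ ⇑(π ^ i))) (1 : Perm β) ∈ T := by
    intro s
    induction s using Finset.induction_on with
    | empty =>
      simp only [Finset.sum_empty]
      rw [fPerm_one]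
      exact one_mem _
    | insert a s ha ih =>
      rw [Finset.sum_insert ha, ← fPerm_add]
      exact mul_mem (hT a) ih
  have h1 := inv_mem (hsub (Finset.range k))
  rw [fPerm_inv] at h1
  have h2 : (-((∑ i ∈ Finset.range k, (c - c ∘ ⇑(π ^ i))) ∘ ⇑(1 : Perm β)⁻¹)) =
      ∑ i ∈ Finset.range k, c ∘ ⇑(π ^ i) := by
    funext j
    simp only [Function.comp_apply, inv_one, Perm.coe_one, id_eq, Pi.neg_apply, Finset.sum_apply,
      Pi.sub_apply]
    rw [Finset.sum_sub_distrib]
    simp only [Finset.sum_const, Finset.card_range, nsmul_eq_mul, hk, zero_mul, zero_sub, neg_neg]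
  rw [h2, inv_one] at h1
  exact h1

/-- The exponent property passes to the wreath product. -/
theorem wr_good (Q : Subgroup (Perm β)) (hQ : Good p Q) : Good p (wr (p := p) Q) := by
  rintro _ ⟨c, π, hπ, rfl⟩
  rw [fPerm_pow, fPerm_decomp]
  refine mul_mem ?_ ?_
  · have h1 : topHom p β (π ^ p) ∈ (⁅Q, Q⁆ : Subgroup (Perm β)).map (topHom p β) :=
      ⟨_, hQ π hπ, rfl⟩
    rw [Subgroup.map_commutator] at h1
    have hle : Q.map (topHom p β) ≤ wr (p := p) Q := by
      rintro _ ⟨σ, hσ, rfl⟩
      exact fPerm_mem Q 0 hσ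
    exact Subgroup.commutator_mono hle hle h1
  · refine csum_mem c π ?_ p (by simp)
    intro i
    rw [← comm_fPerm]
    exact Subgroup.commutator_mem_commutator (fPerm_mem Q c (one_mem _))
      (fPerm_mem Q 0 (inv_mem (pow_mem hπ i)))

/-- The sign of the top group in characteristic two. -/
theorem sign_top [Fintype β] [DecidableEq β] (hp2 : p = 2) (σ : Perm β) :
    Perm.sign (fPerm (p := p) 0 σ) = 1 := by
  subst hp2
  have h1 : fPerm (p := 2) 0 σ = Equiv.prodCongrRight (fun _ : ZMod 2 => σ) := by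
    ext x
    · simp
    · simp
  rw [h1, Perm.sign_prodCongrRight]
  simp only [Finset.prod_const, Finset.card_univ, ZMod.card]
  rw [pow_two, Int.units_mul_self]

/-- The exponent property for the even part of the wreath product, at the prime two. -/
theorem wr_good_alt [Fintype β] [DecidableEq β] (hp2 : p = 2) (Q : Subgroup (Perm β))
    (hQ : Good p Q) : Good p (wr (p := p) Q ⊓ alternatingGroup (ZMod p × β)) := by
  haveI : NeZero p := ⟨hp.out.ne_zero⟩
  rintro _ ⟨⟨c, π, hπ, rfl⟩, hA⟩
  have hsign : Perm.sign (fPerm c π) = 1 := Equiv.Perm.mem_alternatingGroup.1 hA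
  have hsign2 : Perm.sign (fPerm c (1 : Perm β)) = 1 := by
    rw [fPerm_decomp, map_mul, sign_top hp2, one_mul] at hsign
    exact hsign
  have htop : ∀ σ ∈ Q, fPerm 0 σ ∈ wr (p := p) Q ⊓ alternatingGroup (ZMod p × β) := fun σ hσ =>
    ⟨fPerm_mem Q 0 hσ, Equiv.Perm.mem_alternatingGroup.2 (sign_top hp2 σ)⟩
  rw [fPerm_pow, fPerm_decomp]
  refine mul_mem ?_ ?_
  · have h1 : topHom p β (π ^ p) ∈ (⁅Q, Q⁆ : Subgroup (Perm β)).map (topHom p β) :=
      ⟨_, hQ π hπ, rfl⟩
    rw [Subgroup.map_commutator] at h1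
    have hle : Q.map (topHom p β) ≤ wr (p := p) Q ⊓ alternatingGroup (ZMod p × β) := by
      rintro _ ⟨σ, hσ, rfl⟩
      exact htop σ hσ
    exact Subgroup.commutator_mono hle hle h1
  · refine csum_mem c π ?_ p (by simp)
    intro i
    rw [← comm_fPerm]
    exact Subgroup.commutator_mem_commutator
      ⟨fPerm_mem Q c (one_mem _), Equiv.Perm.mem_alternatingGroup.2 hsign2⟩
      (htop _ (inv_mem (pow_mem hπ i)))

end Wreath

section Main

variable {p : ℕ} [hp : Fact p.Prime]

/-- An injective sign-preserving homomorphism carries the properties along. -/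
theorem map_inf_alt {δ γ : Type*} [Fintype δ] [DecidableEq δ] [Fintype γ] [DecidableEq γ]
    (φ : Perm δ →* Perm γ) (hsign : ∀ x, Perm.sign (φ x) = Perm.sign x) (W : Subgroup (Perm δ)) :
    W.map φ ⊓ alternatingGroup γ = (W ⊓ alternatingGroup δ).map φ := by
  ext y
  constructor
  · rintro ⟨⟨x, hx, rfl⟩, hA⟩
    refine ⟨x, ⟨hx, ?_⟩, rfl⟩
    have hA' : Perm.sign (φ x) = 1 := Equiv.Perm.mem_alternatingGroup.1 hA
    rw [hsign] at hA'
    exact Equiv.Perm.mem_alternatingGroup.2 hA'
  · rintro ⟨x, ⟨hx, hA⟩, rfl⟩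
    refine ⟨⟨x, hx, rfl⟩, ?_⟩
    have hA' : Perm.sign x = 1 := Equiv.Perm.mem_alternatingGroup.1 hA
    refine Equiv.Perm.mem_alternatingGroup.2 ?_
    rw [hsign, hA']

/-- The existence of a good Sylow subgroup. -/
theorem exists_good : ∀ (n : ℕ) (α : Type) [Fintype α] [DecidableEq α], Fintype.card α = n →
    ∃ W : Subgroup (Perm α), Nat.card W = p ^ (Nat.card (Perm α)).factorization p ∧ Good p W ∧
      (p = 2 → Good p (W ⊓ alternatingGroup α)) := by
  intro n
  induction n using Nat.strong_induction_on with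
  | _ n ih =>
  intro α _ _ hα
  have hpp : p.Prime := hp.out
  haveI : NeZero p := ⟨hpp.ne_zero⟩
  have hcardP : Nat.card (Perm α) = Nat.factorial n := by
    rw [Nat.card_eq_fintype_card, Fintype.card_perm, hα]
  by_cases hnp : n < p
  · refine ⟨⊥, ?_, ?_, ?_⟩
    · rw [hcardP, Subgroup.card_bot, Nat.factorization_eq_zero_of_not_dvd, pow_zero]
      rw [hpp.dvd_factorial]
      omega
    · intro x hx
      rw [Subgroup.mem_bot] at hx
      rw [hx, one_pow]
      exact one_mem _
    · intro _ x hx
      have hx' : x = 1 := hx.1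
      rw [hx', one_pow]
      exact one_mem _
  · have hm0 : 0 < n / p := Nat.div_pos (not_lt.1 hnp) hpp.pos
    have hmn : n / p < n := Nat.div_lt_self (lt_of_lt_of_le hpp.pos (not_lt.1 hnp)) hpp.one_lt
    obtain ⟨Q, hQc, hQg, -⟩ := ih (n / p) hmn (Fin (n / p)) (by simp)
    have hcardm : Nat.card (Perm (Fin (n / p))) = Nat.factorial (n / p) := by
      rw [Nat.card_eq_fintype_card, Fintype.card_perm, Fintype.card_fin]
    have hdecomp : p * (n / p) + n % p = n := Nat.div_add_mod n p
    have hval : (Nat.factorial n).factorization p = (Nat.factorial (n / p)).factorization p + n / p := by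
      rw [Nat.factorization_def _ hpp, Nat.factorization_def _ hpp]
      conv_lhs => rw [← hdecomp]
      rw [padicValNat_factorial_mul_add _ (Nat.mod_lt n hpp.pos), padicValNat_factorial_mul]
    have hcard : Fintype.card ((ZMod p × Fin (n / p)) ⊕ Fin (n % p)) = Fintype.card α := by
      rw [Fintype.card_sum, Fintype.card_prod, ZMod.card, Fintype.card_fin, Fintype.card_fin, hdecomp,
        hα]
    let e : (ZMod p × Fin (n / p)) ⊕ Fin (n % p) ≃ α := Fintype.equivOfCardEq hcard
    let φ : Perm (ZMod p × Fin (n / p)) →* Perm α :=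
      (e.permCongrHom.toMonoidHom).comp
        ((Equiv.Perm.sumCongrHom _ _).comp (MonoidHom.inl _ (Perm (Fin (n % p)))))
    have hφ : ∀ x, φ x = e.permCongr (Equiv.Perm.sumCongr x 1) := fun x => rfl
    have hφinj : Function.Injective φ := by
      intro x y h
      rw [hφ, hφ] at h
      have h1 := e.permCongr.injective h
      ext a
      · have := congrArg (fun f => (f (Sum.inl a))) h1
        simp only [Perm.sumCongr_apply, Sum.map_inl, Sum.inl.injEq] at this
        rw [this]
      · have := congrArg (fun f => (f (Sum.inl a))) h1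
        simp only [Perm.sumCongr_apply, Sum.map_inl, Sum.inl.injEq] at this
        rw [this]
    have hφsign : ∀ x, Perm.sign (φ x) = Perm.sign x := by
      intro x
      rw [hφ, Equiv.Perm.sign_permCongr, Equiv.Perm.sign_sumCongr, map_one, mul_one]
    refine ⟨(wr (p := p) Q).map φ, ?_, (wr_good Q hQg).map φ, ?_⟩
    · rw [Subgroup.card_map_of_injective hφinj, card_wr, hQc, hcardm, hcardP, hval,
        Fintype.card_fin, ← pow_add, add_comm]
    · intro hp2
      rw [map_inf_alt φ hφsign]
      exact (wr_good_alt hp2 Q hQg).map φ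

/-- The statement on Sylow subgroups of a symmetric group. -/
theorem good_sylow (n : ℕ) (P : Sylow p (Perm (Fin n))) :
    Good p (P : Subgroup (Perm (Fin n))) ∧
      (p = 2 → Good p ((P : Subgroup (Perm (Fin n))) ⊓ alternatingGroup (Fin n))) := by
  classical
  obtain ⟨W, hWc, hWg, hWa⟩ := exists_good (p := p) n (Fin n) (by simp)
  let S₀ : Sylow p (Perm (Fin n)) := Sylow.ofCard W hWc
  obtain ⟨g, hg⟩ := MulAction.exists_smul_eq (Perm (Fin n)) S₀ P
  have hP : (P : Subgroup (Perm (Fin n))) = W.map (MulAut.conj g).toMonoidHom := by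
    rw [← hg]
    ext x
    rfl
  rw [hP]
  refine ⟨hWg.map _, ?_⟩
  intro hp2
  have h1 : W.map (MulAut.conj g).toMonoidHom ⊓ alternatingGroup (Fin n) =
      (W ⊓ alternatingGroup (Fin n)).map (MulAut.conj g).toMonoidHom := by
    apply map_inf_alt
    intro x
    simp only [MulEquiv.toMonoidHom_eq_coe, MonoidHom.coe_coe, MulAut.conj_apply, map_mul, map_inv,
      Int.units_inv_eq_self]
    rw [mul_comm (Perm.sign g) (Perm.sign x), mul_assoc, Int.units_mul_self, mul_one]
  rw [h1]
  exact (hWa hp2).map _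

/-- The final statement. -/
theorem main (n : ℕ) (P : Sylow p (Perm (Fin n))) (Q : Sylow p (alternatingGroup (Fin n))) :
    (∀ x : (P : Subgroup (Perm (Fin n))), x ^ p ∈ commutator (P : Subgroup (Perm (Fin n)))) ∧
    (∀ x : (Q : Subgroup (alternatingGroup (Fin n))),
      x ^ p ∈ commutator (Q : Subgroup (alternatingGroup (Fin n)))) := by
  classical
  have hpp : p.Prime := hp.out
  have hconv : ∀ {G : Type _} [Group G] (H : Subgroup G) (x : H), ((x ^ p : H) : G) ∈ ⁅H, H⁆ →
      x ^ p ∈ commutator H := by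
    intro G _ H x hx
    rw [← Subgroup.map_subtype_commutator] at hx
    obtain ⟨y, hy, hyx⟩ := hx
    have : y = x ^ p := Subtype.ext hyx
    rwa [← this]
  constructor
  · intro x
    apply hconv
    exact (good_sylow n P).1 x x.2
  · intro x
    -- the image of `Q`
    have hQp : IsPGroup p ((Q : Subgroup (alternatingGroup (Fin n))).map
        (alternatingGroup (Fin n)).subtype) :=
      Q.isPGroup'.map _
    obtain ⟨P', hP'⟩ := hQp.exists_le_sylow
    -- `Q` is the part of `P'` in the alternating group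
    have hQeq : (Q : Subgroup (alternatingGroup (Fin n))).map (alternatingGroup (Fin n)).subtype =
        (P' : Subgroup (Perm (Fin n))) ⊓ alternatingGroup (Fin n) := by
      apply le_antisymm
      · apply le_inf hP'
        rintro _ ⟨z, -, rfl⟩
        exact z.2
      · rintro y ⟨hyP, hyA⟩
        have hp' : IsPGroup p ((P' : Subgroup (Perm (Fin n))).comap (alternatingGroup (Fin n)).subtype) := by
          rintro ⟨z, hz⟩
          obtain ⟨k, hk⟩ := P'.isPGroup' ⟨z.1, hz⟩
          refine ⟨k, ?_⟩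
          have h0 : (z : Perm (Fin n)) ^ p ^ k = 1 := by
            have := congrArg (fun w : (P' : Subgroup (Perm (Fin n))) => (w : Perm (Fin n))) hk
            simpa using this
          have h1 : z ^ p ^ k = 1 := Subtype.ext (by simpa using h0)
          exact Subtype.ext (by rw [Subgroup.coe_pow]; exact h1)
        have hle : (Q : Subgroup (alternatingGroup (Fin n))) ≤
            (P' : Subgroup (Perm (Fin n))).comap (alternatingGroup (Fin n)).subtype := by
          intro z hz
          exact hP' ⟨z, hz, rfl⟩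
        have heq := Q.is_maximal' hp' hle
        have hmem : (⟨y, hyA⟩ : alternatingGroup (Fin n)) ∈
            (P' : Subgroup (Perm (Fin n))).comap (alternatingGroup (Fin n)).subtype := hyP
        rw [heq] at hmem
        exact ⟨_, hmem, rfl⟩
    -- the exponent property
    have hgood : Good p ((P' : Subgroup (Perm (Fin n))) ⊓ alternatingGroup (Fin n)) := by
      by_cases hp2 : p = 2
      · exact (good_sylow n P').2 hp2
      · have hle : (P' : Subgroup (Perm (Fin n))) ≤ alternatingGroup (Fin n) := by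
          intro y hy
          rw [Equiv.Perm.mem_alternatingGroup]
          obtain ⟨k, hk⟩ := P'.isPGroup' ⟨y, hy⟩
          have h1 : y ^ p ^ k = 1 := by
            have := congrArg (fun w : (P' : Subgroup (Perm (Fin n))) => (w : Perm (Fin n))) hk
            simpa using this
          have h2 : (Perm.sign y) ^ p ^ k = 1 := by
            rw [← map_pow, h1, map_one]
          have hodd : Odd (p ^ k) := (hpp.odd_of_ne_two hp2).pow
          rcases Int.units_eq_one_or (Perm.sign y) with h3 | h3
          · exact h3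
          · rw [h3, hodd.neg_one_pow] at h2
            exact absurd h2 (by decide)
        rw [inf_eq_left.2 hle]
        exact (good_sylow n P').1
    have hx : ((x : alternatingGroup (Fin n)) : Perm (Fin n)) ∈
        (P' : Subgroup (Perm (Fin n))) ⊓ alternatingGroup (Fin n) := by
      rw [← hQeq]
      exact ⟨x, x.2, rfl⟩
    have h2 := hgood _ hx
    rw [← hQeq, ← Subgroup.map_commutator] at h2
    obtain ⟨y, hy, hyx⟩ := h2
    have hyx' : y = (x : alternatingGroup (Fin n)) ^ p := Subtype.ext (by simpa using hyx)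
    apply hconv
    have h3 : ((x ^ p : (Q : Subgroup (alternatingGroup (Fin n)))) : alternatingGroup (Fin n)) = y := by
      rw [hyx']
      simp
    rw [h3]
    exact hy

end Main

end Cfsg.Agent.H21.SymS
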